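import Cfsg.Agent.Lib.SuzukiBasic
import Cfsg.Agent.Lib.Aschbacher.Basic

/-!
The four-dimensional symplectic group in characteristic two: transvections given by vectors, and the conditions
on a simple subgroup.
-/

set_option autoImplicit false

namespace CfsgLib.Sp4Even

open Matrix Cfsg.Lie CfsgLib.Suzuki

variable {F : Type*} [Field F]

local notation "V" => (Fin 4 → F)
local notation "M4" => Matrix (Fin 4) (Fin 4) F
local notation "G4" => Matrix.GeneralLinearGroup (Fin 4) F

/-- The matrix of the transvection attached to a vector. -/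
def tvM (v : V) : M4 := 1 + vecMulVec v (J *ᵥ v)

theorem f_add_left (x y v : V) : altForm4 (x + y) v = altForm4 x v + altForm4 y v := by
  simp only [altForm4, Pi.add_apply]; ring

theorem f_add_right (x y v : V) : altForm4 v (x + y) = altForm4 v x + altForm4 v y := by
  simp only [altForm4, Pi.add_apply]; ring

theorem f_smul_left (a : F) (x v : V) : altForm4 (a • x) v = a * altForm4 x v := by
  simp only [altForm4, Pi.smul_apply, smul_eq_mul]; ring

theorem f_smul_right (a : F) (x v : V) : altForm4 v (a • x) = a * altForm4 v x := by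
  simp only [altForm4, Pi.smul_apply, smul_eq_mul]; ring

theorem f_comm (x y : V) : altForm4 x y = altForm4 y x := by simp only [altForm4]; ring

@[simp] theorem f_zero_left (v : V) : altForm4 0 v = 0 := by simp [altForm4]

@[simp] theorem f_zero_right (v : V) : altForm4 v 0 = 0 := by simp [altForm4]

theorem exists_f_ne {v : V} (hv : v ≠ 0) : ∃ w : V, altForm4 w v ≠ 0 := by
  obtain ⟨i, hi⟩ := Function.ne_iff.1 hv
  refine ⟨Pi.single i.rev 1, ?_⟩
  fin_cases i <;> simpa [altForm4, Fin.rev] using hi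

theorem det_eq_one_of_sq {g : G4} (hg : g ∈ Sp4 F) : g.1.det * g.1.det = 1 := by
  have h := congrArg Matrix.det ((mem_Sp4_iff g).1 hg)
  have hJ : (J : M4).det ≠ 0 := fun e => by
    have := congrArg Matrix.det (J_sq (F := F))
    simp [e] at this
  rw [Matrix.det_mul, Matrix.det_mul, Matrix.det_transpose] at h
  exact mul_right_cancel₀ hJ (by linear_combination h)

theorem f_map {g : G4} (hg : g ∈ Sp4 F) (x y : V) : altForm4 (g.1 *ᵥ x) (g.1 *ᵥ y) = altForm4 x y := hg x y

variable [CharP F 2]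

@[simp] theorem f_self (x : V) : altForm4 x x = 0 := by
  simp only [altForm4]
  linear_combination (x 0 * x 3 + x 1 * x 2) * (CharTwo.two_eq_zero : (2 : F) = 0)

theorem tvM_mulVec (v x : V) : tvM v *ᵥ x = x + altForm4 x v • v := by
  rw [tvM, Matrix.add_mulVec, Matrix.one_mulVec, Matrix.vecMulVec_mulVec, altForm4_eq, dotProduct_comm]
  simp

theorem tvM_sq (v : V) : tvM v * tvM v = 1 := by
  refine Matrix.ext_of_mulVec_single fun i => ?_
  rw [← Matrix.mulVec_mulVec, tvM_mulVec, tvM_mulVec, Matrix.one_mulVec, f_add_left, f_smul_left, f_self, mul_zero,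
    add_zero, add_assoc, ← add_smul, CharTwo.add_self_eq_zero, zero_smul, add_zero]

/-- The transvection of a vector, an element of order at most two. -/
def tv (v : V) : G4 := ⟨tvM v, tvM v, tvM_sq v, tvM_sq v⟩

theorem tv_apply (v x : V) : (tv v).1 *ᵥ x = x + altForm4 x v • v := tvM_mulVec v x

theorem gl_ext {g h : G4} (e : ∀ x : V, g.1 *ᵥ x = h.1 *ᵥ x) : g = h :=
  Units.ext (Matrix.ext_of_mulVec_single fun i => e _)

theorem tv_mem (v : V) : tv v ∈ Sp4 F := fun x y => by
  show altForm4 ((tv v).1 *ᵥ x) ((tv v).1 *ᵥ y) = _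
  simp only [tv_apply, f_add_left, f_add_right, f_smul_left, f_smul_right, f_self, f_comm v y]
  linear_combination (altForm4 x v * altForm4 y v) * (CharTwo.two_eq_zero : (2 : F) = 0)

theorem tv_sq (v : V) : tv v * tv v = 1 := Units.ext (tvM_sq v)

theorem tv_inv (v : V) : (tv v)⁻¹ = tv v := inv_eq_of_mul_eq_one_right (tv_sq v)

theorem tv_zero : tv (0 : V) = 1 := gl_ext fun x => by simp [tv_apply]

theorem tv_ne_one {v : V} (hv : v ≠ 0) : tv v ≠ 1 := fun e => by
  obtain ⟨w, hw⟩ := exists_f_ne hv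
  have := congrArg (fun g : G4 => g.1 *ᵥ w) e
  simp [tv_apply, hw, hv] at this

theorem tv_conj {g : G4} (hg : g ∈ Sp4 F) (v : V) : g * tv v * g⁻¹ = tv (g.1 *ᵥ v) := by
  refine gl_ext fun x => ?_
  obtain ⟨y, rfl⟩ : ∃ y, g.1 *ᵥ y = x := ⟨(g⁻¹).1 *ᵥ x, by
    rw [Matrix.mulVec_mulVec, ← Units.val_mul, mul_inv_cancel, Units.val_one, Matrix.one_mulVec]⟩
  rw [Units.val_mul, Units.val_mul, ← Matrix.mulVec_mulVec, ← Matrix.mulVec_mulVec,
    Matrix.mulVec_mulVec y (g⁻¹).1, ← Units.val_mul, inv_mul_cancel, Units.val_one, Matrix.one_mulVec, tv_apply,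
    tv_apply, f_map hg, Matrix.mulVec_add, Matrix.mulVec_smul]

theorem tv_smul_mul (v : V) (a b : F) : tv (a • v) * tv (b • v) = tv ((a + b) • v) := by
  refine gl_ext fun x => ?_
  rw [Units.val_mul, ← Matrix.mulVec_mulVec]
  simp only [tv_apply, f_add_left, f_smul_left, f_smul_right, f_self, smul_smul]
  rw [add_assoc, ← add_smul]
  congr 2
  linear_combination -(a * b * altForm4 x v) * (CharTwo.two_eq_zero : (2 : F) = 0)

theorem tv_injective {u v : V} (e : tv u = tv v) : u = v := by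
  by_cases hu : u = 0
  · subst hu
    by_contra h
    exact tv_ne_one (fun e' => h e'.symm) (e.symm.trans tv_zero)
  obtain ⟨w, hw⟩ := exists_f_ne hu
  have h1 := congrArg (fun g : G4 => g.1 *ᵥ w) e
  simp only [tv_apply, add_right_inj] at h1
  have huv : u = (altForm4 w v / altForm4 w u) • v := by
    rw [div_eq_inv_mul, mul_smul, ← h1, inv_smul_smul₀ hw]
  generalize altForm4 w v / altForm4 w u = r at huv
  obtain ⟨w', hw'⟩ : ∃ w' : V, altForm4 w' v ≠ 0 := exists_f_ne fun hv => hu (by rw [huv, hv, smul_zero])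
  have h2 := congrArg (fun g : G4 => g.1 *ᵥ w') e
  simp only [tv_apply, add_right_inj, huv, f_smul_right, smul_smul] at h2
  have hv0 : v ≠ 0 := fun hv => hw' (by simp [hv])
  have h3 : (r * r - 1) * altForm4 w' v = 0 := by linear_combination smul_left_injective F hv0 h2
  have h4 : (r - 1) * (r - 1) = 0 := by
    have := (mul_eq_zero.1 h3).resolve_right hw'
    linear_combination this + (1 - r) * (CharTwo.two_eq_zero : (2 : F) = 0)
  rw [huv, sub_eq_zero.1 (mul_self_eq_zero.1 h4), one_smul]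

theorem eq_smul_of_tv {g : G4} (hg : g ∈ Sp4 F) {v : V} (hv : g.1 *ᵥ v = v) : g * tv v = tv v * g := by
  have := tv_conj hg v
  rw [hv] at this
  calc g * tv v = (g * tv v * g⁻¹) * g := by group
    _ = tv v * g := by rw [this]

theorem tv_commute {u v : V} (h : altForm4 u v = 0) : Commute (tv u) (tv v) :=
  eq_smul_of_tv (tv_mem u) (by rw [tv_apply, f_comm, h]; simp)

/-- The vectors whose transvections lie in `P`. -/
def Dv (P : Subgroup G4) : Set V := {v | v ≠ 0 ∧ tv v ∈ P}

/-- The conditions on a simple subgroup needed when it contains a transvection. -/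
structure Base (P : Subgroup G4) : Prop where
  le : P ≤ Sp4 F
  simple : IsSimpleGroup P
  nonabelian : ¬ IsMulCommutative P
  noFix : ∀ v : V, (∀ g ∈ P, g.1 *ᵥ v = v) → v = 0
  coeffs : ∀ F₀ : Subfield F, F₀ ≠ ⊤ → ∃ g ∈ P, ∃ i : ℕ, g.1.charpoly.coeff i ∉ F₀
  proper : P ≠ Sp4 F

variable {P : Subgroup (Matrix.GeneralLinearGroup (Fin 4) F)}

theorem Dv.map (hP : Base P) {v : V} (hv : v ∈ Dv P) {g : G4} (hg : g ∈ P) : g.1 *ᵥ v ∈ Dv P := by
  refine ⟨fun e => hv.1 ?_, ?_⟩
  · have := congrArg (fun x => (g⁻¹).1 *ᵥ x) e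
    simpa [Matrix.mulVec_mulVec] using this
  · rw [← tv_conj (hP.le hg)]
    exact P.mul_mem (P.mul_mem hg hv.2) (P.inv_mem hg)

theorem Dv.refl (hP : Base P) {u v : V} (hu : u ∈ Dv P) (hv : v ∈ Dv P) : v + altForm4 v u • u ∈ Dv P := by
  rw [← tv_apply]; exact Dv.map hP hv hu.2

theorem Dv.add {v : V} {a b : F} (ha : a • v ∈ Dv P) (hb : b • v ∈ Dv P) (hab : a + b ≠ 0) :
    (a + b) • v ∈ Dv P :=
  ⟨smul_ne_zero hab (fun e => ha.1 (by simp [e])), by rw [← tv_smul_mul]; exact P.mul_mem ha.2 hb.2⟩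

/-- A simple group is generated by the conjugates of any of its non-trivial elements. -/
theorem Base.induction (hP : Base P) {v : V} (hv : v ∈ Dv P) {p : G4 → Prop} (h1 : p 1)
    (hmul : ∀ a b, p a → p b → p (a * b)) (ht : ∀ u ∈ Dv P, p (tv u)) {g : G4} (hg : g ∈ P) : p g := by
  have hmem : (⟨g, hg⟩ : P) ∈ Subgroup.normalClosure ({⟨tv v, hv.2⟩} : Set P) := by
    haveI := hP.simple
    rcases Subgroup.Normal.eq_bot_or_eq_top (Subgroup.normalClosure_normal (s := ({⟨tv v, hv.2⟩} : Set P))) with h | h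
    · have hx := Subgroup.subset_normalClosure (Set.mem_singleton (⟨tv v, hv.2⟩ : P))
      rw [h] at hx
      exact absurd (congrArg Subtype.val (Subgroup.mem_bot.1 hx)) (tv_ne_one hv.1)
    · rw [h]; exact Subgroup.mem_top _
  have key : ∀ x : P, x ∈ Subgroup.normalClosure ({⟨tv v, hv.2⟩} : Set P) → p x.1 ∧ p (x⁻¹).1 := by
    intro x hx
    induction hx using Subgroup.closure_induction with
    | mem x hx =>
      obtain ⟨a, ha, hc⟩ := Group.mem_conjugatesOfSet_iff.1 hx
      rw [Set.mem_singleton_iff] at ha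
      subst ha
      obtain ⟨c, rfl⟩ := isConj_iff.1 hc
      have e : ((c * ⟨tv v, hv.2⟩ * c⁻¹ : P) : G4) = tv (c.1.1 *ᵥ v) := by
        rw [← tv_conj (hP.le c.2)]; rfl
      have := ht _ (Dv.map hP hv c.2)
      refine ⟨e ▸ this, ?_⟩
      rw [InvMemClass.coe_inv, e, tv_inv]
      exact this
    | one => exact ⟨h1, by simpa using h1⟩
    | mul x y _ _ hx hy => exact ⟨hmul _ _ hx.1 hy.1, by simpa using hmul _ _ hy.2 hx.2⟩
    | inv x _ hx => exact ⟨hx.2, by simpa using hx.1⟩
  exact (key _ hmem).1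

/-- Only zero is orthogonal to all the transvection vectors. -/
theorem Base.eq_zero_of_perp (hP : Base P) {v : V} (hv : v ∈ Dv P) {w : V}
    (hw : ∀ u ∈ Dv P, altForm4 w u = 0) : w = 0 :=
  hP.noFix w fun g hg => hP.induction hv (p := fun g => g.1 *ᵥ w = w) (by simp)
    (fun a b ha hb => by rw [Units.val_mul, ← Matrix.mulVec_mulVec, hb, ha])
    (fun u hu => by rw [tv_apply, hw u hu]; simp) hg

end CfsgLib.Sp4Even
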