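import Cfsg.Agent.Lib.Sp4Even.Rational

/-!
A simple group with two proportional transvection vectors contains every transvection.
-/

set_option autoImplicit false

namespace CfsgLib.Sp4Even

open Matrix Cfsg.Lie

variable {F : Type*} [Field F] [CharP F 2] [Fintype F]

local notation "V" => (Fin 4 → F)
local notation "G4" => Matrix.GeneralLinearGroup (Fin 4) F

variable {P : Subgroup (Matrix.GeneralLinearGroup (Fin 4) F)}

theorem inD_zero_iff {x : V} : InD P 0 x ↔ x ∈ Dv P := by simp [InD]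

/-- The plane lemma for two vectors of `Dv P` themselves. -/
theorem pair_data (hP : Base P) {x y : V} (hx : x ∈ Dv P) (hy : y ∈ Dv P) (hc : altForm4 x y ≠ 0)
    (hl : ∃ l : F, l ≠ 0 ∧ l ≠ 1 ∧ l • x ∈ Dv P) :
    ∃ K : Subfield F, 2 < Nat.card K ∧ altForm4 x y ∈ K ∧ (∀ m : F, m • x ∈ Dv P ↔ m ∈ K ∧ m ≠ 0) ∧
      (∀ m : F, m • y ∈ Dv P ↔ m ∈ K ∧ m ≠ 0) ∧
      (∀ r s : F, r ∈ K → s ∈ K → (r ≠ 0 ∨ s ≠ 0) → r • x + s • y ∈ Dv P) := by
  obtain ⟨l, hl0, hl1, hl⟩ := hl
  obtain ⟨K, hK, hcK, hxK, hyK, hall⟩ := plane_field hP (f_zero_left x) (f_zero_left y) hc (inD_zero_iff.2 hx)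
    (inD_zero_iff.2 hy) hl0 hl1 (inD_zero_iff.2 hl)
  refine ⟨K, hK, hcK, fun m => ⟨fun hm => ⟨hxK m (inD_zero_iff.2 hm), fun e => hm.1 (by simp [e])⟩, fun hm => ?_⟩,
    fun m => ⟨fun hm => ⟨hyK m (inD_zero_iff.2 hm), fun e => hm.1 (by simp [e])⟩, fun hm => ?_⟩,
    fun r s hr hs h => inD_zero_iff.1 (hall r s hr hs h)⟩
  · simpa using inD_zero_iff.1 (hall m 0 hm.1 K.zero_mem (Or.inl hm.2))
  · simpa using inD_zero_iff.1 (hall 0 m K.zero_mem hm.1 (Or.inr hm.2))

theorem exists_scalar {K : Subfield F} (h : 2 < Nat.card K) : ∃ l ∈ K, l ≠ 0 ∧ l ≠ 1 := by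
  classical
  by_contra h'
  push Not at h'
  have : Nat.card K ≤ Nat.card (Fin 2) := by
    refine Nat.card_le_card_of_injective (fun l : K => if (l : F) = 0 then (0 : Fin 2) else 1) fun a b e => ?_
    by_cases ha : (a : F) = 0 <;> by_cases hb : (b : F) = 0 <;> simp only [ha, hb, if_true, if_false] at e
    · exact Subtype.ext (ha.trans hb.symm)
    · exact absurd e (by decide)
    · exact absurd e (by decide)
    · exact Subtype.ext ((h' a a.2 ha).trans (h' b b.2 hb).symm)
  rw [Nat.card_fin] at this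
  omega

/-- With a proportional pair, transvection vectors absorb scalars and hyperbolic lines. -/
theorem big_closure (hP : Base P) {u : V} (hu : u ∈ Dv P) {l : F} (hl0 : l ≠ 0) (hl1 : l ≠ 1)
    (hl : l • u ∈ Dv P) :
    (∀ x ∈ Dv P, ∀ m : F, m ≠ 0 → m • x ∈ Dv P) ∧
      ∀ x ∈ Dv P, ∀ y ∈ Dv P, altForm4 x y ≠ 0 → ∀ r s : F, (r ≠ 0 ∨ s ≠ 0) → r • x + s • y ∈ Dv P := by
  obtain ⟨v, hv, huv⟩ := hP.exists_nonperp hu
  obtain ⟨K, hK, -, huK, -, -⟩ := pair_data hP hu hv huv ⟨l, hl0, hl1, hl⟩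
  obtain ⟨k, hk, hk0, hk1⟩ := exists_scalar hK
  have hall : ∀ x ∈ Dv P, ∀ m : F, m • x ∈ Dv P ↔ m ∈ K ∧ m ≠ 0 := by
    intro x hx
    refine hP.connected (p := fun x => ∀ m : F, m • x ∈ Dv P ↔ m ∈ K ∧ m ≠ 0) hu huK ?_ hx
    intro a ha b hb hpa hab
    obtain ⟨K', -, -, haK', hbK', -⟩ := pair_data hP ha hb hab ⟨k, hk0, hk1, (hpa k).2 ⟨hk, hk0⟩⟩
    intro m
    rw [hbK' m, ← haK' m, hpa m]
  have hprod : ∀ x ∈ Dv P, ∀ y ∈ Dv P, altForm4 x y ∈ K := by
    intro x hx y hy
    by_cases h : altForm4 x y = 0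
    · rw [h]; exact K.zero_mem
    obtain ⟨K', -, hc, hxK', -, -⟩ := pair_data hP hx hy h ⟨k, hk0, hk1, (hall x hx k).2 ⟨hk, hk0⟩⟩
    exact (((hall x hx _).symm.trans (hxK' _)).2 ⟨hc, h⟩).1
  have htop := hP.eq_top_of_products hu hprod
  refine ⟨fun x hx m hm => (hall x hx m).2 ⟨htop ▸ Subfield.mem_top m, hm⟩, fun x hx y hy h r s hrs => ?_⟩
  obtain ⟨K', -, -, hxK', -, hK'⟩ := pair_data hP hx hy h ⟨k, hk0, hk1, (hall x hx k).2 ⟨hk, hk0⟩⟩
  have hall' : ∀ t : F, t ∈ K' := fun t => by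
    by_cases ht : t = 0
    · rw [ht]; exact K'.zero_mem
    · exact ((hxK' t).1 ((hall x hx t).2 ⟨htop ▸ Subfield.mem_top t, ht⟩)).1
  exact hK' r s (hall' r) (hall' s) hrs

theorem big_all (hP : Base P) {u : V} (hu : u ∈ Dv P) {l : F} (hl0 : l ≠ 0) (hl1 : l ≠ 1) (hl : l • u ∈ Dv P)
    {w : V} (hw : w ≠ 0) : w ∈ Dv P := by
  obtain ⟨hscal, hline⟩ := big_closure hP hu hl0 hl1 hl
  obtain ⟨v, hv, hc⟩ := hP.exists_nonperp hu
  set c := altForm4 u v with hcdef
  let pr : V → V := fun x => (altForm4 x v / c) • u + (altForm4 x u / c) • v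
  have hrest : ∀ x : V, altForm4 (x + pr x) u = 0 ∧ altForm4 (x + pr x) v = 0 := by
    intro x
    have h2 : (2 : F) = 0 := CharTwo.two_eq_zero
    constructor <;>
      simp [pr, f_add_left, f_smul_left, f_comm v u, ← hcdef, div_mul_cancel₀ _ hc, CharTwo.add_self_eq_zero]
  -- the good part of the orthogonal plane
  let good : V → Prop := fun k => altForm4 k u = 0 ∧ altForm4 k v = 0 ∧
    ∀ r s t : F, (r ≠ 0 ∨ s ≠ 0) → r • u + s • v + t • k ∈ Dv P
  have hgood : ∀ k : V, altForm4 k u = 0 → altForm4 k v = 0 → ∀ r0 s0 : F, (r0 ≠ 0 ∨ s0 ≠ 0) →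
      r0 • u + s0 • v + k ∈ Dv P → good k := by
    intro k hku hkv r0 s0 h0 hm
    refine ⟨hku, hkv, fun r s t hrs => ?_⟩
    by_cases ht : t = 0
    · simpa [ht] using hline u hu v hv hc r s hrs
    -- move along the line, fixing its orthogonal
    have move : ∀ r1 s1 r2 s2 : F, r1 * s2 + r2 * s1 ≠ 0 → r1 • u + s1 • v + t • k ∈ Dv P →
        r2 • u + s2 • v + t • k ∈ Dv P := by
      intro r1 s1 r2 s2 hd hm1
      set d := r1 * s2 + r2 * s1
      have hr12 : r1 + r2 ≠ 0 ∨ s1 + s2 ≠ 0 := by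
        by_contra h
        push Not at h
        refine hd ?_
        simp only [d, CharTwo.add_eq_zero.1 h.1, CharTwo.add_eq_zero.1 h.2, CharTwo.add_self_eq_zero]
      obtain ⟨μ, hμ⟩ : ∃ μ : F, μ ^ 2 = (d * c)⁻¹ := by
        obtain ⟨μ, hμ⟩ := (Finite.injective_iff_surjective.1 (frobenius_inj F 2)) (d * c)⁻¹
        exact ⟨μ, hμ⟩
      have hμ0 : μ ≠ 0 := fun e => by
        rw [e, zero_pow two_ne_zero] at hμ
        exact inv_ne_zero (mul_ne_zero hd hc) hμ.symm
      have hz : μ • ((r1 + r2) • u + (s1 + s2) • v) ∈ Dv P := hscal _ (hline u hu v hv hc _ _ hr12) μ hμ0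
      have h := Dv.refl hP hz hm1
      have e : altForm4 (r1 • u + s1 • v + t • k) (μ • ((r1 + r2) • u + (s1 + s2) • v)) * μ = 1 := by
        simp [f_add_left, f_smul_left, f_add_right, f_smul_right, hku, hkv, f_comm v u, ← hcdef]
        have h2 : (2 : F) = 0 := CharTwo.two_eq_zero
        have e2 : μ ^ 2 * (d * c) = 1 := by rw [hμ, inv_mul_cancel₀ (mul_ne_zero hd hc)]
        linear_combination e2 + (μ * μ * c * r1 * s1) * h2
      rw [smul_smul, e, one_smul] at h
      convert h using 1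
      simp only [add_smul]
      have := fun w : V => CharTwo.add_self_eq_zero w
      ext i
      simp only [Pi.add_apply, Pi.smul_apply, smul_eq_mul]
      linear_combination -(r1 * u i + s1 * v i) * (CharTwo.two_eq_zero : (2 : F) = 0)
    have hm' : (t * r0) • u + (t * s0) • v + t • k ∈ Dv P := by
      simpa [smul_add, smul_smul] using hscal _ hm t ht
    by_cases hd : t * r0 * s + r * (t * s0) = 0
    · obtain ⟨r', s', h1, h2⟩ : ∃ r' s' : F, t * r0 * s' + r' * (t * s0) ≠ 0 ∧ r' * s + r * s' ≠ 0 := by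
        by_cases hr0 : r0 = 0
        · have hs0 : s0 ≠ 0 := h0.resolve_left (fun h => h hr0)
          have hr : r = 0 := by simpa [hr0, ht, hs0] using hd
          exact ⟨1, 0, by simp [ht, hs0], by simpa [hr] using hrs⟩
        · by_cases hr : r = 0
          · exfalso
            have : s = 0 := by simpa [hr, hr0, ht] using hd
            exact hrs.elim (fun h => h hr) (fun h => h this)
          · exact ⟨0, 1, by simp [ht, hr0], by simpa using hr⟩
      exact move r' s' r s h2 (move _ _ r' s' h1 hm')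
    · exact move _ _ r s hd hm'
  have hdec : ∀ x : V, (altForm4 x v / c) • u + (altForm4 x u / c) • v + (x + pr x) = x := by
    intro x
    show pr x + (x + pr x) = x
    rw [add_comm x, ← add_assoc, CharTwo.add_self_eq_zero, zero_add]
  have hD : ∀ x ∈ Dv P, pr x ≠ 0 → good (x + pr x) := by
    intro x hx hpx
    refine hgood _ (hrest x).1 (hrest x).2 _ _ ?_ (by rw [hdec]; exact hx)
    by_contra h
    push Not at h
    exact hpx (by simp [pr, h.1, h.2])
  -- some good vector is non-zero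
  have hex : ∃ k, good k ∧ k ≠ 0 := by
    by_contra h
    push Not at h
    have hsep : ∀ x ∈ Dv P, pr x = 0 ∨ x + pr x = 0 := fun x hx => by
      by_cases hpx : pr x = 0
      · exact Or.inl hpx
      · exact Or.inr (h _ (hD x hx hpx))
    have hprz : ∀ y : V, pr y = 0 → altForm4 y u = 0 ∧ altForm4 y v = 0 := fun y hy => by
      have := hrest y; rwa [hy, add_zero] at this
    have hperp : ∀ x ∈ Dv P, x + pr x = 0 := by
      intro x hx
      refine hP.connected (p := fun x => x + pr x = 0) hu ?_ ?_ hx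
      · simp [pr, f_comm v u, ← hcdef, hc, CharTwo.add_self_eq_zero]
      · intro a _ b hb hpa hab
        refine (hsep b hb).resolve_left fun hpb => hab ?_
        rw [CharTwo.add_eq_zero.1 hpa]
        simp [pr, f_add_left, f_smul_left, f_comm u b, f_comm v b, (hprz b hpb).1, (hprz b hpb).2]
    obtain ⟨φ, hφ0, hφ⟩ := Submodule.exists_le_ker_of_lt_top (Submodule.span F (Set.range ![u, v]))
      (lt_top_iff_ne_top.2 fun e => by
        have h1 := finrank_range_le_card (R := F) ![u, v]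
        rw [Set.finrank, e, finrank_top, Module.finrank_fintype_fun_eq_card, Fintype.card_fin, Fintype.card_fin] at h1
        omega)
    refine hφ0 ?_
    have hle : Submodule.span F (Dv P) ≤ LinearMap.ker φ := by
      rw [Submodule.span_le]
      intro x hx
      refine hφ ?_
      rw [CharTwo.add_eq_zero.1 (hperp x hx)]
      exact add_mem (Submodule.smul_mem _ _ (Submodule.subset_span ⟨0, rfl⟩))
        (Submodule.smul_mem _ _ (Submodule.subset_span ⟨1, rfl⟩))
    rw [hP.span_top hu, top_le_iff, LinearMap.ker_eq_top] at hle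
    exact hle
  obtain ⟨k1, hk1, hk10⟩ := hex
  -- a second one
  have hex2 : ∃ k, good k ∧ altForm4 k1 k ≠ 0 := by
    obtain ⟨m, hm, hmk⟩ : ∃ m ∈ Dv P, altForm4 k1 m ≠ 0 := by
      by_contra h
      push Not at h
      exact hk10 (hP.eq_zero_of_perp hu h)
    have hkp : altForm4 k1 (pr m) = 0 := by
      simp [pr, f_add_right, f_smul_right, hk1.1, hk1.2.1]
    have hmr : altForm4 k1 (m + pr m) ≠ 0 := by rw [f_add_right, hkp, add_zero]; exact hmk
    by_cases hpm : pr m = 0
    · have hm0 := hrest m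
      rw [hpm, add_zero] at hm0
      have hx : (1 : F) • u + (0 : F) • v + (1 : F) • k1 ∈ Dv P := hk1.2.2 _ _ _ (Or.inl one_ne_zero)
      have hn : altForm4 ((1 : F) • u + (0 : F) • v + (1 : F) • k1) m ≠ 0 := by
        simp [f_add_left, f_comm u m, hm0.1, hmk]
      refine ⟨k1 + m, hgood _ (by simp [f_add_left, hk1.1, hm0.1]) (by simp [f_add_left, hk1.2.1, hm0.2]) 1 0
        (Or.inl one_ne_zero) ?_, by simpa [f_add_right] using hmk⟩
      have := hline _ hx m hm hn 1 1 (Or.inl one_ne_zero)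
      simpa [add_assoc] using this
    · exact ⟨_, hD m hm hpm, hmr⟩
  obtain ⟨k2, hk2, hk12⟩ := hex2
  set κ := altForm4 k1 k2 with hκ
  have hmix : ∀ r1 s1 r2 s2 a b : F, (r1 ≠ 0 ∨ s1 ≠ 0) → (r2 ≠ 0 ∨ s2 ≠ 0) → r1 * s2 + r2 * s1 = 0 →
      a ≠ 0 → b ≠ 0 → (r1 + r2) • u + (s1 + s2) • v + (a • k1 + b • k2) ∈ Dv P := by
    intro r1 s1 r2 s2 a b h1 h2 hd ha hb
    have hn : altForm4 (r1 • u + s1 • v + a • k1) (r2 • u + s2 • v + b • k2) ≠ 0 := by
      have e : altForm4 (r1 • u + s1 • v + a • k1) (r2 • u + s2 • v + b • k2) =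
          c * (r1 * s2 + r2 * s1) + a * b * κ := by
        simp [f_add_left, f_add_right, f_smul_left, f_smul_right, f_comm v u, f_comm u k2, f_comm v k2, hk1.1,
          hk1.2.1, hk2.1, hk2.2.1, ← hcdef, ← hκ]
        ring
      rw [e, hd, mul_zero, zero_add]
      exact mul_ne_zero (mul_ne_zero ha hb) hk12
    have := hline _ (hk1.2.2 r1 s1 a h1) _ (hk2.2.2 r2 s2 b h2) hn 1 1 (Or.inl one_ne_zero)
    convert this using 1
    module
  obtain ⟨l', hl', hl1'⟩ : ∃ l' : F, l' ≠ 0 ∧ l' ≠ 1 := ⟨l, hl0, hl1⟩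
  have hboth : ∀ a b : F, a ≠ 0 → b ≠ 0 → a • k1 + b • k2 ∈ Dv P := fun a b ha hb => by
    simpa [CharTwo.add_self_eq_zero] using hmix 1 0 1 0 a b (Or.inl one_ne_zero) (Or.inl one_ne_zero) (by simp) ha hb
  have hll : l' + 1 ≠ 0 := fun e => hl1' (CharTwo.add_eq_zero.1 e)
  have hk1D : k1 ∈ Dv P := by
    have hn : altForm4 ((1 : F) • k1 + (1 : F) • k2) (l' • k1 + (1 : F) • k2) ≠ 0 := by
      have e : altForm4 ((1 : F) • k1 + (1 : F) • k2) (l' • k1 + (1 : F) • k2) = (l' + 1) * κ := by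
        simp [f_add_left, f_add_right, f_smul_right, f_comm k2 k1, ← hκ]
        ring
      rw [e]; exact mul_ne_zero hll hk12
    have := hline _ (hboth 1 1 one_ne_zero one_ne_zero) _ (hboth l' 1 hl' one_ne_zero) hn (l' + 1)⁻¹ (l' + 1)⁻¹
      (Or.inl (inv_ne_zero hll))
    convert this using 1
    rw [← smul_add, show (1 : F) • k1 + (1 : F) • k2 + (l' • k1 + (1 : F) • k2) = (l' + 1) • k1 + ((1 : F) + 1) • k2
      by module, CharTwo.add_self_eq_zero, zero_smul, add_zero, inv_smul_smul₀ hll]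
  have hk2D : k2 ∈ Dv P := by
    have hn : altForm4 ((1 : F) • k1 + (1 : F) • k2) k1 ≠ 0 := by
      simpa [f_add_left, f_comm k2 k1, ← hκ] using hk12
    have := hline _ (hboth 1 1 one_ne_zero one_ne_zero) _ hk1D hn 1 1 (Or.inl one_ne_zero)
    convert this using 1
    rw [show (1 : F) • ((1 : F) • k1 + (1 : F) • k2) + (1 : F) • k1 = ((1 : F) + 1) • k1 + k2 by module,
      CharTwo.add_self_eq_zero, zero_smul, zero_add]
  -- decompose an arbitrary vector
  obtain ⟨r, s, a, b, rfl⟩ : ∃ r s a b : F, r • u + s • v + (a • k1 + b • k2) = w := by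
    refine ⟨altForm4 w v / c, altForm4 w u / c, altForm4 w k2 / κ, altForm4 w k1 / κ, ?_⟩
    set x := (altForm4 w v / c) • u + (altForm4 w u / c) • v + ((altForm4 w k2 / κ) • k1 + (altForm4 w k1 / κ) • k2)
      with hx
    refine CharTwo.add_eq_zero.1 (hP.eq_zero_of_perp hu (w := x + w) ?_)
    have base : altForm4 (x + w) u = 0 ∧ altForm4 (x + w) v = 0 ∧ altForm4 (x + w) k1 = 0 ∧
        altForm4 (x + w) k2 = 0 := by
      refine ⟨?_, ?_, ?_, ?_⟩ <;>
        simp [hx, f_add_left, f_smul_left, f_comm v u, f_comm u k1, f_comm v k1, f_comm u k2, f_comm v k2,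
          f_comm k2 k1, hk1.1, hk1.2.1, hk2.1, hk2.2.1, ← hcdef, ← hκ, div_mul_cancel₀ _ hc,
          div_mul_cancel₀ _ hk12, CharTwo.add_self_eq_zero]
    -- a vector orthogonal to the four is orthogonal to everything
    intro z _
    by_contra hz
    have hind : LinearIndependent F ![u, v, k1, k2] := by
      rw [Fintype.linearIndependent_iff]
      intro g hg
      simp [Fin.sum_univ_four] at hg
      have h1 := congrArg (fun y => altForm4 y v) hg
      have h2 := congrArg (fun y => altForm4 y u) hg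
      have h3 := congrArg (fun y => altForm4 y k2) hg
      have h4 := congrArg (fun y => altForm4 y k1) hg
      simp [f_add_left, f_smul_left, f_comm v u, f_comm u k1, f_comm v k1, f_comm u k2, f_comm v k2, f_comm k2 k1,
        hk1.1, hk1.2.1, hk2.1, hk2.2.1, ← hcdef, ← hκ, hc, hk12] at h1 h2 h3 h4
      intro i
      fin_cases i <;> assumption
    have htop := hind.span_eq_top_of_card_eq_finrank (by simp)
    have hmem : z ∈ Submodule.span F (Set.range ![u, v, k1, k2]) := by rw [htop]; exact Submodule.mem_top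
    obtain ⟨g, hg⟩ := (Submodule.mem_span_range_iff_exists_fun F).1 hmem
    refine hz ?_
    rw [← hg]
    simp [Fin.sum_univ_four, f_add_right, f_smul_right, base.1, base.2.1, base.2.2.1, base.2.2.2]
  by_cases hrs : r ≠ 0 ∨ s ≠ 0
  · by_cases ha : a = 0
    · simpa [ha, add_assoc] using hk2.2.2 r s b hrs
    by_cases hb : b = 0
    · simpa [hb, add_assoc] using hk1.2.2 r s a hrs
    have := hmix (l' * r) (l' * s) ((l' + 1) * r) ((l' + 1) * s) a b
      (hrs.imp (mul_ne_zero hl') (mul_ne_zero hl')) (hrs.imp (mul_ne_zero hll) (mul_ne_zero hll))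
      (by linear_combination (l' * (l' + 1) * r * s) * (CharTwo.two_eq_zero : (2 : F) = 0)) ha hb
    have e : ∀ t : F, l' * t + (l' + 1) * t = t := fun t => by
      linear_combination (l' * t) * (CharTwo.two_eq_zero : (2 : F) = 0)
    rwa [e, e] at this
  · push Not at hrs
    rw [hrs.1, hrs.2, zero_smul, zero_smul, zero_add, zero_add]
    by_cases ha : a = 0
    · have hb : b ≠ 0 := fun hb => hw (by simp [hrs.1, hrs.2, ha, hb])
      simpa [ha] using hscal _ hk2D b hb
    by_cases hb : b = 0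
    · simpa [hb] using hscal _ hk1D a ha
    exact hboth a b ha hb

end CfsgLib.Sp4Even
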