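import Cfsg.Agent.Lib.Sp4Even.Inv
import Mathlib.FieldTheory.Finite.Basic

/-!
Two by two blocks: a group generated by transvection-like elements of one Siegel radical and a swap of the two
radicals comes from a commutative field of two by two matrices, so it commutes with a non-scalar matrix and its
image under the exceptional endomorphism fixes a quadratic form.
-/

set_option autoImplicit false
set_option maxHeartbeats 1000000

namespace CfsgLib.Sp4Even

open Matrix Cfsg.Lie

variable {F : Type*} [Field F]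

local notation "V" => (Fin 4 → F)
local notation "M2" => Matrix (Fin 2) (Fin 2) F
local notation "M4" => Matrix (Fin 4) (Fin 4) F

/-- A matrix given by four blocks. -/
def blk (A B C D : M2) : M4 :=
  !![A 0 0, A 0 1, B 0 0, B 0 1; A 1 0, A 1 1, B 1 0, B 1 1; C 0 0, C 0 1, D 0 0, D 0 1;
    C 1 0, C 1 1, D 1 0, D 1 1]

theorem blk_mul (A B C D A' B' C' D' : M2) :
    blk A B C D * blk A' B' C' D' = blk (A * A' + B * C') (A * B' + B * D') (C * A' + D * C') (C * B' + D * D') := by
  ext i j
  fin_cases i <;> fin_cases j <;> simp [blk, Matrix.mul_apply, Fin.sum_univ_four, Fin.sum_univ_two] <;> ring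

theorem blk_inj {A B C D A' B' C' D' : M2} (h : blk A B C D = blk A' B' C' D') :
    A = A' ∧ B = B' ∧ C = C' ∧ D = D' := by
  have e := fun i j => congrFun (congrFun h i) j
  have e00 := e 0 0; have e01 := e 0 1; have e02 := e 0 2; have e03 := e 0 3
  have e10 := e 1 0; have e11 := e 1 1; have e12 := e 1 2; have e13 := e 1 3
  have e20 := e 2 0; have e21 := e 2 1; have e22 := e 2 2; have e23 := e 2 3
  have e30 := e 3 0; have e31 := e 3 1; have e32 := e 3 2; have e33 := e 3 3
  simp [blk] at e00 e01 e02 e03 e10 e11 e12 e13 e20 e21 e22 e23 e30 e31 e32 e33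
  refine ⟨?_, ?_, ?_, ?_⟩ <;> ext i j <;> fin_cases i <;> fin_cases j <;> assumption

theorem blk_one : blk (1 : M2) 0 0 1 = 1 := by
  ext i j
  fin_cases i <;> fin_cases j <;> simp [blk]

/-- The corner of an element of the standard Siegel radical. -/
def symM (a b c : F) : M2 := !![a, c; b, a]

theorem nf_eq_blk (a b c : F) : nf a b c = blk 1 (symM a b c) 0 1 := by
  ext i j
  fin_cases i <;> fin_cases j <;> simp [blk, nf, symM]

variable [CharP F 2]

/-- The inverse of the corner of the normal form. -/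
def dInv (a c : F) : M2 := !![a⁻¹, c / (a * a); 0, a⁻¹]

theorem symM_dInv {a c : F} (ha : a ≠ 0) : symM a 0 c * dInv a c = 1 ∧ dInv a c * symM a 0 c = 1 := by
  have h2 : (2 : F) = 0 := CharTwo.two_eq_zero
  constructor <;> ext i j <;> fin_cases i <;> fin_cases j <;>
    simp [symM, dInv, Matrix.mul_apply, Fin.sum_univ_two, ha] <;> field_simp <;> linear_combination c * h2

/-- The swap of the two radicals. -/
def swapM (a c : F) : M4 := blk 0 (symM a 0 c) (dInv a c) 0

theorem swap_of_braid {S Y D : M2} (hw : blk 0 Y D 0 * blk 0 Y D 0 = 1)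
    (hb : blk 1 S 0 1 * blk 0 Y D 0 * blk 1 S 0 1 = blk 0 Y D 0 * blk 1 S 0 1 * blk 0 Y D 0) :
    S * D = 1 ∧ Y = S := by
  rw [blk_mul, ← blk_one] at hw
  obtain ⟨hYD, -, -, -⟩ := blk_inj hw
  simp only [zero_mul, mul_zero, zero_add] at hYD
  rw [blk_mul, blk_mul, blk_mul, blk_mul] at hb
  obtain ⟨h1, h2, -, -⟩ := blk_inj hb
  simp only [mul_one, one_mul, zero_mul, mul_zero, add_zero, zero_add] at h1 h2
  have hSD : S * D = 1 := h1.trans hYD
  refine ⟨hSD, ?_⟩
  rw [hSD, one_mul] at h2
  exact (CharTwo.add_eq_zero.1 h2).symm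

variable {K : Type} [Field K] [CharP K 2]

/-- The field of two by two matrices attached to the radical. -/
theorem comm_of_relations {a c : F} (ha : a ≠ 0) {S : K → M2}
    (hadd : ∀ x y, S (x + y) = S x + S y) (h1 : S 1 = symM a 0 c) (d : K → M4)
    (hd : ∀ x, x ≠ 0 → blk 1 (S x) 0 1 * (swapM a c * blk 1 (S x⁻¹) 0 1 * swapM a c) * blk 1 (S x) 0 1 =
      d x * swapM a c)
    (hconj : ∀ x, x ≠ 0 → ∀ y, d x * blk 1 (S y) 0 1 = blk 1 (S (x * x * y)) 0 1 * d x) :
    (∀ x, S (x * x) * dInv a c = S x * dInv a c * (S x * dInv a c)) ∧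
      ∀ x y, S x * dInv a c * (S y * dInv a c) = S y * dInv a c * (S x * dInv a c) := by
  obtain ⟨hSD, hDS⟩ := symM_dInv (c := c) ha
  simp only [swapM] at hd
  set D := dInv a c
  set S1 := symM a 0 c
  have hS0 : S 0 = 0 := by
    have := hadd 0 0
    rwa [add_zero, left_eq_add] at this
  have hR : ∀ x y, S (x * x * y) * D = S x * D * (S y * D) * (S x * D) := by
    intro x y
    by_cases hx : x = 0
    · simp [hx, hS0]
    have e := hd x hx
    have hW : blk 0 S1 D 0 * blk 0 S1 D 0 = 1 := by
      rw [blk_mul]; simp [hSD, hDS, blk_one]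
    have e' := congrArg (· * blk 0 S1 D 0) e
    simp only [mul_assoc, hW, mul_one] at e'
    simp only [blk_mul, mul_one, one_mul, mul_zero, zero_mul, add_zero, zero_add] at e'
    have c1 := hconj x hx 1
    rw [h1, mul_one, ← e', blk_mul, blk_mul] at c1
    obtain ⟨-, -, -, h22⟩ := blk_inj c1
    simp only [mul_one, one_mul, mul_zero, zero_mul, add_zero, zero_add] at h22
    set T := S x⁻¹
    have hLS : D * T * D * S x = 1 := by
      have hz : (D * T * D * S x + 1) * D * S1 = 0 := by
        rw [add_eq_right] at h22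
        simpa [mul_assoc, add_mul, mul_add, add_comm, hDS, hSD] using h22
      rw [mul_assoc, hDS, mul_one] at hz
      exact CharTwo.add_eq_zero.1 hz
    have hSL : S x * (D * T * D) = 1 := mul_eq_one_comm.1 hLS
    have he : d x = blk (S x * D) 0 0 (D * T) := by
      have k1 : S x * (D * (T * D)) = 1 := by simpa [mul_assoc] using hSL
      have k1' : ∀ Z : M2, S x * (D * (T * (D * Z))) = Z := fun Z => by
        rw [← mul_assoc T, ← mul_assoc D, ← mul_assoc (S x), k1, one_mul]
      have k2 : D * (T * (D * S x)) = 1 := by simpa [mul_assoc] using hLS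
      have k2' : ∀ Z : M2, D * (T * (D * (S x * Z))) = Z := fun Z => by
        rw [← mul_assoc D (S x), ← mul_assoc T, ← mul_assoc D, k2, one_mul]
      have k3' : ∀ Z : M2, S1 * (D * Z) = Z := fun Z => by rw [← mul_assoc, hSD, one_mul]
      have k4' : ∀ Z : M2, D * (S1 * Z) = Z := fun Z => by rw [← mul_assoc, hDS, one_mul]
      have k5 : S x * (D * T) = S1 := by
        rw [show T = T * (D * S1) by rw [hDS, mul_one], k1']
      rw [← e']
      congr 1 <;> simp [mul_assoc, mul_add, add_mul, k5, k1, k1', k2, k2', k3', k4', hSD, hDS,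
        CharTwo.add_self_eq_zero, CharTwo.add_cancel_left, CharTwo.add_cancel_right]
    have cy := hconj x hx y
    rw [he, blk_mul, blk_mul] at cy
    obtain ⟨-, key, -, -⟩ := blk_inj cy
    simp only [mul_one, one_mul, mul_zero, zero_mul, add_zero, zero_add] at key
    calc S (x * x * y) * D = S (x * x * y) * (D * T * D * S x) * D := by rw [hLS, mul_one]
      _ = (S (x * x * y) * (D * T)) * D * S x * D := by simp only [mul_assoc]
      _ = _ := by rw [← key]; simp only [mul_assoc]
  have hR1 : S 1 * D = 1 := by rw [h1, hSD]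
  have hsq : ∀ x, S (x * x) * D = S x * D * (S x * D) := fun x => by
    have := hR x 1
    rwa [mul_one, hR1, mul_one] at this
  refine ⟨hsq, fun x y => ?_⟩
  have e := hR (x + y) 1
  rw [mul_one, hR1, mul_one, CharTwo.add_self_eq_zero x |> fun _ => show (x + y) * (x + y) = x * x + y * y by
    linear_combination (x * y) * (CharTwo.two_eq_zero : (2 : K) = 0), hadd, hadd, add_mul, add_mul, hsq, hsq] at e
  have e2 : S x * D * (S y * D) + S y * D * (S x * D) = 0 := by
    linear_combination (norm := noncomm_ring) -e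
  exact CharTwo.add_eq_zero.1 e2

/-- A commutative family containing the identity meets the centraliser of a non-scalar matrix. -/
theorem exists_nonscalar {a c : F} (S : K → M2)
    (hcomm : ∀ x y, S x * dInv a c * (S y * dInv a c) = S y * dInv a c * (S x * dInv a c)) :
    ∃ C : M2, (∀ k : F, C ≠ k • (1 : M2)) ∧ ∀ x, C * (S x * dInv a c) = S x * dInv a c * C := by
  by_cases h : ∀ x, ∃ k : F, S x * dInv a c = k • (1 : M2)
  · refine ⟨!![0, 1; 0, 0], fun k e => ?_, fun x => ?_⟩
    · have := congrFun (congrFun e 0) 1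
      simp at this
    · obtain ⟨k, hk⟩ := h x
      rw [hk, Matrix.mul_smul, Matrix.smul_mul, mul_one, one_mul]
  · push Not at h
    obtain ⟨x, hx⟩ := h
    exact ⟨S x * dInv a c, hx, fun y => hcomm x y⟩

/-- A non-scalar matrix commuting with the radical and the swap. -/
theorem exists_commutant {a c : F} (ha : a ≠ 0) (S : K → M2)
    (hcomm : ∀ x y, S x * dInv a c * (S y * dInv a c) = S y * dInv a c * (S x * dInv a c)) :
    ∃ T : M4, (∀ k : F, T ≠ k • (1 : M4)) ∧ (∀ x, T * blk 1 (S x) 0 1 = blk 1 (S x) 0 1 * T) ∧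
      T * swapM a c = swapM a c * T := by
  obtain ⟨C, hC, hCx⟩ := exists_nonscalar S hcomm
  obtain ⟨hSD, hDS⟩ := symM_dInv (c := c) ha
  set D := dInv a c
  set S1 := symM a 0 c
  refine ⟨blk C 0 0 (D * C * S1), fun k e => ?_, fun x => ?_, ?_⟩
  · rw [← blk_one, show k • blk (1 : M2) 0 0 1 = blk (k • 1) (k • 0) (k • 0) (k • 1) by
      ext i j; fin_cases i <;> fin_cases j <;> simp [blk]] at e
    exact hC k (blk_inj e).1
  · rw [blk_mul, blk_mul]
    simp only [mul_one, one_mul, mul_zero, zero_mul, add_zero, zero_add]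
    congr 1
    calc C * S x = C * (S x * D) * S1 := by rw [mul_assoc, mul_assoc, hDS, mul_one]
      _ = S x * D * C * S1 := by rw [hCx]
      _ = S x * (D * C * S1) := by simp only [mul_assoc]
  · rw [swapM, blk_mul, blk_mul]
    simp only [mul_one, one_mul, mul_zero, zero_mul, add_zero, zero_add]
    congr 1
    · calc C * S1 = (S1 * D) * C * S1 := by rw [hSD, one_mul]
        _ = S1 * (D * C * S1) := by simp only [mul_assoc]
    · rw [mul_assoc, hSD, mul_one]

/-- The radical lies on a plane. -/
theorem exists_plane [Fintype K] {a c : F} (ha : a ≠ 0) (hc : c ≠ 0) {p s r : K → F}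
    (hsq : ∀ x, symM (p (x * x)) (s (x * x)) (r (x * x)) * dInv a c =
      symM (p x) (s x) (r x) * dInv a c * (symM (p x) (s x) (r x) * dInv a c))
    (hcomm : ∀ x y, symM (p x) (s x) (r x) * dInv a c * (symM (p y) (s y) (r y) * dInv a c) =
      symM (p y) (s y) (r y) * dInv a c * (symM (p x) (s x) (r x) * dInv a c)) :
    ∃ μ : F, ∀ x, p x = a / c * r x + μ * s x := by
  have h2 : (2 : F) = 0 := CharTwo.two_eq_zero
  by_cases h : ∀ x, s x = 0
  · refine ⟨0, fun x => ?_⟩
    obtain ⟨y, hy⟩ := FiniteField.isSquare_of_char_two (ringChar.eq K 2) x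
    have e := congrFun (congrFun (hsq y) 0) 1
    rw [← hy, h, h] at e
    simp [symM, dInv, Matrix.mul_apply, Fin.sum_univ_two] at e
    field_simp at e ⊢
    refine mul_left_cancel₀ ha ?_
    linear_combination (norm := (ring_nf <;> simp [h2])) e
  · push Not at h
    obtain ⟨x₀, hx₀⟩ := h
    refine ⟨(p x₀ - a / c * r x₀) / s x₀, fun x => ?_⟩
    have e := congrFun (congrFun (hcomm x x₀) 0) 0
    simp [symM, dInv, Matrix.mul_apply, Fin.sum_univ_two] at e
    field_simp at e ⊢
    linear_combination (norm := (ring_nf <;> simp [h2])) e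

/-- The quadratic form fixed by the image. -/
def qf (a c μ : F) (v : V) : F := v 0 * v 3 + v 1 * v 2 + (a / c * v 1 + μ * v 2) ^ 2

theorem qf_smul (a c μ k : F) (v : V) : qf a c μ (k • v) = k ^ 2 * qf a c μ v := by
  simp [qf]; ring

theorem qf_polar (a c μ : F) (u v : V) : QuadraticMap.polar (qf a c μ) u v = altForm4 u v := by
  simp [QuadraticMap.polar, qf, altForm4]
  linear_combination ((a / c * u 1 + μ * u 2) * (a / c * v 1 + μ * v 2)) * (CharTwo.two_eq_zero : (2 : F) = 0)

theorem qf_star_nf {a c μ p s r : F} (h : p = a / c * r + μ * s) (v : V) :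
    qf a c μ (star4 (nf p s r) *ᵥ v) = qf a c μ v := by
  have h2 : (2 : F) = 0 := CharTwo.two_eq_zero
  subst h
  simp [qf, star4, pairOf, nf, Matrix.mulVec, dotProduct, Fin.sum_univ_four]
  linear_combination (norm := (ring_nf <;> simp [h2, show (4 : F) = 0 by linear_combination 2 * h2,
    show (6 : F) = 0 by linear_combination 3 * h2])) (0 : F) * h2

theorem qf_star_swap {a c μ : F} (ha : a ≠ 0) (hc : c ≠ 0) (v : V) :
    qf a c μ (star4 (swapM a c) *ᵥ v) = qf a c μ v := by
  have h2 : (2 : F) = 0 := CharTwo.two_eq_zero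
  simp [qf, star4, pairOf, swapM, blk, symM, dInv, Matrix.mulVec, dotProduct, Fin.sum_univ_four]
  field_simp
  linear_combination (norm := (ring_nf <;> simp [h2, show (4 : F) = 0 by linear_combination 2 * h2,
    show (6 : F) = 0 by linear_combination 3 * h2])) (0 : F) * h2

end CfsgLib.Sp4Even
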