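import Cfsg.Agent.Lib.Sp4Even.Field
import Cfsg.Agent.Lib.SpinorNorm

/-!
All transvection vectors lie on one quadric, which a simple group cannot allow.
-/

set_option autoImplicit false

namespace CfsgLib.Sp4Even

open Matrix Cfsg.Lie QuadraticMap

variable {F : Type*} [Field F] [CharP F 2] [Fintype F]

local notation "V" => (Fin 4 → F)
local notation "G4" => Matrix.GeneralLinearGroup (Fin 4) F

variable {P : Subgroup (Matrix.GeneralLinearGroup (Fin 4) F)}

/-- A quadratic form polarising to the symplectic form, with prescribed values on a basis. -/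
theorem exists_form (e : Fin 4 → V) (he : LinearIndependent F e) :
    ∃ Q : QuadraticForm F V, (∀ u v, polar Q u v = altForm4 u v) ∧ ∀ i, Q (e i) = 1 := by
  have h2 : (2 : F) = 0 := CharTwo.two_eq_zero
  let b : Module.Basis (Fin 4) F V := basisOfLinearIndependentOfCardEqFinrank he (by simp)
  let Q0 : QuadraticForm F V := QuadraticMap.linMulLin (LinearMap.proj 0) (LinearMap.proj 3) +
    QuadraticMap.linMulLin (LinearMap.proj 1) (LinearMap.proj 2)
  choose s hs using fun i => (Finite.injective_iff_surjective.1 (frobenius_inj F 2)) (1 + Q0 (e i))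
  let L : V →ₗ[F] F := b.constr F s
  refine ⟨Q0 + QuadraticMap.linMulLin L L, fun u v => ?_, fun i => ?_⟩
  · simp [polar, Q0, altForm4]
    linear_combination (L u * L v) * h2
  · have hb : L (e i) = s i := by
      have : b i = e i := by simp [b]
      rw [← this]; exact b.constr_basis F s i
    simp only [QuadraticMap.add_apply, QuadraticMap.linMulLin_apply, hb, ← _root_.sq]
    rw [← frobenius_def, hs]
    linear_combination Q0 (e i) * h2

variable {Q : QuadraticForm F (Fin 4 → F)}

theorem Q_expand (hQ : ∀ u v, polar Q u v = altForm4 u v) (x y : V) :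
    Q (x + y) = Q x + Q y + altForm4 x y := by rw [QuadraticMap.map_add Q, hQ]

theorem good_plane (hP : Base P) (hU : Uniq P) (hF : Full P) (h4 : 4 ≤ Fintype.card F)
    (hQ : ∀ u v, polar Q u v = altForm4 u v) {a b b' : V} (ha : a ∈ Dv P) (hb : Nb P a b) (hb' : Nb P a b')
    (he : altForm4 b b' ≠ 0) (qa : Q a = 1) (qb : Q b = 1) (qb' : Q b' = 1) {y : V} (hy : altForm4 a y = 0) :
    y ∈ Dv P ↔ Q y = 1 := by
  obtain ⟨t, r, s, rfl⟩ := perp_coords hU ha hb hb' he (x := y) (by rw [f_comm]; exact hy)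
  rw [cone_rule hP hU hF h4 ha hb hb' he]
  have e : Q (t • a + r • b + s • b') = (t + r + s) ^ 2 + altForm4 b b' * r * s := by
    rw [Q_expand hQ, Q_expand hQ, QuadraticMap.map_smul, QuadraticMap.map_smul, QuadraticMap.map_smul, qa, qb, qb']
    simp [f_add_left, f_smul_left, f_smul_right, hb.2.1, hb'.2.1]
    linear_combination -(t * r + t * s + r * s) * (CharTwo.two_eq_zero : (2 : F) = 0)
  rw [e]

/-- A second point on a secant. -/
theorem second_point (h4 : 4 ≤ Fintype.card F) (hQ : ∀ u v, polar Q u v = altForm4 u v) {x y u : V}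
    (hxy : altForm4 x y ≠ 0) (hux : altForm4 u x = 0) (huy : altForm4 u y = 0) (hu : u ≠ 0) (qu : Q u = 1) :
    ∃ w : V, altForm4 w x = 0 ∧ altForm4 w y = 0 ∧ altForm4 u w ≠ 0 ∧ Q w = 1 := by
  have h2 : (2 : F) = 0 := CharTwo.two_eq_zero
  obtain ⟨t0, ht0⟩ := exists_f_ne hu
  set c := altForm4 x y with hcdef
  set k := t0 + ((altForm4 t0 y / c) • x + (altForm4 t0 x / c) • y) with hk
  have hkx : altForm4 k x = 0 ∧ altForm4 k y = 0 := by
    constructor <;>
      simp [hk, f_add_left, f_smul_left, f_comm y x, ← hcdef, div_mul_cancel₀ _ hxy, CharTwo.add_self_eq_zero]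
  have hku : altForm4 u k = altForm4 t0 u := by
    simp [hk, f_add_right, f_smul_right, hux, huy, f_comm u t0]
  set z := (altForm4 t0 u)⁻¹ • k with hz
  have huz : altForm4 u z = 1 := by rw [hz, f_smul_right, hku, inv_mul_cancel₀ ht0]
  obtain ⟨s, t, ht, hst⟩ : ∃ s t : F, t ≠ 0 ∧ s ^ 2 + s * t + t ^ 2 * Q z = 1 := by
    by_cases hq : Q z = 0
    · obtain ⟨m, hm0, hm1⟩ : ∃ m : F, m ≠ 0 ∧ m ≠ 1 := by
        classical
        by_contra h'
        push Not at h'
        have := Finset.card_le_card (show (Finset.univ : Finset F) ⊆ {0, 1} from fun x _ => by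
          by_cases hx : x = 0
          · simp [hx]
          · simp [h' x hx])
        rw [Finset.card_univ] at this
        have := Finset.card_le_two (a := (0 : F)) (b := 1)
        omega
      refine ⟨m, (1 + m ^ 2) / m, div_ne_zero (fun e => hm1 ?_) hm0, ?_⟩
      · have : (m - 1) * (m - 1) = 0 := by linear_combination e - m * h2
        exact sub_eq_zero.1 (mul_self_eq_zero.1 this)
      · rw [hq, mul_zero, add_zero, mul_div_cancel₀ _ hm0]
        linear_combination (m ^ 2) * h2
    · refine ⟨1, (Q z)⁻¹, inv_ne_zero hq, ?_⟩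
      field_simp
      linear_combination h2
  refine ⟨s • u + t • z, ?_, ?_, ?_, ?_⟩
  · simp [hz, f_add_left, f_smul_left, hux, hkx.1]
  · simp [hz, f_add_left, f_smul_left, huy, hkx.2]
  · simpa [f_add_right, f_smul_right, huz] using ht
  · rw [Q_expand hQ, QuadraticMap.map_smul, QuadraticMap.map_smul, qu, f_smul_left, f_smul_right, huz]
    simp only [smul_eq_mul, mul_one]
    linear_combination hst

theorem quadric (hP : Base P) (hU : Uniq P) (hF : Full P) (h4 : 4 ≤ Fintype.card F) {a : V} (ha : a ∈ Dv P) :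
    ∃ Q : QuadraticForm F V, (∀ u v, polar Q u v = altForm4 u v) ∧ ∀ d ∈ Dv P, Q d = 1 := by
  obtain ⟨b, b', hb, hb', he⟩ := exists_two_nb hP hU ha
  obtain ⟨a', ha', hc⟩ := hP.exists_nonperp ha
  have hind : LinearIndependent F ![a, b, b', a'] := by
    rw [Fintype.linearIndependent_iff]
    intro g hg
    simp [Fin.sum_univ_four] at hg
    have g3 := congrArg (fun t => altForm4 t a) hg
    simp [f_add_left, f_smul_left, f_comm b a, f_comm b' a, f_comm a' a, hb.2.1, hb'.2.1, hc] at g3
    rw [g3, zero_smul, add_zero] at hg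
    have g1 := congrArg (fun t => altForm4 t b') hg
    have g2 := congrArg (fun t => altForm4 t b) hg
    simp [f_add_left, f_smul_left, f_comm b' b, hb.2.1, hb'.2.1, he] at g1 g2
    rw [g1, g2, zero_smul, zero_smul, add_zero, add_zero, smul_eq_zero] at hg
    intro i
    fin_cases i
    exacts [hg.resolve_right ha.1, g1, g2, g3]
  obtain ⟨Q, hQ, hval⟩ := exists_form _ hind
  have qa : Q a = 1 := hval 0
  have qb : Q b = 1 := hval 1
  have qb' : Q b' = 1 := hval 2
  have qa' : Q a' = 1 := hval 3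
  refine ⟨Q, hQ, fun d hd => ?_⟩
  have plane : ∀ y : V, altForm4 a y = 0 → (y ∈ Dv P ↔ Q y = 1) := fun y =>
    good_plane hP hU hF h4 hQ ha hb hb' he qa qb qb'
  by_cases hda : altForm4 a d = 0
  · exact (plane d hda).1 hd
  obtain ⟨h, hha, hhd⟩ := common_nb hP hU ha hd hda
  have qh : Q h = 1 := (plane h hha.2.1).1 hha.1
  -- a common neighbour of `a` and `a'` not orthogonal to `h`
  obtain ⟨k, hka, hka', hkh⟩ : ∃ k, Nb P a k ∧ Nb P a' k ∧ altForm4 h k ≠ 0 := by
    obtain ⟨k0, hk0, hk0'⟩ := common_nb hP hU ha ha' hc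
    by_cases hk : altForm4 h k0 = 0
    swap
    · exact ⟨k0, hk0, hk0', hk⟩
    obtain ⟨w, hwa, hwa', hkw, qw⟩ := second_point h4 hQ hc (by rw [f_comm]; exact hk0.2.1)
      (by rw [f_comm]; exact hk0'.2.1) hk0.1.1 ((plane k0 hk0.2.1).1 hk0.1)
    have hwD : w ∈ Dv P := (plane w (by rw [f_comm]; exact hwa)).2 qw
    refine ⟨w, ⟨hwD, by rw [f_comm]; exact hwa, fun e => hc (by rw [← e]; exact hwa')⟩,
      ⟨hwD, by rw [f_comm]; exact hwa', fun e => hc (by rw [f_comm, ← e]; exact hwa)⟩, fun hhw => hkw ?_⟩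
    obtain ⟨α, β, e⟩ := mem_span_of_perp ha.1 (hha.not_smul hU ha) hha.2.1 hwa (by rw [f_comm]; exact hhw)
    rw [e, f_add_right, f_smul_right, f_smul_right, f_comm k0 a, hk0.2.1, f_comm k0 h, hk]; simp
  have qk : Q k = 1 := (plane k hka.2.1).1 hka.1
  have plane' : ∀ y : V, altForm4 k y = 0 → (y ∈ Dv P ↔ Q y = 1) := fun y =>
    good_plane hP hU hF h4 hQ hka.1 (hka.symm ha) (hka'.symm ha') hc qk qa qa'
  obtain ⟨y, hyh, hyk, hay, qy⟩ := second_point h4 hQ hkh hha.2.1 hka.2.1 ha.1 qa
  have hyD : y ∈ Dv P := (plane' y (by rw [f_comm]; exact hyk)).2 qy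
  have hny : Nb P h y := ⟨hyD, by rw [f_comm]; exact hyh, fun e => hay (by rw [e]; exact hha.2.1)⟩
  exact (good_plane hP hU hF h4 hQ hha.1 (hha.symm ha) hny hay qh qa qy (by rw [f_comm]; exact hhd.2.1)).1 hd

/-- A simple group does not preserve a quadratic form and contain an orthogonal transvection. -/
theorem false_of_quadric (hP : Base P) (h4 : 4 ≤ Fintype.card F) {a : V} (ha : a ∈ Dv P)
    (hQ : ∀ u v, polar Q u v = altForm4 u v) (hall : ∀ d ∈ Dv P, Q d = 1) : False := by
  classical
  have hiso : ∀ g ∈ P, ∀ x, Q (g.1 *ᵥ x) = Q x := by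
    intro g hg
    refine hP.induction ha (p := fun g => ∀ x, Q (g.1 *ᵥ x) = Q x) (by simp) (fun u v hu hv x => ?_)
      (fun u hu x => ?_) hg
    · rw [Units.val_mul, ← Matrix.mulVec_mulVec, hu, hv]
    · rw [tv_apply, Q_expand hQ, QuadraticMap.map_smul, hall u hu, f_smul_right]
      simp only [smul_eq_mul, mul_one]
      linear_combination (altForm4 x u * altForm4 x u) * (CharTwo.two_eq_zero : (2 : F) = 0)
  let toLE : P →* (V ≃ₗ[F] V) := (LinearMap.GeneralLinearGroup.generalLinearEquiv F V).toMonoidHom.comp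
    (Matrix.GeneralLinearGroup.toLin.toMonoidHom.comp P.subtype)
  have happ : ∀ (g : P) (x : V), toLE g x = g.1.1 *ᵥ x := fun g x => rfl
  let φ : P →* CfsgLib.WittExtension.quadIso Q := toLE.codRestrict _ fun g x => hiso g.1 g.2 x
  have hnd : (polarBilin Q).Nondegenerate := by
    constructor <;> intro x hx <;> by_contra hx0 <;> obtain ⟨w, hw⟩ := exists_f_ne hx0
    · refine hw ?_
      have := hx w
      rw [polarBilin_apply_apply, hQ] at this
      rw [f_comm]; exact this
    · refine hw ?_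
      have := hx w
      rw [polarBilin_apply_apply, hQ] at this
      exact this
  have hc : Subgroup.closure (CfsgLib.SpinorNorm.Refl Q) = ⊤ := CfsgLib.SpinorNorm.closure_refl Q hnd <| Or.inl <| by
    by_contra h'
    push Not at h'
    have := Finset.card_le_card (show (Finset.univ : Finset F) ⊆ {0, 1} from fun x _ => by
      by_cases hx : x = 0
      · simp [hx]
      · simp [h' x hx])
    rw [Finset.card_univ] at this
    have := Finset.card_le_two (a := (0 : F)) (b := 1)
    omega
  let ψ : P →* ℤˣ := (CfsgLib.SpinorNorm.dicksonHom Q hnd hc).comp φ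
  have hqa : Q a ≠ 0 := by rw [hall a ha]; exact one_ne_zero
  have hφ : φ ⟨tv a, ha.2⟩ = CfsgLib.SpinorNorm.refl Q hqa := Subtype.ext (LinearEquiv.ext fun x => by
    rw [CfsgLib.SpinorNorm.refl_apply, hQ, hall a ha, inv_one, one_mul, CharTwo.neg_eq, f_comm]
    exact (happ _ x).trans (tv_apply a x))
  haveI := hP.simple
  rcases Subgroup.Normal.eq_bot_or_eq_top (inferInstance : ψ.ker.Normal) with h | h
  · exact hP.nonabelian ⟨⟨fun x y => (MonoidHom.ker_eq_bot_iff ψ).1 h (by rw [map_mul, map_mul, mul_comm])⟩⟩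
  · have : (⟨tv a, ha.2⟩ : P) ∈ ψ.ker := by rw [h]; exact Subgroup.mem_top _
    rw [MonoidHom.mem_ker, MonoidHom.comp_apply, hφ, CfsgLib.SpinorNorm.dicksonHom_refl] at this
    exact absurd this (by decide)

/-- A simple subgroup with a transvection contains all transvections. -/
theorem all_tv (hP : Base P) (h4 : 4 ≤ Fintype.card F) {a : V} (ha : a ∈ Dv P) {w : V} (hw : w ≠ 0) :
    w ∈ Dv P := by
  by_cases hU : Uniq P
  · exfalso
    by_cases hI : ImgU P
    · exact false_of_imgU hP hU hI h4 ha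
    · have hF := full_of_not_imgU hP hU hI
      obtain ⟨Q, hQ, hall⟩ := quadric hP hU hF h4 ha
      exact false_of_quadric hP h4 ha hQ hall
  · simp only [Uniq] at hU
    push Not at hU
    obtain ⟨u, hu, m, hm, hm1⟩ := hU
    exact big_all hP hu (fun e => hm.1 (by simp [e])) hm1 hm hw

end CfsgLib.Sp4Even
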