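import Cfsg.Agent.Lib.Sp4Even.Star

/-!
The three kinds of involutions of the symplectic group in characteristic two.
-/

set_option autoImplicit false
set_option maxHeartbeats 800000

namespace CfsgLib.Sp4Even

open Matrix Cfsg.Lie CfsgLib.Suzuki

variable {F : Type*} [Field F] [CharP F 2]

local notation "V" => (Fin 4 → F)
local notation "M4" => Matrix (Fin 4) (Fin 4) F
local notation "G4" => Matrix.GeneralLinearGroup (Fin 4) F

/-- The normal form of an involution fixing the standard isotropic line pointwise. -/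
def nf (a b c : F) : M4 := !![1, 0, a, c; 0, 1, b, a; 0, 0, 1, 0; 0, 0, 0, 1]

/-- An involution of the third class. -/
def IsC2 (g : G4) : Prop := ∃ h ∈ Sp4 F, ∃ a c : F, a ≠ 0 ∧ c ≠ 0 ∧ (h * g * h⁻¹).1 = nf a 0 c

theorem IsC2.conj {g x : G4} (hg : IsC2 g) (hx : x ∈ Sp4 F) : IsC2 (x * g * x⁻¹) := by
  obtain ⟨h, hh, a, c, ha, hc, e⟩ := hg
  exact ⟨h * x⁻¹, (Sp4 F).mul_mem hh ((Sp4 F).inv_mem hx), a, c, ha, hc, by rw [← e]; congr 1; group⟩

/-- A matrix of determinant one on the middle coordinates, as a symplectic transformation. -/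
def midGL (p q r s : F) (h : p * s + q * r = 1) : G4 where
  val := !![1, 0, 0, 0; 0, p, q, 0; 0, r, s, 0; 0, 0, 0, 1]
  inv := !![1, 0, 0, 0; 0, s, q, 0; 0, r, p, 0; 0, 0, 0, 1]
  val_inv := by
    ext i j
    fin_cases i <;> fin_cases j <;> simp [Matrix.mul_apply, Fin.sum_univ_four] <;>
      first
        | linear_combination h
        | linear_combination (p * q) * (CharTwo.two_eq_zero : (2 : F) = 0)
        | linear_combination (r * s) * (CharTwo.two_eq_zero : (2 : F) = 0)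
  inv_val := by
    ext i j
    fin_cases i <;> fin_cases j <;> simp [Matrix.mul_apply, Fin.sum_univ_four] <;>
      first
        | linear_combination h
        | linear_combination (s * q) * (CharTwo.two_eq_zero : (2 : F) = 0)
        | linear_combination (r * p) * (CharTwo.two_eq_zero : (2 : F) = 0)

theorem midGL_mem {p q r s : F} (h : p * s + q * r = 1) : midGL p q r s h ∈ Sp4 F := fun x y => by
  simp [midGL, altForm4, Matrix.mulVec, dotProduct, Fin.sum_univ_four]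
  linear_combination (x 1 * y 2 + x 2 * y 1) * h +
    (p * r * x 1 * y 1 + q * s * x 2 * y 2) * (CharTwo.two_eq_zero : (2 : F) = 0)

theorem exists_mid {u : V} (h3 : u 3 = 0) (hu : u 1 ≠ 0 ∨ u 2 ≠ 0) :
    ∃ h ∈ Sp4 F, h.1 *ᵥ (Pi.single 0 1 : V) = Pi.single 0 1 ∧
      (h.1 *ᵥ u) 1 = 1 ∧ (h.1 *ᵥ u) 2 = 0 ∧ (h.1 *ᵥ u) 3 = 0 := by
  by_cases h1 : u 1 = 0
  · have h2 := hu.resolve_left (not_not_intro h1)
    refine ⟨midGL 0 (u 2)⁻¹ (u 2) 0 (by field_simp; ring), midGL_mem _, ?_, ?_, ?_, ?_⟩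
    · ext i; fin_cases i <;> simp [midGL]
    all_goals simp [midGL, Matrix.mulVec, dotProduct, Fin.sum_univ_four, h1, h3, h2]
  · refine ⟨midGL (u 1)⁻¹ 0 (u 2) (u 1) (by field_simp; ring), midGL_mem _, ?_, ?_, ?_, ?_⟩
    · ext i; fin_cases i <;> simp [midGL]
    all_goals simp [midGL, Matrix.mulVec, dotProduct, Fin.sum_univ_four, h1, h3]
    linear_combination (u 1 * u 2) * (CharTwo.two_eq_zero : (2 : F) = 0)

/-- An involution maps onto an isotropic line, after a change of basis. -/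
theorem exists_nf [Finite F] {g : G4} (hg : g ∈ Sp4 F) (hsq : g * g = 1) :
    ∃ h ∈ Sp4 F, ∃ a b c : F, (h * g * h⁻¹).1 = nf a b c := by
  classical
  by_cases h1 : g = 1
  · refine ⟨1, (Sp4 F).one_mem, 0, 0, 0, ?_⟩
    subst h1
    ext i j; fin_cases i <;> fin_cases j <;> simp [nf]
  have hgg : ∀ x : V, g.1 *ᵥ (g.1 *ᵥ x) = x := fun x => by
    rw [Matrix.mulVec_mulVec, ← Units.val_mul, hsq, Units.val_one, Matrix.one_mulVec]
  have himg : ∀ x y : V, altForm4 (g.1 *ᵥ x + x) (g.1 *ᵥ y + y) = 0 := fun x y => by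
    simp only [f_add_left, f_add_right, f_map hg]
    have e : altForm4 (g.1 *ᵥ x) y = altForm4 x (g.1 *ᵥ y) := by
      rw [← f_map hg x (g.1 *ᵥ y), hgg]
    rw [e]
    linear_combination (altForm4 x y + altForm4 x (g.1 *ᵥ y)) * (CharTwo.two_eq_zero : (2 : F) = 0)
  obtain ⟨x, hx⟩ : ∃ x : V, g.1 *ᵥ x + x ≠ 0 := by
    by_contra hc
    push Not at hc
    refine h1 (gl_ext fun x => ?_)
    rw [Units.val_one, Matrix.one_mulVec]
    exact CharTwo.add_eq_zero.1 (hc x)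
  obtain ⟨h₁, hh₁, e₁⟩ := exists_map_vec hx (v := (Pi.single 0 1 : V))
    (fun e => one_ne_zero (α := F) (by simpa using congrFun e 0))
  -- all images of `g - 1` go into the orthogonal of the first basis vector
  have hperp : ∀ y : V, (h₁.1 *ᵥ (g.1 *ᵥ y + y)) 3 = 0 := fun y => by
    have := (f_map hh₁ _ _).trans (himg y x)
    rw [e₁] at this
    simpa [altForm4] using this
  obtain ⟨h, hh, hline⟩ : ∃ h ∈ Sp4 F, ∀ y : V, (h.1 *ᵥ (g.1 *ᵥ y + y)) 2 = 0 ∧ (h.1 *ᵥ (g.1 *ᵥ y + y)) 3 = 0 := by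
    by_cases hbig : ∃ y : V, (h₁.1 *ᵥ (g.1 *ᵥ y + y)) 1 ≠ 0 ∨ (h₁.1 *ᵥ (g.1 *ᵥ y + y)) 2 ≠ 0
    · obtain ⟨y₀, hy₀⟩ := hbig
      obtain ⟨h₂, hh₂, e0, k1, k2, k3⟩ := exists_mid (hperp y₀) hy₀
      refine ⟨h₂ * h₁, (Sp4 F).mul_mem hh₂ hh₁, fun y => ?_⟩
      have i0 := (f_map ((Sp4 F).mul_mem hh₂ hh₁) _ _).trans (himg y x)
      have i1 := (f_map ((Sp4 F).mul_mem hh₂ hh₁) _ _).trans (himg y y₀)
      rw [Units.val_mul, ← Matrix.mulVec_mulVec, ← Matrix.mulVec_mulVec] at i0 i1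
      rw [e₁, e0] at i0
      rw [Units.val_mul, ← Matrix.mulVec_mulVec]
      generalize h₂.1 *ᵥ (h₁.1 *ᵥ (g.1 *ᵥ y + y)) = v at i0 i1
      generalize h₂.1 *ᵥ (h₁.1 *ᵥ (g.1 *ᵥ y₀ + y₀)) = w at i1 k1 k2 k3
      have v3 : v 3 = 0 := by simpa [altForm4] using i0
      simp only [altForm4, v3, k1, k2, k3, mul_zero, zero_mul, add_zero, zero_add, mul_one] at i1
      exact ⟨i1, v3⟩
    · push Not at hbig
      exact ⟨h₁, hh₁, fun y => ⟨(hbig y).2, hperp y⟩⟩
  have hm : h * g * h⁻¹ ∈ Sp4 F := (Sp4 F).mul_mem ((Sp4 F).mul_mem hh hg) ((Sp4 F).inv_mem hh)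
  have hmm : (h * g * h⁻¹) * (h * g * h⁻¹) = 1 := by
    rw [show h * g * h⁻¹ * (h * g * h⁻¹) = h * (g * g) * h⁻¹ by group, hsq, mul_one, mul_inv_cancel]
  have hm2 : ∀ z : V, ((h * g * h⁻¹).1 *ᵥ z + z) 2 = 0 ∧ ((h * g * h⁻¹).1 *ᵥ z + z) 3 = 0 := fun z => by
    have := hline ((h⁻¹).1 *ᵥ z)
    rwa [Matrix.mulVec_add, Matrix.mulVec_mulVec, Matrix.mulVec_mulVec, Matrix.mulVec_mulVec, ← Units.val_mul,
      ← Units.val_mul, ← Units.val_mul, mul_inv_cancel, Units.val_one, Matrix.one_mulVec] at this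
  refine ⟨h, hh, ?_⟩
  generalize h * g * h⁻¹ = m at hm hmm hm2 ⊢
  have hz := fun j : Fin 4 => hm2 (Pi.single j 1)
  simp only [Matrix.mulVec_single_one, Pi.add_apply, Matrix.col_apply] at hz
  have r20 : m.1 2 0 = 0 := by simpa using (hz 0).1
  have r30 : m.1 3 0 = 0 := by simpa using (hz 0).2
  have r21 : m.1 2 1 = 0 := by simpa using (hz 1).1
  have r31 : m.1 3 1 = 0 := by simpa using (hz 1).2
  have r22 : m.1 2 2 = 1 := by simpa [CharTwo.add_eq_zero] using (hz 2).1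
  have r32 : m.1 3 2 = 0 := by simpa using (hz 2).2
  have r23 : m.1 2 3 = 0 := by simpa using (hz 3).1
  have r33 : m.1 3 3 = 1 := by simpa [CharTwo.add_eq_zero] using (hz 3).2
  have c03 := col_rel hm 0 3
  have c02 := col_rel hm 0 2
  have c13 := col_rel hm 1 3
  have c12 := col_rel hm 1 2
  have c23 := col_rel hm 2 3
  simp [CfsgLib.Suzuki.J, r20, r30, r21, r31, r22, r32, r23, r33] at c03 c02 c13 c12 c23
  refine ⟨m.1 0 2, m.1 1 2, m.1 0 3, ?_⟩
  have c23' : m.1 1 3 = m.1 0 2 := (CharTwo.add_eq_zero.1 (by linear_combination c23))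
  ext i j
  fin_cases i <;> fin_cases j <;> simp [nf, r20, r30, r21, r31, r22, r32, r23, r33, c03, c02, c13, c12, c23']

theorem nf_eq_tv {a b c γ β : F} (hc : γ * γ = c) (hb : β * β = b) (ha : γ * β = a) :
    nf a b c = (tv (![γ, β, 0, 0] : V)).1 := by
  refine Matrix.ext_of_mulVec_single fun i => ?_
  rw [tv_apply]
  ext j
  fin_cases i <;> fin_cases j <;> simp [nf, altForm4, hc, hb, ha, mul_comm β γ]

theorem star4_nf (a : F) : star4 (nf a 0 0) = (tv (![a, 0, 0, 0] : V)).1 := by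
  refine Matrix.ext_of_mulVec_single fun i => ?_
  rw [tv_apply]
  ext j
  fin_cases i <;> fin_cases j <;> simp [nf, star4, pairOf, altForm4]

/-- Transvections, their images, and the third class. -/
theorem invol_cases [Finite F] {g : G4} (hg : g ∈ Sp4 F) (hsq : g * g = 1) (h1 : g ≠ 1) :
    (∃ v : V, v ≠ 0 ∧ g = tv v) ∨ (∃ v : V, v ≠ 0 ∧ starHom ⟨g, hg⟩ = tv v) ∨ IsC2 g := by
  obtain ⟨h, hh, a, b, c, e⟩ := exists_nf hg hsq
  have hne : h * g * h⁻¹ ≠ 1 := fun E => h1 (conj_eq_one_iff.1 E)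
  have sq := Finite.injective_iff_surjective.1 (frobenius_inj F 2)
  obtain ⟨γ, hγ⟩ := sq c
  obtain ⟨β, hβ⟩ := sq b
  rw [frobenius_def, pow_two] at hγ hβ
  have hinv : ∀ w : V, (h⁻¹).1 *ᵥ (h.1 *ᵥ w) = w := fun w => by
    rw [Matrix.mulVec_mulVec, ← Units.val_mul, inv_mul_cancel, Units.val_one, Matrix.one_mulVec]
  by_cases hbc : γ * β = a
  · left
    have hv : h * g * h⁻¹ = tv (![γ, β, 0, 0] : V) := Units.ext (e.trans (nf_eq_tv hγ hβ hbc))
    refine ⟨(h⁻¹).1 *ᵥ ![γ, β, 0, 0], fun E => hne ?_, ?_⟩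
    · have := congrArg (h.1 *ᵥ ·) E
      simp only [Matrix.mulVec_mulVec, ← Units.val_mul, mul_inv_cancel, Units.val_one, Matrix.one_mulVec,
        Matrix.mulVec_zero] at this
      rw [hv, this, tv_zero]
    · rw [← tv_conj ((Sp4 F).inv_mem hh), ← hv]; group
  right
  by_cases h0 : b = 0 ∧ c = 0
  · left
    set k : Sp4 F := ⟨h, hh⟩ with hk
    have hv : starHom (k * ⟨g, hg⟩ * k⁻¹) = tv (![a, 0, 0, 0] : V) := by
      refine Units.ext ?_
      rw [starHom_val, show (k * ⟨g, hg⟩ * k⁻¹ : Sp4 F).1.1 = (h * g * h⁻¹).1 from rfl, e, h0.1, h0.2, star4_nf]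
    rw [map_mul, map_mul, map_inv] at hv
    refine ⟨((starHom k)⁻¹).1 *ᵥ ![a, 0, 0, 0], fun E => ?_, ?_⟩
    · have := congrArg ((starHom k).1 *ᵥ ·) E
      simp only [Matrix.mulVec_mulVec, ← Units.val_mul, mul_inv_cancel, Units.val_one, Matrix.one_mulVec,
        Matrix.mulVec_zero] at this
      have ha : a = 0 := by simpa using congrFun this 0
      refine hbc ?_
      rw [ha]
      have hb0 : β = 0 := mul_self_eq_zero.1 (hβ.trans h0.1)
      rw [hb0, mul_zero]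
    · rw [← tv_conj ((Sp4 F).inv_mem (starHom_mem k)), ← hv]; group
  right
  by_cases hb : b = 0
  · refine ⟨h, hh, a, c, fun ha => hbc ?_, fun hc => h0 ⟨hb, hc⟩, by rw [e, hb]⟩
    rw [mul_self_eq_zero.1 (hβ.trans hb), mul_zero, ha]
  have hβ0 : β ≠ 0 := fun E => hb (by rw [← hβ, E, mul_zero])
  let m : G4 :=
    { val := !![0, 1, 0, 0; β, γ, 0, 0; 0, 0, 0, β⁻¹; 0, 0, 1, γ * β⁻¹]
      inv := !![γ * β⁻¹, β⁻¹, 0, 0; 1, 0, 0, 0; 0, 0, γ, 1; 0, 0, β, 0]
      val_inv := by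
        ext i j
        fin_cases i <;> fin_cases j <;> simp [Matrix.mul_apply, Fin.sum_univ_four, hβ0] <;>
          field_simp <;> linear_combination γ * (CharTwo.two_eq_zero : (2 : F) = 0)
      inv_val := by
        ext i j
        fin_cases i <;> fin_cases j <;> simp [Matrix.mul_apply, Fin.sum_univ_four, hβ0] <;>
          field_simp <;> linear_combination γ * (CharTwo.two_eq_zero : (2 : F) = 0) }
  have hm : m ∈ Sp4 F := fun x y => by
    simp [m, altForm4, Matrix.mulVec, dotProduct, Fin.sum_univ_four]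
    field_simp
    linear_combination (γ * x 1 * y 3 + γ * x 3 * y 1) * (CharTwo.two_eq_zero : (2 : F) = 0)
  refine ⟨m * h, (Sp4 F).mul_mem hm hh, β * a + γ * b, b, fun E => hbc ?_, hb, ?_⟩
  · have : β * (a + γ * β) = 0 := by linear_combination E + γ * hβ
    exact ((CharTwo.add_eq_zero.1 ((mul_eq_zero.1 this).resolve_left hβ0))).symm
  · rw [show m * h * g * (m * h)⁻¹ = m * (h * g * h⁻¹) * m⁻¹ by group]
    rw [Units.val_mul, Units.val_mul, e]
    suffices hs : m.1 * nf a b c = nf (β * a + γ * b) 0 b * m.1 by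
      rw [hs, Matrix.mul_assoc, ← Units.val_mul, mul_inv_cancel, Units.val_one, Matrix.mul_one]
    ext i j
    fin_cases i <;> fin_cases j <;>
      simp [m, nf, Matrix.mul_apply, Fin.sum_univ_four, ← hγ, ← hβ] <;> field_simp <;>
      first
        | linear_combination (norm := (ring_nf <;> simp [CharTwo.two_eq_zero])) (0 : F) * hb
        | linear_combination (norm := ring_nf) (0 : F) * hb

/-- The centraliser of an involution of the third class consists of upper unitriangular matrices. -/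
theorem cent_nf {a c : F} (ha : a ≠ 0) (hc : c ≠ 0) {k : G4} (hk : k ∈ Sp4 F)
    (e : k.1 * nf a 0 c = nf a 0 c * k.1) :
    k.1 0 0 = 1 ∧ k.1 1 0 = 0 ∧ k.1 1 1 = 1 ∧ k.1 2 0 = 0 ∧ k.1 3 0 = 0 ∧ k.1 2 1 = 0 ∧ k.1 3 1 = 0 ∧
      k.1 2 2 = 1 ∧ k.1 3 2 = 0 ∧ k.1 3 3 = 1 ∧ k.1 2 3 = k.1 0 1 := by
  have h2 : (2 : F) = 0 := CharTwo.two_eq_zero
  have E := fun i j => congrFun (congrFun e i) j
  have e00 := E 0 0
  have e10 := E 1 0
  have e01 := E 0 1
  have e11 := E 1 1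
  have e02 := E 0 2
  have e03 := E 0 3
  have e12 := E 1 2
  have e13 := E 1 3
  simp [nf, Matrix.mul_apply, Fin.sum_univ_four] at e00 e10 e01 e11 e02 e03 e12 e13
  have r30 : k.1 3 0 = 0 := by simpa [ha] using e10
  have r20 : k.1 2 0 = 0 := by simpa [ha, r30] using e00
  have r31 : k.1 3 1 = 0 := by simpa [ha] using e11
  have r21 : k.1 2 1 = 0 := by simpa [ha, r31] using e01
  have c02 := col_rel hk 0 2
  have c03 := col_rel hk 0 3
  have c12 := col_rel hk 1 2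
  have c13 := col_rel hk 1 3
  simp [CfsgLib.Suzuki.J, r20, r30, r21, r31] at c02 c03 c12 c13
  have r10 : k.1 1 0 = 0 := by
    have h32 : a * (k.1 3 2 - k.1 1 0) = 0 := by linear_combination (norm := (ring_nf <;> simp [h2])) e12
    have h32' : k.1 3 2 = k.1 1 0 := sub_eq_zero.1 ((mul_eq_zero.1 h32).resolve_left ha)
    have : c * (k.1 1 0 * k.1 1 0) = 0 := by
      rw [h32'] at c02 e02
      linear_combination (norm := (ring_nf <;> simp [h2])) a * c02 + k.1 1 0 * e02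
    exact mul_self_eq_zero.1 ((mul_eq_zero.1 this).resolve_left hc)
  have r32 : k.1 3 2 = 0 := by simpa [r10, ha] using e12.symm
  simp [r10, r32] at c03 c12 c13 e02 e03 e13
  have r22 : k.1 2 2 = k.1 0 0 := mul_left_cancel₀ ha (by linear_combination -e02)
  have r33 : k.1 3 3 = k.1 1 1 := mul_left_cancel₀ ha (by linear_combination -e13)
  rw [r22] at c12
  rw [r33] at c03 c13
  have hp : k.1 1 1 = k.1 0 0 := by
    have h11 : k.1 1 1 ≠ 0 := fun E => one_ne_zero (c12.symm.trans (by rw [E, zero_mul]))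
    have : k.1 1 1 * c * (k.1 0 0 - k.1 1 1) = 0 := by
      linear_combination (norm := (ring_nf <;> simp [h2])) k.1 1 1 * e03 + a * c13 + k.1 1 1 * c * r33
    exact (sub_eq_zero.1 ((mul_eq_zero.1 this).resolve_left (mul_ne_zero h11 hc))).symm
  rw [hp] at c03
  have r00 : k.1 0 0 = 1 := by
    have : (k.1 0 0 - 1) * (k.1 0 0 - 1) = 0 := by linear_combination (norm := (ring_nf <;> simp [h2])) c03
    exact sub_eq_zero.1 (mul_self_eq_zero.1 this)
  refine ⟨r00, r10, hp.trans r00, r20, r30, r21, r31, r22.trans r00, r32, r33.trans (hp.trans r00), ?_⟩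
  rw [hp, r00] at c13
  exact CharTwo.add_eq_zero.1 (by linear_combination c13)

theorem pow_four_of_commute {g k : G4} (hg : IsC2 g) (hk : k ∈ Sp4 F) (e : k * g = g * k) : k ^ 4 = 1 := by
  obtain ⟨h, hh, a, c, ha, hc, hn⟩ := hg
  suffices hs : (h * k * h⁻¹) ^ 4 = 1 by rwa [conj_pow, conj_eq_one_iff] at hs
  have hk' : h * k * h⁻¹ ∈ Sp4 F := (Sp4 F).mul_mem ((Sp4 F).mul_mem hh hk) ((Sp4 F).inv_mem hh)
  have e' : (h * k * h⁻¹).1 * nf a 0 c = nf a 0 c * (h * k * h⁻¹).1 := by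
    rw [← hn, ← Units.val_mul, ← Units.val_mul]
    congr 1
    calc h * k * h⁻¹ * (h * g * h⁻¹) = h * (k * g) * h⁻¹ := by group
      _ = h * (g * k) * h⁻¹ := by rw [e]
      _ = _ := by group
  generalize h * k * h⁻¹ = x at hk' e'
  obtain ⟨x00, x10, x11, x20, x30, x21, x31, x22, x32, x33, x23⟩ := cent_nf ha hc hk' e'
  refine Units.ext ?_
  rw [Units.val_pow_eq_pow_val, Units.val_one, pow_succ, pow_succ, pow_succ, pow_one]
  ext i j
  fin_cases i <;> fin_cases j <;>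
    simp [Matrix.mul_apply, Fin.sum_univ_four, x00, x10, x11, x20, x30, x21, x31, x22, x32, x33, x23] <;>
    linear_combination (norm := (ring_nf <;> simp [CharTwo.two_eq_zero, show (4 : F) = 0 by
      linear_combination 2 * (CharTwo.two_eq_zero : (2 : F) = 0), show (6 : F) = 0 by
      linear_combination 3 * (CharTwo.two_eq_zero : (2 : F) = 0)])) (0 : F) * x00

end CfsgLib.Sp4Even
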