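import Cfsg.Agent.Lib.MaxSub.ResThree.Realise
import Mathlib.RingTheory.LittleWedderburn
import Mathlib.RingTheory.Idempotents

/-!
A finite unital subring spanning a full matrix algebra contains an element of rank one, so an absolutely
irreducible group with all traces in a subfield is realised over that subfield.
-/

set_option autoImplicit false
set_option maxHeartbeats 800000

namespace CfsgLib.Sp4Even

open Matrix Module

variable {ι : Type} [Fintype ι] [DecidableEq ι] {F : Type*} [Field F]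

/-- A finite monoid element has an idempotent power. -/
theorem exists_idem_pow {M : Type*} [Monoid M] [Finite M] (x : M) :
    ∃ n, 0 < n ∧ x ^ n * x ^ n = x ^ n := by
  obtain ⟨i, j, hne, h⟩ := Finite.exists_ne_map_eq_of_infinite (fun n : ℕ => x ^ n)
  wlog hij : i < j generalizing i j
  · exact this j i hne.symm h.symm (lt_of_le_of_ne (not_lt.1 hij) hne.symm)
  try simp only at h
  have hper : ∀ m, i ≤ m → x ^ (m + (j - i)) = x ^ m := by
    intro m hm
    obtain ⟨d, rfl⟩ := Nat.le.dest hm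
    rw [show i + d + (j - i) = j + d by omega, pow_add, ← h, ← pow_add]
  have hmul : ∀ k m, i ≤ m → x ^ (m + k * (j - i)) = x ^ m := by
    intro k
    induction k with
    | zero => simp
    | succ k ih =>
      intro m hm
      rw [add_mul, one_mul, ← add_assoc, hper _ (le_trans hm (Nat.le_add_right _ _)), ih m hm]
  refine ⟨(i + 1) * (j - i), Nat.mul_pos (by omega) (by omega), ?_⟩
  rw [← pow_add, hmul (i + 1) _ (le_trans (Nat.le_succ i) (Nat.le_mul_of_pos_right _ (by omega)))]

/-- A matrix of rank at most one is a column times a row. -/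
theorem exists_vecMulVec_of_rank {M : Matrix ι ι F} (hM : M.rank ≤ 1) :
    ∃ u v : ι → F, M = Matrix.vecMulVec u v := by
  by_cases h0 : M = 0
  · exact ⟨0, 0, by rw [h0]; ext; simp [Matrix.vecMulVec_apply]⟩
  obtain ⟨j, hj⟩ : ∃ j, M.col j ≠ 0 := by
    by_contra h
    push Not at h
    exact h0 (Matrix.ext fun i j => congrFun (h j) i)
  have hmem : ∀ k, M.col k ∈ Submodule.span F {M.col j} := by
    have hle : Submodule.span F {M.col j} ≤ LinearMap.range M.mulVecLin := by
      rw [Submodule.span_le, Set.singleton_subset_iff]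
      exact ⟨Pi.single j 1, by simp⟩
    have heq := Submodule.eq_of_le_of_finrank_le hle (by rw [finrank_span_singleton hj]; exact hM)
    exact fun k => heq ▸ ⟨Pi.single k 1, by simp⟩
  choose v hv using fun k => Submodule.mem_span_singleton.1 (hmem k)
  refine ⟨M.col j, v, ?_⟩
  ext i k
  rw [Matrix.vecMulVec_apply, mul_comm]
  exact (congrFun (hv k) i).symm

/-- An idempotent with commutative corner in the full matrix algebra has rank at most one. -/
theorem rank_le_one_of_corner {e : Matrix ι ι F} (he : e * e = e)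
    (h : ∀ A B : Matrix ι ι F, e * A * e * (e * B * e) = e * B * e * (e * A * e)) : e.rank ≤ 1 := by
  by_cases h0 : e = 0
  · simp [h0]
  obtain ⟨u₀, hu₀⟩ : ∃ u₀, e *ᵥ u₀ ≠ 0 := by
    by_contra hc
    push Not at hc
    exact h0 (Matrix.ext_of_mulVec_single fun i => by rw [hc, Matrix.zero_mulVec])
  set u := e *ᵥ u₀ with hu
  have heu : e *ᵥ u = u := by rw [hu, Matrix.mulVec_mulVec, he]
  obtain ⟨i, hi⟩ := Function.ne_iff.1 hu₀
  set b : ι → F := Pi.single i (u i)⁻¹ with hb
  have hbu : b ⬝ᵥ u = 1 := by rw [hb, single_dotProduct, inv_mul_cancel₀ hi]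
  rw [Matrix.rank]
  refine le_trans (Submodule.finrank_mono (t := Submodule.span F {u}) ?_) ?_
  · rintro _ ⟨w, rfl⟩
    rw [Matrix.mulVecLin_apply]
    set v := e *ᵥ w with hv
    have hev : e *ᵥ v = v := by rw [hv, Matrix.mulVec_mulVec, he]
    have key := congrArg (· *ᵥ u) (h (vecMulVec u b) (vecMulVec v b))
    simp only [← Matrix.mulVec_mulVec, heu, Matrix.vecMulVec_mulVec, hbu, hev, Matrix.mulVec_smul] at key
    exact Submodule.mem_span_singleton.2 ⟨b ⬝ᵥ v, by simpa [hev, heu, hbu] using key⟩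
  · exact le_of_eq (finrank_span_singleton hu₀)

/-- A finite subring spanning the matrix algebra contains a non-zero element of rank at most one. -/
theorem exists_rank_one_of_spans [Finite F] [Nonempty ι] (R : Subring (Matrix ι ι F))
    (hspan : Submodule.span F (R : Set (Matrix ι ι F)) = ⊤) :
    ∃ x ∈ R, x ≠ 0 ∧ x.rank ≤ 1 := by
  classical
  have hex : ∃ r : ℕ, ∃ x ∈ R, x ≠ 0 ∧ x.rank ≤ r :=
    ⟨Fintype.card ι, 1, R.one_mem, one_ne_zero, Matrix.rank_le_card_width _⟩
  obtain ⟨x, hxR, hx0, hxr⟩ := Nat.find_spec hex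
  have hmin : ∀ y ∈ R, y ≠ 0 → Nat.find hex ≤ y.rank := fun y hy hy0 => Nat.find_le ⟨y, hy, hy0, le_rfl⟩
  obtain ⟨y, hyR, hy⟩ : ∃ y ∈ R, ¬ IsNilpotent (x * y) := by
    by_contra hc
    push Not at hc
    refine hx0 (CfsgLib.ResThree.trace_mul_eq_zero fun M => ?_)
    refine Submodule.span_induction (p := fun M _ => (x * M).trace = 0) ?_ ?_ ?_ ?_
      (hspan.symm ▸ Submodule.mem_top : M ∈ Submodule.span F (R : Set (Matrix ι ι F)))
    · exact fun M hM => (Matrix.isNilpotent_trace_of_isNilpotent (hc M hM)).eq_zero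
    · simp
    · intro A B _ _ hA hB; rw [mul_add, Matrix.trace_add, hA, hB, add_zero]
    · intro c A _ hA; rw [Matrix.mul_smul, Matrix.trace_smul, hA, smul_zero]
  obtain ⟨n, hn, hidem⟩ := exists_idem_pow (x * y)
  have hne : (x * y) ^ n ≠ 0 := fun e => hy ⟨n, e⟩
  obtain ⟨m, rfl⟩ : ∃ m, n = m + 1 := ⟨n - 1, by omega⟩
  have her : ((x * y) ^ (m + 1)).rank ≤ Nat.find hex := by
    refine le_trans ?_ hxr
    rw [pow_succ', mul_assoc]
    exact Matrix.rank_mul_le_left _ _
  set e := (x * y) ^ (m + 1) with he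
  have heR : e ∈ R := R.pow_mem (R.mul_mem hxR hyR) _
  refine ⟨e, heR, hne, rank_le_one_of_corner hidem ?_⟩
  let e' : R := ⟨e, heR⟩
  have hi : IsIdempotentElem e' := Subtype.ext hidem
  haveI : Finite hi.Corner := inferInstanceAs (Finite (Subtype _))
  haveI : Nontrivial hi.Corner :=
    ⟨⟨0, 1, fun E => hne (congrArg (fun z : hi.Corner => z.1.1) E).symm⟩⟩
  haveI : NoZeroDivisors hi.Corner := ⟨fun {a b} hab => by
    by_contra hc
    push Not at hc
    have ha0 : a.1.1 ≠ 0 := fun E => hc.1 (Subtype.ext (Subtype.ext E))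
    have hb0 : b.1.1 ≠ 0 := fun E => hc.2 (Subtype.ext (Subtype.ext E))
    have hz : a.1.1 * b.1.1 = 0 := congrArg (fun z : hi.Corner => z.1.1) hab
    have hea : a.1.1 * e = a.1.1 := congrArg Subtype.val ((Subsemigroup.mem_corner_iff hi).1 a.2).2
    have heb : e * b.1.1 = b.1.1 := congrArg Subtype.val ((Subsemigroup.mem_corner_iff hi).1 b.2).1
    have hle : LinearMap.range b.1.1.mulVecLin ≤ LinearMap.range e.mulVecLin := by
      conv_lhs => rw [← heb, Matrix.mulVecLin_mul]
      exact LinearMap.range_comp_le_range _ _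
    have heq := Submodule.eq_of_le_of_finrank_le hle (le_trans her (hmin _ b.1.2 hb0))
    refine ha0 (hea.symm.trans (Matrix.ext_of_mulVec_single fun i => ?_))
    obtain ⟨w, hw⟩ : e *ᵥ (Pi.single i 1 : ι → F) ∈ LinearMap.range b.1.1.mulVecLin :=
      heq ▸ ⟨Pi.single i 1, rfl⟩
    rw [Matrix.mulVecLin_apply] at hw
    rw [← Matrix.mulVec_mulVec, ← hw, Matrix.mulVec_mulVec, hz, Matrix.zero_mulVec, Matrix.zero_mulVec]⟩
  haveI : IsDomain hi.Corner := NoZeroDivisors.to_isDomain _
  have hcomm := (Finite.isDomain_to_isField hi.Corner).mul_comm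
  intro A B
  refine Submodule.span_induction (p := fun A _ => e * A * e * (e * B * e) = e * B * e * (e * A * e)) ?_ ?_ ?_ ?_
    (hspan.symm ▸ Submodule.mem_top : A ∈ Submodule.span F (R : Set (Matrix ι ι F)))
  · intro a ha
    refine Submodule.span_induction (p := fun B _ => e * a * e * (e * B * e) = e * B * e * (e * a * e)) ?_ ?_ ?_ ?_
      (hspan.symm ▸ Submodule.mem_top : B ∈ Submodule.span F (R : Set (Matrix ι ι F)))
    · intro b hb
      have k := hcomm (⟨e' * ⟨a, ha⟩ * e', ⟨a, ha⟩, rfl⟩ : hi.Corner) (⟨e' * ⟨b, hb⟩ * e', ⟨b, hb⟩, rfl⟩ : hi.Corner)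
      exact congrArg (Subtype.val : R → Matrix ι ι F) (congrArg Subtype.val k)
    · simp
    · intro u v _ _ hu hv; simp only [mul_add, add_mul, hu, hv]
    · intro c u _ hu; simp only [Matrix.mul_smul, Matrix.smul_mul, hu]
  · simp
  · intro u v _ _ hu hv; simp only [mul_add, add_mul, hu, hv]
  · intro c u _ hu; simp only [Matrix.mul_smul, Matrix.smul_mul, hu]

/-- An absolutely irreducible group whose traces lie in a subfield is realised over it. -/
theorem realisable_of_traces [Finite F] [Nonempty ι] {P : Subgroup (GL ι F)}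
    (hP : CfsgLib.Aschbacher.envelope P = ⊤) {F₀ : Subfield F} (htr : ∀ g ∈ P, g.1.trace ∈ F₀) :
    Cfsg.Geo.RealisableOver F₀ (Cfsg.Geo.matrixSet P) := by
  set A := Submodule.span F₀ (Cfsg.Geo.matrixSet P) with hA
  have hmul : ∀ a ∈ A, ∀ b ∈ A, a * b ∈ A := by
    intro a ha b hb
    refine Submodule.span_induction (p := fun a _ => a * b ∈ A) ?_ ?_ ?_ ?_ ha
    · rintro _ ⟨g, hg, rfl⟩
      refine Submodule.span_induction (p := fun b _ => (g : Matrix ι ι F) * b ∈ A) ?_ ?_ ?_ ?_ hb
      · rintro _ ⟨k, hk, rfl⟩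
        exact Submodule.subset_span ⟨g * k, P.mul_mem hg hk, Units.val_mul g k⟩
      · simp
      · intro u v _ _ hu hv; rw [mul_add]; exact add_mem hu hv
      · intro c u _ hu; rw [Matrix.mul_smul]; exact A.smul_mem c hu
    · simp
    · intro u v _ _ hu hv; rw [add_mul]; exact add_mem hu hv
    · intro c u _ hu; rw [Matrix.smul_mul]; exact A.smul_mem c hu
  let R : Subring (Matrix ι ι F) :=
    { carrier := A
      one_mem' := Submodule.subset_span ⟨1, P.one_mem, rfl⟩
      mul_mem' := fun {a b} ha hb => hmul a ha b hb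
      zero_mem' := A.zero_mem
      add_mem' := A.add_mem
      neg_mem' := A.neg_mem }
  have hspan : Submodule.span F (A : Set (Matrix ι ι F)) = ⊤ :=
    top_le_iff.1 (hP ▸ Submodule.span_mono Submodule.subset_span)
  obtain ⟨x, hxA, hx0, hx1⟩ := exists_rank_one_of_spans R hspan
  obtain ⟨u, v, rfl⟩ := exists_vecMulVec_of_rank hx1
  exact CfsgLib.ResThree.realisable_of_trace hP htr (fun e => hx0 (by ext; simp [Matrix.vecMulVec_apply, e]))
    (fun e => hx0 (by ext; simp [Matrix.vecMulVec_apply, e])) hxA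

end CfsgLib.Sp4Even
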