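import Cfsg.Agent.Lib.Sp4Even.Basic
import Cfsg.Agent.S0765
import Cfsg.Prelude.Def_GeometricClasses

/-!
Comparison with the group of the standard alternating form on `Fin 2 ⊕ Fin 2`.
-/

set_option autoImplicit false

namespace CfsgLib.Sp4Even

open Matrix Cfsg.Lie

variable {F : Type*} [Field F]

local notation "S4" => (Fin 2 ⊕ Fin 2)
local notation "G4" => Matrix.GeneralLinearGroup (Fin 4) F

/-- The index map: the pairs `(0,3)` and `(1,2)` are hyperbolic. -/
def idx : S4 ≃ Fin 4 where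
  toFun := Sum.elim ![0, 1] ![3, 2]
  invFun := ![Sum.inl 0, Sum.inl 1, Sum.inr 1, Sum.inr 0]
  left_inv := by rintro (i | i) <;> fin_cases i <;> rfl
  right_inv := by intro i; fin_cases i <;> rfl

/-- The transport of invertible matrices along `idx`. -/
def tr4 (F : Type*) [Field F] : GL S4 F ≃* GL (Fin 4) F := Cfsg.Geo.glReindex idx

theorem tr4_mulVec (g : GL S4 F) (x : Fin 4 → F) : (tr4 F g).1 *ᵥ x = (g.1 *ᵥ (x ∘ idx)) ∘ idx.symm := by
  rw [show (tr4 F g).1 = Matrix.reindex idx idx g.1 from rfl, Matrix.reindex_apply, Matrix.submatrix_mulVec_equiv]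
  rfl

theorem idx_symm_comp (u : S4 → F) : (u ∘ idx.symm) ∘ idx = u := funext fun i => by simp

theorem idx_comp (x : Fin 4 → F) : (x ∘ idx) ∘ idx.symm = x := funext fun i => by simp

variable [CharP F 2]

theorem sympForm_eq (u v : S4 → F) :
    Cfsg.sympForm 2 F u v = altForm4 (u ∘ idx.symm) (v ∘ idx.symm) := by
  simp [Cfsg.sympForm, altForm4, idx, Matrix.J, dotProduct, Matrix.mulVec, Fintype.sum_sum_type, Fin.sum_univ_two,
    Matrix.fromBlocks, Matrix.one_apply, CharTwo.neg_eq]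
  ring

theorem mem_Sp4_tr4 (g : GL S4 F) : tr4 F g ∈ Sp4 F ↔ g ∈ Cfsg.spGL 2 F := by
  constructor
  · intro h u v
    show Cfsg.sympForm 2 F (g.1 *ᵥ u) (g.1 *ᵥ v) = _
    have := f_map h (u ∘ idx.symm) (v ∘ idx.symm)
    rw [tr4_mulVec, tr4_mulVec, idx_symm_comp, idx_symm_comp] at this
    rw [sympForm_eq, sympForm_eq, this]
  · intro h x y
    show altForm4 ((tr4 F g).1 *ᵥ x) ((tr4 F g).1 *ᵥ y) = _
    rw [tr4_mulVec, tr4_mulVec, ← sympForm_eq,
      show Cfsg.sympForm 2 F (g.1 *ᵥ (x ∘ idx)) (g.1 *ᵥ (y ∘ idx)) = _ from h (x ∘ idx) (y ∘ idx), sympForm_eq,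
      idx_comp, idx_comp]

theorem map_spGL : (Cfsg.spGL 2 F).map (tr4 F).toMonoidHom = Sp4 F := by
  ext g
  constructor
  · rintro ⟨h, hh, rfl⟩; exact (mem_Sp4_tr4 h).2 hh
  · intro hg
    obtain ⟨h, rfl⟩ := (tr4 F).surjective g
    exact ⟨h, (mem_Sp4_tr4 h).1 hg, rfl⟩

/-- A subgroup of the symplectic group containing every transvection is everything. -/
theorem eq_Sp4_of_all [Finite F] (P : Subgroup G4) (hle : P ≤ Sp4 F) (h : ∀ v : Fin 4 → F, v ≠ 0 → tv v ∈ P) :
    P = Sp4 F := by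
  refine le_antisymm hle fun g hg => ?_
  obtain ⟨g', rfl⟩ := (tr4 F).surjective g
  have hg' := (mem_Sp4_tr4 g').1 hg
  let S : Subgroup (Matrix.symplecticGroup (Fin 2) F) :=
    { carrier := {A | ∃ g : GL S4 F, g.1 = A.1 ∧ tr4 F g ∈ P}
      one_mem' := ⟨1, rfl, by rw [map_one]; exact P.one_mem⟩
      mul_mem' := fun {A B} hA hB => by
        obtain ⟨x, hx, hxP⟩ := hA
        obtain ⟨y, hy, hyP⟩ := hB
        exact ⟨x * y, by rw [Units.val_mul, hx, hy]; rfl, by rw [map_mul]; exact P.mul_mem hxP hyP⟩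
      inv_mem' := fun {A} hA => by
        obtain ⟨x, hx, hxP⟩ := hA
        refine ⟨x⁻¹, ?_, by rw [map_inv]; exact P.inv_mem hxP⟩
        have h1 : A.1 * (A⁻¹).1 = 1 := congrArg Subtype.val (mul_inv_cancel A)
        calc (x⁻¹).1 = (x⁻¹).1 * (A.1 * (A⁻¹).1) := by rw [h1, mul_one]
          _ = (A⁻¹).1 := by rw [← hx, ← mul_assoc, ← Units.val_mul, inv_mul_cancel, Units.val_one, one_mul] }
  have htop : (⊤ : Subgroup (Matrix.symplecticGroup (Fin 2) F)) ≤ S := by
    rw [← Cfsg.Agent.S0765.result (F := F) 2, Subgroup.closure_le]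
    rintro A ⟨w, c, hA⟩
    obtain ⟨μ, hμ⟩ := (Finite.injective_iff_surjective.1 (frobenius_inj F 2)) c
    rw [frobenius_def] at hμ
    set v := μ • (w ∘ idx.symm)
    refine ⟨(tr4 F).symm (tv v), ?_, ?_⟩
    · rw [hA]
      refine Matrix.ext_of_mulVec_single fun i => ?_
      generalize (Pi.single i 1 : S4 → F) = u
      have e := tr4_mulVec ((tr4 F).symm (tv v)) (u ∘ idx.symm)
      rw [MulEquiv.apply_symm_apply, idx_symm_comp, tv_apply] at e
      have e' := congrArg (fun t : Fin 4 → F => t ∘ idx) e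
      simp only [idx_symm_comp] at e'
      rw [← e', Cfsg.sympTransvection, Matrix.add_mulVec, Matrix.one_mulVec, Matrix.smul_mulVec,
        Matrix.vecMulVec_mulVec]
      funext j
      have hf : (Matrix.J (Fin 2) F *ᵥ w) ⬝ᵥ u = altForm4 (u ∘ idx.symm) (w ∘ idx.symm) := by
        rw [← sympForm_eq, Cfsg.sympForm, dotProduct_comm]
      simp [v, f_smul_right, hf, ← hμ]
      ring
    · rw [MulEquiv.apply_symm_apply]
      by_cases hv : v = 0
      · rw [hv, tv_zero]; exact P.one_mem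
      · exact h v hv
  obtain ⟨x, hx, hxP⟩ := htop (Subgroup.mem_top (⟨g'.1, by
    have := hg'
    rw [SymplecticGroup.mem_iff']
    ext i j
    have h1 : Cfsg.sympForm 2 F (g'.1 *ᵥ Pi.single i 1) (g'.1 *ᵥ Pi.single j 1) =
        Cfsg.sympForm 2 F (Pi.single i 1) (Pi.single j 1) := hg' (Pi.single i 1) (Pi.single j 1)
    rw [Cfsg.sympForm, Cfsg.sympForm, ← Matrix.vecMul_transpose, ← Matrix.dotProduct_mulVec, Matrix.mulVec_mulVec,
      Matrix.mulVec_mulVec] at h1
    simpa using h1⟩ : Matrix.symplecticGroup (Fin 2) F))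
  rwa [Units.ext hx] at hxP

end CfsgLib.Sp4Even
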