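import Cfsg.Agent.Lib.Sp4Even.Conic
import Cfsg.Agent.Lib.Sp4Even.Inv
import Cfsg.Agent.Lib.Sp4Even.Realise
import Cfsg.Agent.Lib.Sp4Even.Transfer
import Cfsg.Agent.Lib.CIT.Basic

/-!
An absolutely irreducible simple subgroup that is not realised over a subfield and is proper has only involutions
of the third class, so that the centraliser of each involution is a 2-group.
-/

set_option autoImplicit false

namespace CfsgLib.Sp4Even

open Matrix Cfsg.Lie CfsgLib.Suzuki

variable {F : Type*} [Field F]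

local notation "V" => (Fin 4 → F)
local notation "M4" => Matrix (Fin 4) (Fin 4) F
local notation "G4" => Matrix.GeneralLinearGroup (Fin 4) F

/-- The conditions on the socle. -/
structure Core (P : Subgroup G4) : Prop where
  le : P ≤ Sp4 F
  simple : IsSimpleGroup P
  nonabelian : ¬ IsMulCommutative P
  absIrr : Cfsg.Geo.ActsAbsolutelyIrreducibly (Cfsg.Geo.matrixSet P)
  noSub : ∀ F₀ : Subfield F, F₀ ≠ ⊤ → ¬ Cfsg.Geo.RealisableOver F₀ (Cfsg.Geo.matrixSet P)
  proper : P ≠ Sp4 F

variable [Finite F] {P : Subgroup (Matrix.GeneralLinearGroup (Fin 4) F)}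

theorem Core.envelope (hP : Core P) : CfsgLib.Aschbacher.envelope P = ⊤ :=
  CfsgLib.Aschbacher.envelope_eq_top hP.absIrr

theorem Core.invariant (hP : Core P) (W : Submodule F V) (hW : ∀ g ∈ P, ∀ x ∈ W, g.1 *ᵥ x ∈ W) :
    W = ⊥ ∨ W = ⊤ :=
  CfsgLib.Aschbacher.irr_iff.1 hP.absIrr.1 W fun g hg x hx => hW g hg x hx

theorem Core.exists_trace (hP : Core P) {F₀ : Subfield F} (h : F₀ ≠ ⊤) : ∃ g ∈ P, g.1.trace ∉ F₀ := by
  by_contra hc
  push Not at hc
  exact hP.noSub F₀ h (realisable_of_traces hP.envelope hc)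

theorem Core.noFix (hP : Core P) {v : V} (hv : ∀ g ∈ P, g.1 *ᵥ v = v) : v = 0 := by
  let W : Submodule F V :=
    { carrier := {x | ∀ g ∈ P, g.1 *ᵥ x = x}
      add_mem' := fun {x y} hx hy g hg => by rw [Matrix.mulVec_add, hx g hg, hy g hg]
      zero_mem' := fun g _ => Matrix.mulVec_zero _
      smul_mem' := fun c {x} hx g hg => by rw [Matrix.mulVec_smul, hx g hg] }
  rcases hP.invariant W (fun g hg x hx => by rw [hx g hg]; exact hx) with h | h
  · exact (Submodule.mem_bot F).1 (h ▸ hv)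
  · haveI := hP.simple
    obtain ⟨g, hg⟩ := exists_ne (1 : P)
    refine absurd (Subtype.ext (Units.ext (Matrix.ext_of_mulVec_single fun i => ?_))) hg
    have := (Submodule.eq_top_iff'.1 h (Pi.single i 1)) g g.2
    exact this.trans (Matrix.one_mulVec _).symm

variable [CharP F 2]

theorem Core.base (hP : Core P) : Base P where
  le := hP.le
  simple := hP.simple
  nonabelian := hP.nonabelian
  noFix _ hv := hP.noFix hv
  proper := hP.proper
  coeffs F₀ h := by
    obtain ⟨g, hg, ht⟩ := hP.exists_trace h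
    refine ⟨g, hg, 3, fun hc => ht ?_⟩
    rw [Matrix.trace_eq_neg_charpoly_coeff]
    simpa using F₀.neg_mem hc


/-- The image of `P` under the exceptional endomorphism. -/
def dual (P : Subgroup G4) : Subgroup G4 := (P.subgroupOf (Sp4 F)).map starHom

/-- `P` and its image are isomorphic. -/
noncomputable def dualEquiv (hP : Core P) : P ≃* dual P :=
  (Subgroup.subgroupOfEquivOfLe hP.le).symm.trans (Subgroup.equivMapOfInjective _ starHom starHom_injective)

theorem mem_dual_of (hP : Core P) {g : G4} (hg : g ∈ P) : starHom ⟨g, hP.le hg⟩ ∈ dual P :=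
  ⟨⟨g, hP.le hg⟩, Subgroup.mem_subgroupOf.2 hg, rfl⟩

theorem star4_starHom (k : Sp4 F) : starHom ⟨starHom k, starHom_mem k⟩ = Units.map
    (RingHom.mapMatrix (frobenius F 2)).toMonoidHom k.1 :=
  Units.ext (by rw [starHom_val, starHom_val, star4_star4 k.2]; rfl)

theorem dual_noFix (hP : Core P) {v : V} (hv : ∀ g ∈ dual P, g.1 *ᵥ v = v) : v = 0 := by
  by_contra hv0
  obtain ⟨h, hh, e⟩ := exists_map_vec hv0 (v := (Pi.single 0 1 : V))
    (fun e => one_ne_zero (α := F) (by simpa using congrFun e 0))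
  set k : Sp4 F := ⟨h, hh⟩
  -- the standard line is invariant under the conjugates of the squared group
  let W : Submodule F V :=
    { carrier := {x | ((starHom k).1 *ᵥ fun i => x i ^ 2) 2 = 0 ∧ ((starHom k).1 *ᵥ fun i => x i ^ 2) 3 = 0}
      add_mem' := fun {x y} hx hy => by
        have e : (fun i => (x + y) i ^ 2) = (fun i => x i ^ 2) + fun i => y i ^ 2 :=
          funext fun i => CharTwo.add_sq (x i) (y i)
        show ((starHom k).1 *ᵥ fun i => (x + y) i ^ 2) 2 = 0 ∧ _
        rw [e, Matrix.mulVec_add]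
        exact ⟨by simp [hx.1, hy.1], by simp [hx.2, hy.2]⟩
      zero_mem' := by
        have e : (fun i => (0 : V) i ^ 2) = (0 : V) := funext fun i => by simp
        show ((starHom k).1 *ᵥ fun i => (0 : V) i ^ 2) 2 = 0 ∧ _
        rw [e]; simp
      smul_mem' := fun c {x} hx => by
        have e : (fun i => (c • x) i ^ 2) = c ^ 2 • fun i => x i ^ 2 := funext fun i => by simp [mul_pow]
        show ((starHom k).1 *ᵥ fun i => (c • x) i ^ 2) 2 = 0 ∧ _
        rw [e, Matrix.mulVec_smul]
        exact ⟨by simp [hx.1], by simp [hx.2]⟩ }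
  have hW : ∀ g ∈ P, ∀ x ∈ W, g.1 *ᵥ x ∈ W := by
    intro g hg x hx
    set y : Sp4 F := ⟨starHom ⟨g, hP.le hg⟩, starHom_mem _⟩
    have hy : y.1.1 *ᵥ v = v := hv _ (mem_dual_of hP hg)
    set z : Sp4 F := k * y * k⁻¹
    have hz : z.1.1 *ᵥ (Pi.single 0 1 : V) = Pi.single 0 1 := by
      rw [← e, show z.1.1 = h.1 * y.1.1 * (h⁻¹).1 from rfl, ← Matrix.mulVec_mulVec, ← Matrix.mulVec_mulVec,
        Matrix.mulVec_mulVec v (h⁻¹).1, ← Units.val_mul, inv_mul_cancel, Units.val_one, Matrix.one_mulVec, hy]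
    have hcol : ∀ j : Fin 4, j ≠ 0 → z.1.1 j 0 = 0 := fun j hj => by
      have := congrFun hz j
      rwa [Matrix.mulVec_single_one, Matrix.col_apply, Pi.single_eq_of_ne hj] at this
    have hsq : (fun i => (g.1 *ᵥ x) i ^ 2) = (g.1.map fun a => a ^ 2) *ᵥ fun i => x i ^ 2 := funext fun i => by
      have := RingHom.map_mulVec (frobenius F 2) g.1 x i
      exact this
    show ((starHom k).1 *ᵥ fun i => (g.1 *ᵥ x) i ^ 2) 2 = 0 ∧ ((starHom k).1 *ᵥ fun i => (g.1 *ᵥ x) i ^ 2) 3 = 0
    have key : (starHom k).1 * (g.1.map fun a => a ^ 2) = star4 z.1.1 * (starHom k).1 := by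
      rw [← starHom_val, ← star4_star4 (hP.le hg), show star4 (star4 g.1) = (starHom y).1 from rfl,
        ← Units.val_mul, ← Units.val_mul, ← map_mul, ← map_mul, show z * k = k * y from inv_mul_cancel_right _ _]
    rw [hsq, Matrix.mulVec_mulVec, key, ← Matrix.mulVec_mulVec]
    exact star4_stab hcol hx
  have hsurj : ∀ w : V, ∃ x : V, (fun i => x i ^ 2) = w := fun w => by
    choose x hx using fun i => (Finite.injective_iff_surjective.1 (frobenius_inj F 2)) (w i)
    exact ⟨x, funext fun i => by simpa [frobenius_def] using hx i⟩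
  have hback : ∀ w : V, (starHom k).1 *ᵥ (((starHom k)⁻¹).1 *ᵥ w) = w := fun w => by
    rw [Matrix.mulVec_mulVec, ← Units.val_mul, mul_inv_cancel, Units.val_one, Matrix.one_mulVec]
  rcases hP.invariant W hW with hb | hb
  · obtain ⟨x, hx⟩ := hsurj (((starHom k)⁻¹).1 *ᵥ (Pi.single 0 1 : V))
    have hmem : x ∈ W := by
      show ((starHom k).1 *ᵥ fun i => x i ^ 2) 2 = 0 ∧ ((starHom k).1 *ᵥ fun i => x i ^ 2) 3 = 0
      rw [hx, hback]; simp
    rw [hb, Submodule.mem_bot] at hmem
    subst hmem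
    have := congrArg ((starHom k).1 *ᵥ ·) hx
    simp only [hback] at this
    have h0 : (fun i => (0 : V) i ^ 2) = (0 : V) := funext fun i => by simp
    rw [h0, Matrix.mulVec_zero] at this
    simpa using congrFun this 0
  · obtain ⟨x, hx⟩ := hsurj (((starHom k)⁻¹).1 *ᵥ (Pi.single 2 1 : V))
    have hmem : x ∈ W := hb ▸ Submodule.mem_top
    have h2 := hmem.1
    rw [hx, hback] at h2
    simp at h2

theorem dual_base (hP : Core P) : Base (dual P) where
  le := by rintro _ ⟨g, -, rfl⟩; exact starHom_mem g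
  simple := by
    haveI := hP.simple
    haveI : Nontrivial (dual P) := (dualEquiv hP).symm.toEquiv.nontrivial
    exact IsSimpleGroup.isSimpleGroup_of_surjective (dualEquiv hP).toMonoidHom (dualEquiv hP).surjective
  nonabelian hc := hP.nonabelian ⟨⟨fun a b => (dualEquiv hP).injective (by
    rw [map_mul, map_mul]; exact hc.is_comm.comm _ _)⟩⟩
  noFix _ hv := dual_noFix hP hv
  coeffs F₀ h := by
    obtain ⟨g, hg, ht⟩ := hP.exists_trace h
    refine ⟨_, mem_dual_of hP hg, 2, fun hc => ht ?_⟩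
    rw [← star4_trace (starHom_mem _), starHom_val, star4_star4 (hP.le hg)] at hc
    have e : (g.1.map fun a => a ^ 2).trace = g.1.trace ^ 2 := by
      rw [Matrix.trace, Matrix.trace, ← frobenius_def, map_sum]
      rfl
    rw [e] at hc
    have hinj : Function.Injective fun s : F₀ => (⟨(s : F) ^ 2, F₀.pow_mem s.2 2⟩ : F₀) :=
      fun a b he => Subtype.ext (frobenius_inj F 2 (show (a : F) ^ 2 = (b : F) ^ 2 from congrArg Subtype.val he))
    obtain ⟨s, hs⟩ := Finite.injective_iff_surjective.1 hinj ⟨g.1.trace ^ 2, hc⟩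
    have : g.1.trace = (s : F) := frobenius_inj F 2 (by simpa [frobenius_def] using (congrArg Subtype.val hs).symm)
    rw [this]; exact s.2
  proper hc := by
    refine hP.proper (Subgroup.eq_of_le_of_card_ge hP.le ?_)
    rw [← hc]
    exact le_of_eq (Nat.card_congr (dualEquiv hP).toEquiv).symm

theorem false_of_Dv {Q : Subgroup G4} (hQ : Base Q) (h4 : 4 ≤ Nat.card F) {v : V} (hv : v ≠ 0) (hm : tv v ∈ Q) :
    False := by
  haveI := Fintype.ofFinite F
  rw [Nat.card_eq_fintype_card] at h4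
  exact hQ.proper (eq_Sp4_of_all Q hQ.le fun w hw => (all_tv hQ h4 (a := v) ⟨hv, hm⟩ hw).2)

/-- All involutions of the socle are of the third class. -/
theorem Core.isC2 (hP : Core P) (h4 : 4 ≤ Nat.card F) {g : G4} (hg : g ∈ P) (hsq : g * g = 1) (h1 : g ≠ 1) :
    IsC2 g := by
  rcases invol_cases (hP.le hg) hsq h1 with ⟨v, hv, rfl⟩ | ⟨v, hv, e⟩ | h
  · exact (false_of_Dv hP.base h4 hv hg).elim
  · exact (false_of_Dv (dual_base hP) h4 hv (e ▸ mem_dual_of hP hg)).elim
  · exact h

/-- The centraliser of each involution of the socle is a 2-group. -/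
theorem Core.isCIT (hP : Core P) (h4 : 4 ≤ Nat.card F) : CfsgLib.CIT.IsCIT P := fun t ht x => by
  obtain ⟨hsq, h1⟩ : t * t = 1 ∧ t ≠ 1 := ⟨by rw [← pow_two, ← ht, pow_orderOf_eq_one],
    fun e => by rw [e, orderOf_one] at ht; exact absurd ht (by norm_num)⟩
  have hc := hP.isC2 h4 t.2 (by simpa using congrArg Subtype.val hsq) (fun e => h1 (Subtype.ext e))
  refine ⟨2, Subtype.ext (Subtype.ext ?_)⟩
  have hx := Subgroup.mem_centralizer_singleton_iff.1 x.2
  simpa using pow_four_of_commute hc (hP.le x.1.2) (congrArg Subtype.val hx)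

end CfsgLib.Sp4Even
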