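import Cfsg.Agent.Lib.Sp4Even.Star
import Mathlib.FieldTheory.IsAlgClosed.AlgebraicClosure
import Mathlib.LinearAlgebra.Matrix.Charpoly.Coeff

/-!
Elements of odd order of the symplectic group: eigenvalue orbits, traces, and fixed spaces.
-/

set_option autoImplicit false
set_option maxHeartbeats 1000000

namespace CfsgLib.Sp4Even

open Matrix Cfsg.Lie CfsgLib.Suzuki Polynomial

variable {F : Type*} [Field F] [CharP F 2]

local notation "V" => (Fin 4 → F)
local notation "M4" => Matrix (Fin 4) (Fin 4) F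
local notation "J4" => (CfsgLib.Suzuki.J : Matrix (Fin 4) (Fin 4) F)
local notation "G4" => Matrix.GeneralLinearGroup (Fin 4) F

omit [CharP F 2] in
theorem charpoly_conj_eq (g h : G4) : (h * g * h⁻¹).1.charpoly = g.1.charpoly := by
  rw [Units.val_mul, Units.val_mul, Matrix.coe_units_inv, Matrix.charpoly_units_conj]

theorem charpoly_inv_eq {g : G4} (hg : g ∈ Sp4 F) : (g⁻¹).1.charpoly = g.1.charpoly := by
  let j : G4 := ⟨J4, J4, J_sq, J_sq⟩
  rw [inv_eq hg]
  rw [show J4 * g.1ᵀ * J4 = j.1 * g.1ᵀ * (j⁻¹).1 from rfl, Matrix.coe_units_inv, Matrix.charpoly_units_conj j g.1ᵀ, Matrix.charpoly_transpose]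

theorem trace_eq_of_charpoly {A B : M4} (h : A.charpoly = B.charpoly) : A.trace = B.trace := by
  rw [Matrix.trace_eq_neg_charpoly_coeff, Matrix.trace_eq_neg_charpoly_coeff, h]

/-- An element of odd prime order has at most four conjugate powers. -/
theorem false_of_orbit {g : G4} {p : ℕ} (hp : p.Prime) (hodd : p ≠ 2) (hg : g ^ p = 1) (hne : g ≠ 1)
    (f : Fin 5 → ℕ) (hmono : StrictMono f) (hd : ∀ i j, i < j → ¬ p ∣ f j - f i)
    (hf : ∀ i, (g ^ f i).1.charpoly = g.1.charpoly) : False := by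
  classical
  let K := AlgebraicClosure F
  let φ := algebraMap F K
  set A : Matrix (Fin 4) (Fin 4) K := g.1.map φ with hA
  have hAn : ∀ n : ℕ, (g ^ n).1.map φ = A ^ n := fun n => by
    rw [hA, Units.val_pow_eq_pow_val, ← RingHom.mapMatrix_apply, ← RingHom.mapMatrix_apply, map_pow]
  have hAp : A ^ p = 1 := by rw [← hAn, hg, Units.val_one, Matrix.map_one _ (map_zero φ) (map_one φ)]
  have hroot : ∀ (B : Matrix (Fin 4) (Fin 4) K) (t : K),
      B.charpoly.IsRoot t ↔ ∃ v, v ≠ 0 ∧ B *ᵥ v = t • v := by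
    intro B t
    rw [IsRoot.def, Matrix.eval_charpoly, ← Matrix.exists_mulVec_eq_zero_iff]
    refine exists_congr fun v => and_congr_right fun _ => ?_
    rw [Matrix.sub_mulVec, sub_eq_zero, eq_comm]
    simp [Matrix.scalar_apply, ← Matrix.smul_one_eq_diagonal, Matrix.smul_mulVec]
  have hpow : ∀ (v : Fin 4 → K) (t : K), A *ᵥ v = t • v → ∀ n : ℕ, (A ^ n) *ᵥ v = t ^ n • v := by
    intro v t h n
    induction n with
    | zero => simp
    | succ n ih => rw [pow_succ', ← Matrix.mulVec_mulVec, ih, Matrix.mulVec_smul, h, smul_smul, ← pow_succ]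
  by_cases hone : ∀ t, A.charpoly.IsRoot t → t = 1
  · have hspl : A.charpoly.Splits := IsAlgClosed.splits _
    have hroots : A.charpoly.roots = Multiset.replicate 4 (1 : K) := by
      rw [Multiset.eq_replicate]
      exact ⟨by rw [← hspl.natDegree_eq_card_roots, Matrix.charpoly_natDegree_eq_dim, Fintype.card_fin],
        fun t ht => hone t (Polynomial.mem_roots'.1 ht).2⟩
    have hcp : A.charpoly = (X - C 1) ^ 4 := by
      conv_lhs => rw [hspl.eq_prod_roots_of_monic (Matrix.charpoly_monic A), hroots]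
      rw [Multiset.map_replicate, Multiset.prod_replicate]
    have hz := Matrix.aeval_self_charpoly A
    rw [hcp, map_pow, map_sub, aeval_X, aeval_C, map_one] at hz
    have hF : (g.1 - 1) ^ 4 = 0 := by
      refine Matrix.map_injective φ.injective ?_
      show ((g.1 - 1) ^ 4).map φ = (0 : M4).map φ
      rw [← RingHom.mapMatrix_apply, map_pow, map_sub, map_one, ← RingHom.mapMatrix_apply, map_zero]
      exact hz
    -- a unipotent element of odd prime order is trivial
    refine hne ?_
    have h4 : g ^ 2 ^ 2 = 1 := by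
      refine Units.ext ?_
      have hF' : (g.1 - 1) ^ 2 ^ 2 = 0 := hF
      rw [sub_pow_char_pow_of_commute (p := 2) (n := 2) (h := Commute.one_right g.1), one_pow, sub_eq_zero] at hF'
      rw [Units.val_pow_eq_pow_val, Units.val_one, hF']
    rw [← orderOf_eq_one_iff]
    exact Nat.eq_one_of_dvd_coprimes ((Nat.coprime_primes hp Nat.prime_two).2 hodd |>.pow_right 2)
      (orderOf_dvd_of_pow_eq_one hg) (orderOf_dvd_of_pow_eq_one h4)
  · push Not at hone
    obtain ⟨t, ht, ht1⟩ := hone
    obtain ⟨v, hv0, hv⟩ := (hroot A t).1 ht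
    have htp : t ^ p = 1 := by
      have := hpow v t hv p
      rw [hAp, Matrix.one_mulVec] at this
      exact smul_left_injective K hv0 (by simpa using this.symm)
    have hto : orderOf t = p := haveI : Fact p.Prime := ⟨hp⟩; orderOf_eq_prime htp ht1
    have hmem : ∀ i, t ^ f i ∈ A.charpoly.roots.toFinset := fun i => by
      rw [Multiset.mem_toFinset, Polynomial.mem_roots (Matrix.charpoly_monic A).ne_zero, hA, Matrix.charpoly_map,
        ← hf i, ← Matrix.charpoly_map, hAn]
      exact (hroot _ _).2 ⟨v, hv0, hpow v t hv _⟩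
    have hinj : Function.Injective fun i => t ^ f i := by
      intro i j h
      by_contra hij
      wlog hlt : i < j generalizing i j
      · exact this h.symm (Ne.symm hij) (lt_of_le_of_ne (not_lt.1 hlt) (Ne.symm hij))
      refine hd i j hlt (hto ▸ (orderOf_dvd_of_pow_eq_one (mul_left_cancel₀ (pow_ne_zero (f i)
        (fun e : t = 0 => by rw [e, zero_pow hp.ne_zero] at htp; exact zero_ne_one htp)) ?_)))
      rw [mul_one, ← pow_add, Nat.add_sub_cancel' (hmono hlt).le]
      exact h.symm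
    have h5 := Finset.card_le_card_of_injOn (s := (Finset.univ : Finset (Fin 5))) (fun i => t ^ f i)
      (fun i _ => hmem i) hinj.injOn
    have h4 := le_trans (Multiset.toFinset_card_le _) (Polynomial.card_roots' A.charpoly)
    rw [Matrix.charpoly_natDegree_eq_dim, Fintype.card_fin] at h4
    rw [Finset.card_univ, Fintype.card_fin] at h5
    omega

theorem trace_sq (A : M4) : (A * A).trace = A.trace * A.trace := by
  simp [Matrix.trace, Matrix.mul_apply, Fin.sum_univ_four]
  linear_combination (norm := ring_nf) (-(A 0 0 * A 1 1) - A 0 0 * A 2 2 - A 0 0 * A 3 3 - A 1 1 * A 2 2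
    - A 1 1 * A 3 3 - A 2 2 * A 3 3 + A 0 1 * A 1 0 + A 0 2 * A 2 0 + A 0 3 * A 3 0 + A 1 2 * A 2 1
    + A 1 3 * A 3 1 + A 2 3 * A 3 2) * (CharTwo.two_eq_zero : (2 : F) = 0)

theorem trace_of_pow_three {g : G4} (hg : g ∈ Sp4 F) (h : g ^ 3 = 1) : g.1.trace = 0 ∨ g.1.trace = 1 := by
  have e : g⁻¹ = g * g := by
    exact inv_eq_of_mul_eq_one_right (by rw [← h, pow_three])
  have h' := trace_eq_of_charpoly (charpoly_inv_eq hg)
  rw [e, Units.val_mul, trace_sq] at h'
  rcases mul_eq_zero.1 (show g.1.trace * (g.1.trace - 1) = 0 by linear_combination h') with h0 | h0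
  · exact Or.inl h0
  · exact Or.inr (sub_eq_zero.1 h0)

theorem trace_of_pow_four {g : G4} (h : g ^ 4 = 1) : g.1.trace = 0 := by
  have hN : IsNilpotent (g.1 - 1) := by
    refine ⟨2 ^ 2, ?_⟩
    rw [sub_pow_char_pow_of_commute (p := 2) (n := 2) (h := Commute.one_right g.1), one_pow]
    show g.1 ^ 4 - 1 = 0
    rw [← Units.val_pow_eq_pow_val, h, Units.val_one, sub_self]
  have h0 := (Matrix.isNilpotent_trace_of_isNilpotent hN).eq_zero
  rw [Matrix.trace_sub, Matrix.trace_one, Fintype.card_fin, sub_eq_zero] at h0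
  rw [h0]
  linear_combination (2 : F) * (CharTwo.two_eq_zero : (2 : F) = 0)

/-- An element of order five without fixed vectors has its trace in the prime field. -/
theorem trace_of_pow_five {g : G4} (hg : g ∈ Sp4 F) (h : g ^ 5 = 1) (hfix : ∀ v : V, g.1 *ᵥ v = v → v = 0) :
    g.1.trace = 0 ∨ g.1.trace = 1 := by
  have h2 : (2 : F) = 0 := CharTwo.two_eq_zero
  have hM2 : (2 : M4) = 0 := CharTwo.two_eq_zero
  set A := g.1 with hA
  set a := A.trace with ha
  set b := e2 A with hb
  have hadj : A.adjugate.trace = a := by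
    have e : A.adjugate = (g⁻¹).1 := by
      calc A.adjugate = A.adjugate * (A * (g⁻¹).1) := by
            rw [hA, ← Units.val_mul, mul_inv_cancel, Units.val_one, Matrix.mul_one]
        _ = (g⁻¹).1 := by rw [← Matrix.mul_assoc, Matrix.adjugate_mul, det_eq_one hg, one_smul, Matrix.one_mul]
    rw [e, ha, hA, trace_eq_of_charpoly (charpoly_inv_eq hg)]
  have hcp := charpoly_four A
  rw [hadj, det_eq_one hg] at hcp
  have hCH := Matrix.aeval_self_charpoly A
  rw [hcp] at hCH
  simp only [map_add, map_sub, map_mul, map_pow, aeval_X, aeval_C, ← ha, ← hb, map_one] at hCH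
  simp only [Algebra.algebraMap_eq_smul_one, Matrix.smul_mul, Matrix.one_mul] at hCH
  have hcan : ∀ M : M4, (A - 1) * M = 0 → M = 0 := fun M hM => by
    refine Matrix.ext_of_mulVec_single fun i => ?_
    rw [Matrix.zero_mulVec]
    refine hfix _ (sub_eq_zero.1 ?_)
    calc A *ᵥ (M *ᵥ Pi.single i 1) - M *ᵥ Pi.single i 1 = ((A - 1) * M) *ᵥ Pi.single i 1 := by
          rw [← Matrix.mulVec_mulVec, Matrix.sub_mulVec, Matrix.one_mulVec]
      _ = 0 := by rw [hM, Matrix.zero_mulVec]
  have h5 : A ^ 5 = 1 := by rw [hA, ← Units.val_pow_eq_pow_val, h, Units.val_one]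
  have hphi : A ^ 4 + A ^ 3 + A ^ 2 + A + 1 = 0 := hcan _ (by
    calc (A - 1) * (A ^ 4 + A ^ 3 + A ^ 2 + A + 1) = A ^ 5 - 1 := by noncomm_ring
      _ = 0 := by rw [h5, sub_self])
  have hq : (a + 1) • A ^ 2 + (b + 1) • A + (a + 1) • (1 : M4) = 0 := by
    have hcub : A * ((a + 1) • A ^ 2 + (b + 1) • A + (a + 1) • (1 : M4)) = 0 := by
      calc A * ((a + 1) • A ^ 2 + (b + 1) • A + (a + 1) • (1 : M4)) =
            (A ^ 4 - a • A ^ 3 + b • A ^ 2 - a • A + 1) + (A ^ 4 + A ^ 3 + A ^ 2 + A + 1) := by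
              simp only [mul_add, Matrix.mul_smul, Matrix.mul_one, ← pow_succ', ← pow_two, add_smul, one_smul,
                CharTwo.sub_eq_add]
              linear_combination (norm := abel) (-1 : ℤ) • (CharTwo.add_self_eq_zero (A ^ 4))
                - (1 : ℤ) • (CharTwo.add_self_eq_zero (1 : M4))
        _ = 0 := by rw [hCH, hphi, add_zero]
    calc _ = (g⁻¹).1 * (A * ((a + 1) • A ^ 2 + (b + 1) • A + (a + 1) • (1 : M4))) := by
          rw [← mul_assoc, hA, ← Units.val_mul, inv_mul_cancel, Units.val_one, one_mul]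
      _ = 0 := by rw [hcub, mul_zero]
  by_cases ha1 : a + 1 = 0
  · exact Or.inr (CharTwo.add_eq_zero.1 ha1)
  set c := (b + 1) / (a + 1) with hc
  have hsq : A ^ 2 = c • A + 1 := by
    have e := congrArg ((a + 1)⁻¹ • ·) hq
    simp only [smul_add, smul_smul, inv_mul_cancel₀ ha1, one_smul, smul_zero, ← div_eq_inv_mul, ← hc] at e
    calc A ^ 2 = A ^ 2 + (c • A + 1) + (c • A + 1) := by
          rw [add_assoc, CharTwo.add_self_eq_zero, add_zero]
      _ = c • A + 1 := by rw [← add_assoc (A ^ 2), e, zero_add]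
  have hac : a * (a + c) = 0 := by
    have e := congrArg Matrix.trace hsq
    rw [pow_two, trace_sq, Matrix.trace_add, Matrix.trace_smul, Matrix.trace_one, ← ha, Fintype.card_fin,
      smul_eq_mul] at e
    push_cast at e
    linear_combination e + (a * c + 2) * h2
  rcases mul_eq_zero.1 hac with h0 | h0
  · exact Or.inl h0
  exfalso
  have hac' : a = c := CharTwo.add_eq_zero.1 h0
  have hcc : c * c + c + 1 = 0 := by
    have hA3 : A ^ 3 = c • A ^ 2 + A := by rw [pow_succ, hsq, add_mul, Matrix.smul_mul, one_mul, ← pow_two, hsq]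
    have hA4 : A ^ 4 = c • A ^ 3 + A ^ 2 :=
      calc A ^ 4 = (c • A ^ 2 + A) * A := by rw [← hA3, ← pow_succ]
        _ = _ := by rw [add_mul, Matrix.smul_mul, ← pow_succ, ← pow_two]
    have e : (c * c + c + 1) • (c • A + 1) = A ^ 4 + A ^ 3 + A ^ 2 + A + 1 := by
      rw [hA4, hA3, hsq]
      ext i j
      simp [Matrix.one_apply]
      split_ifs <;> linear_combination (norm := (ring_nf <;> simp [h2])) (0 : F) * h2
    rw [hphi, ← hsq] at e
    rcases smul_eq_zero.1 e with e' | e'
    · exact e'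
    · have := congrArg Matrix.det e'
      rw [Matrix.det_pow, hA, det_eq_one hg, one_pow, Matrix.det_zero] at this
      exact absurd this one_ne_zero
  have hb0 : b = 0 := by
    have hbc : b + 1 = c * (a + 1) := by rw [hc, div_mul_cancel₀ _ ha1]
    rw [hac'] at hbc
    linear_combination hbc - hcc + (c * c + c) * h2
  have hev : A.charpoly.eval 1 = 0 := by
    rw [hcp, ← hb, ← ha, hb0]
    simp
    linear_combination (1 - a) * h2
  rw [Matrix.eval_charpoly, ← Matrix.exists_mulVec_eq_zero_iff] at hev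
  obtain ⟨v, hv0, hv⟩ := hev
  rw [map_one, Matrix.sub_mulVec, Matrix.one_mulVec, sub_eq_zero] at hv
  exact hv0 (hfix v hv.symm)

/-- Two elements of order three without fixed vectors whose product fixes a vector. -/
theorem eq_zero_of_pair {u₁ u₂ : G4} (h₁ : u₁ ^ 3 = 1) (h₂ : u₂ ^ 3 = 1) (h5 : (u₁ * u₂⁻¹) ^ 5 = 1)
    (f₁ : ∀ x : V, u₁.1 *ᵥ x = x → x = 0) (f₂ : ∀ x : V, u₂.1 *ᵥ x = x → x = 0) {v : V}
    (hv : (u₁ * u₂).1 *ᵥ v = v) : v = 0 := by
  have quad : ∀ u : G4, u ^ 3 = 1 → (∀ x : V, u.1 *ᵥ x = x → x = 0) → ∀ x : V,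
      u.1 *ᵥ (u.1 *ᵥ x) = u.1 *ᵥ x + x := by
    intro u hu hf x
    have h3 : u.1 *ᵥ (u.1 *ᵥ (u.1 *ᵥ x)) = x := by
      rw [Matrix.mulVec_mulVec, Matrix.mulVec_mulVec, ← Units.val_mul, ← Units.val_mul, mul_assoc,
        ← pow_three, hu, Units.val_one, Matrix.one_mulVec]
    have := hf (u.1 *ᵥ (u.1 *ᵥ x) + (u.1 *ᵥ x + x)) (by rw [Matrix.mulVec_add, Matrix.mulVec_add, h3]; abel)
    exact CharTwo.add_eq_zero.1 this
  have q₁ := quad u₁ h₁ f₁
  have q₂ := quad u₂ h₂ f₂
  rw [Units.val_mul, ← Matrix.mulVec_mulVec] at hv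
  set w := u₂.1 *ᵥ v with hw
  -- on the span of `v` and `w` the first element inverts the second
  have a1 : u₁.1 *ᵥ v = w + v := by
    have e := q₁ w
    rw [hv] at e
    rw [e, add_comm]
  have hinv : (u₂⁻¹).1 = u₂.1 * u₂.1 := by
    rw [← Units.val_mul]; congr 1
    exact inv_eq_of_mul_eq_one_right (by rw [← h₂, pow_three])
  have ha : ∀ x : V, (u₁ * u₂⁻¹).1 *ᵥ x = u₁.1 *ᵥ (u₂.1 *ᵥ (u₂.1 *ᵥ x)) := fun x => by
    rw [Units.val_mul, hinv, ← Matrix.mulVec_mulVec, ← Matrix.mulVec_mulVec]
  have av : (u₁ * u₂⁻¹).1 *ᵥ v = w := by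
    rw [ha, q₂ v, ← hw, Matrix.mulVec_add, hv, a1, add_left_comm, CharTwo.add_self_eq_zero, add_zero]
  have aw : (u₁ * u₂⁻¹).1 *ᵥ w = w + v := by
    have e : u₂.1 *ᵥ (u₂.1 *ᵥ w) = v := by
      rw [hw, q₂ v, Matrix.mulVec_add, q₂ v, add_comm (u₂.1 *ᵥ v) v, add_assoc, CharTwo.add_self_eq_zero, add_zero]
    rw [ha, e, a1]
  have h3 : ((u₁ * u₂⁻¹) ^ 3).1 *ᵥ v = v := by
    generalize u₁ * u₂⁻¹ = t at av aw ⊢
    rw [pow_three, Units.val_mul t (t * t), Units.val_mul t t, ← Matrix.mulVec_mulVec, ← Matrix.mulVec_mulVec, av, aw,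
      Matrix.mulVec_add, av, aw, add_right_comm, CharTwo.add_self_eq_zero, zero_add]
  have h1 : (u₁ * u₂⁻¹).1 *ᵥ v = v := by
    have e : u₁ * u₂⁻¹ = (u₁ * u₂⁻¹) ^ 3 * (u₁ * u₂⁻¹) ^ 3 := by
      rw [← pow_add, pow_succ, h5, one_mul]
    conv_lhs => rw [e, Units.val_mul, ← Matrix.mulVec_mulVec, h3, h3]
  exact f₂ v (av.symm.trans h1)

/-- The projection onto the fixed space of an element of order three. -/
def proj (u : G4) : M4 := 1 + u.1 + u.1 * u.1

omit [CharP F 2] in
theorem f_mulVec_inv {g : G4} (hg : g ∈ Sp4 F) (x y : V) :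
    altForm4 (g.1 *ᵥ x) y = altForm4 x ((g⁻¹).1 *ᵥ y) := by
  conv_lhs => rw [← Matrix.one_mulVec y, ← Units.val_one, ← mul_inv_cancel g, Units.val_mul, ← Matrix.mulVec_mulVec,
    f_map hg]

theorem proj_adjoint {u : G4} (hu : u ∈ Sp4 F) (h : u ^ 3 = 1) (x y : V) :
    altForm4 (proj u *ᵥ x) y = altForm4 x (proj u *ᵥ y) := by
  have hinv : u⁻¹ = u * u := by exact inv_eq_of_mul_eq_one_right (by rw [← h, pow_three])
  have hinv2 : (u * u)⁻¹ = u := by rw [← hinv, inv_inv]
  simp only [proj, ← Units.val_mul, Matrix.add_mulVec, Matrix.one_mulVec, f_add_left, f_add_right,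
    f_mulVec_inv hu, f_mulVec_inv ((Sp4 F).mul_mem hu hu), hinv2, hinv]
  ring

theorem fix_eq_zero {u : G4} (h : proj u = 0) {x : V} (hx : u.1 *ᵥ x = x) : x = 0 := by
  have e := congrArg (· *ᵥ x) h
  simp only [proj, Matrix.add_mulVec, Matrix.one_mulVec, ← Matrix.mulVec_mulVec, hx, CharTwo.add_self_eq_zero,
    zero_add, Matrix.zero_mulVec] at e
  exact e

theorem eq_one_of_proj {u : G4} (h : proj u = 1) : u = 1 := by
  have e : u.1 * (1 + u.1) = 0 := by
    rw [mul_add, mul_one]
    rw [proj, add_assoc, add_eq_left] at h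
    exact h
  have e' : 1 + u.1 = 0 := by
    calc 1 + u.1 = (u⁻¹).1 * (u.1 * (1 + u.1)) := by
          rw [← mul_assoc, ← Units.val_mul, inv_mul_cancel, Units.val_one, one_mul]
      _ = 0 := by rw [e, mul_zero]
  exact Units.ext (CharTwo.add_eq_zero.1 e').symm

/-- There is no room for three orthogonal non-zero self-adjoint idempotents. -/
theorem false_of_three (p : Fin 3 → M4) (hadj : ∀ i x y, altForm4 (p i *ᵥ x) y = altForm4 x (p i *ᵥ y))
    (hid : ∀ i, p i * p i = p i) (horth : ∀ i j, i ≠ j → p i * p j = 0) (hne : ∀ i, p i ≠ 0) : False := by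
  have hpair : ∀ i, ∃ x y : V, p i *ᵥ x = x ∧ p i *ᵥ y = y ∧ altForm4 x y ≠ 0 := by
    intro i
    obtain ⟨x, hx⟩ : ∃ x, p i *ᵥ x ≠ 0 := by
      by_contra hc
      push Not at hc
      exact hne i (Matrix.ext_of_mulVec_single fun j => by rw [hc, Matrix.zero_mulVec])
    obtain ⟨y, hy⟩ := exists_f_ne hx
    refine ⟨p i *ᵥ x, p i *ᵥ y, by rw [Matrix.mulVec_mulVec, hid], by rw [Matrix.mulVec_mulVec, hid], ?_⟩
    rw [← hadj, Matrix.mulVec_mulVec, hid, f_comm]
    exact hy
  choose x y hx hy hxy using hpair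
  have hzero : ∀ i j (a b : V), i ≠ j → p i *ᵥ a = a → p j *ᵥ b = b → altForm4 a b = 0 := by
    intro i j a b hij ha hb
    rw [← ha, hadj, ← hb, Matrix.mulVec_mulVec, horth i j hij, Matrix.zero_mulVec, f_zero_right]
  have hli : LinearIndependent F (Sum.elim x y : Fin 3 ⊕ Fin 3 → V) := by
    rw [Fintype.linearIndependent_iff]
    intro c hc
    simp only [Fintype.sum_sum_type, Sum.elim_inl, Sum.elim_inr] at hc
    let L : V → (V →ₗ[F] F) := fun z =>
      { toFun := fun w => altForm4 w z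
        map_add' := fun w w' => f_add_left w w' z
        map_smul' := fun r w => f_smul_left r w z }
    have hL : ∀ z w, L z w = altForm4 w z := fun _ _ => rfl
    rintro (j | j)
    · have e := congrArg (L (y j)) hc
      simp only [map_add, map_sum, map_smul, map_zero, smul_eq_mul] at e
      simp only [hL] at e
      rw [Finset.sum_eq_single j (fun i _ h => by rw [hzero i j _ _ h (hx i) (hy j), mul_zero])
        (fun h => absurd (Finset.mem_univ j) h), Finset.sum_eq_zero (fun i _ => by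
          by_cases h : i = j
          · rw [h, f_self, mul_zero]
          · rw [hzero i j _ _ h (hy i) (hy j), mul_zero]), add_zero] at e
      exact (mul_eq_zero.1 e).resolve_right (hxy j)
    · have e := congrArg (L (x j)) hc
      simp only [map_add, map_sum, map_smul, map_zero, smul_eq_mul] at e
      simp only [hL] at e
      rw [Finset.sum_eq_zero (fun i _ => by
          by_cases h : i = j
          · rw [h, f_self, mul_zero]
          · rw [hzero i j _ _ h (hx i) (hx j), mul_zero]), zero_add,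
        Finset.sum_eq_single j (fun i _ h => by rw [hzero i j _ _ h (hy i) (hx j), mul_zero])
        (fun h => absurd (Finset.mem_univ j) h), f_comm] at e
      exact (mul_eq_zero.1 e).resolve_right (hxy j)
  have := hli.fintype_card_le_finrank
  simp [Module.finrank_fintype_fun_eq_card] at this

theorem proj_ids {R : Type*} [CommRing R] (h2 : (2 : R) = 0) {u w : R} (hu : u ^ 3 = 1) (hw : w ^ 3 = 1) :
    let P : Fin 4 → R := fun i => ![1 + u + u * u, 1 + w + w * w, 1 + u * w + u * w * (u * w),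
      1 + u * (w * w) + u * (w * w) * (u * (w * w))] i
    let e : R := (1 + u + u * u) * (1 + w + w * w)
    (∀ i, P i * P i = P i) ∧ (∀ i, P i * e = e) ∧ e * e = e ∧ (∀ i j, i ≠ j → P i * P j = e) ∧
      P 0 + P 1 + P 2 + P 3 = 1 + e := by
  have h4 : (4 : R) = 0 := by linear_combination 2 * h2
  have u4 : u ^ 4 = u := by linear_combination u * hu
  have u5 : u ^ 5 = u ^ 2 := by linear_combination u ^ 2 * hu
  have u6 : u ^ 6 = 1 := by linear_combination (u ^ 3 + 1) * hu
  have w4 : w ^ 4 = w := by linear_combination w * hw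
  have w5 : w ^ 5 = w ^ 2 := by linear_combination w ^ 2 * hw
  have w6 : w ^ 6 = 1 := by linear_combination (w ^ 3 + 1) * hw
  have w7 : w ^ 7 = w := by linear_combination (w ^ 4 + w) * hw
  have w8 : w ^ 8 = w ^ 2 := by linear_combination (w ^ 5 + w ^ 2) * hw
  have h3 : (3 : R) = 1 := by linear_combination h2
  have h6 : (6 : R) = 0 := by linear_combination 3 * h2
  have h9 : (9 : R) = 1 := by linear_combination 4 * h2
  intro P e
  refine ⟨fun i => ?_, fun i => ?_, ?_, fun i j hij => ?_, ?_⟩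
  · fin_cases i <;> simp [P] <;> ring_nf <;> simp [hu, hw, u4, u5, u6, w4, w5, w6, w7, w8, h2, h3, h4, h6, h9] <;> ring_nf <;> simp [hu, hw, u4, u5, u6, w4, w5, w6, w7, w8, h2, h3, h4, h6, h9] <;> ring
  · fin_cases i <;> simp [P, e] <;> ring_nf <;> simp [hu, hw, u4, u5, u6, w4, w5, w6, w7, w8, h2, h3, h4, h6, h9] <;> ring_nf <;> simp [hu, hw, u4, u5, u6, w4, w5, w6, w7, w8, h2, h3, h4, h6, h9] <;> ring
  · simp [e] <;> ring_nf <;> simp [hu, hw, u4, u5, u6, w4, w5, w6, w7, w8, h2, h3, h4, h6, h9] <;> ring_nf <;> simp [hu, hw, u4, u5, u6, w4, w5, w6, w7, w8, h2, h3, h4, h6, h9] <;> ring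
  · fin_cases i <;> fin_cases j <;> first | exact absurd rfl hij | skip
    all_goals simp [P, e] <;> ring_nf <;> simp [hu, hw, u4, u5, u6, w4, w5, w6, w7, w8, h2, h3, h4, h6, h9] <;> ring_nf <;> simp [hu, hw, u4, u5, u6, w4, w5, w6, w7, w8, h2, h3, h4, h6, h9] <;> ring
  · simp [P, e] <;> ring_nf <;> simp [hu, hw, u4, u5, u6, w4, w5, w6, w7, w8, h2, h3, h4, h6, h9] <;> ring_nf <;> simp [hu, hw, u4, u5, u6, w4, w5, w6, w7, w8, h2, h3, h4, h6, h9] <;> ring

/-- Commuting elements of order three: one of the four cyclic subgroups they give has no fixed vector. -/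
theorem exists_proj_zero {u w : G4} (hu : u ∈ Sp4 F) (hw : w ∈ Sp4 F) (hu3 : u ^ 3 = 1) (hw3 : w ^ 3 = 1)
    (hc : u * w = w * u) (h : ∀ i, (![u, w, u * w, u * (w * w)] : Fin 4 → G4) i ≠ 1) :
    ∃ i, proj ((![u, w, u * w, u * (w * w)] : Fin 4 → G4) i) = 0 := by
  classical
  by_contra hcon
  push Not at hcon
  set E := (![u, w, u * w, u * (w * w)] : Fin 4 → G4) with hE
  let S : Subring M4 := Subring.closure {u.1, w.1}
  letI : CommRing S := Subring.closureCommRingOfComm (by
    rintro a (rfl | rfl) b (rfl | rfl) <;>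
      first
        | rfl
        | (rw [← Units.val_mul, ← Units.val_mul, hc]))
  let su : S := ⟨u.1, Subring.subset_closure (by simp)⟩
  let sw : S := ⟨w.1, Subring.subset_closure (by simp)⟩
  obtain ⟨hid, hPe, hee, hij, hsum⟩ := proj_ids (R := S) (Subtype.ext (CharTwo.two_eq_zero (R := M4)))
    (u := su) (w := sw) (Subtype.ext (by
      show u.1 ^ 3 = 1
      rw [← Units.val_pow_eq_pow_val, hu3, Units.val_one]))
    (Subtype.ext (by
      show w.1 ^ 3 = 1
      rw [← Units.val_pow_eq_pow_val, hw3, Units.val_one]))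
  set e : M4 := proj u * proj w with he
  have key : ∀ i, proj (E i) * proj (E i) = proj (E i) := fun i => by
    have := congrArg Subtype.val (hid i)
    fin_cases i <;> exact this
  have keye : ∀ i, proj (E i) * e = e := fun i => by
    have := congrArg Subtype.val (hPe i)
    fin_cases i <;> exact this
  have keye2 : e * e = e := congrArg Subtype.val hee
  have keyij : ∀ i j, i ≠ j → proj (E i) * proj (E j) = e := fun i j h => by
    have := congrArg Subtype.val (hij i j h)
    fin_cases i <;> fin_cases j <;> exact this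
  have keysum : proj (E 0) + proj (E 1) + proj (E 2) + proj (E 3) = 1 + e := congrArg Subtype.val hsum
  have keye' : ∀ i, e * proj (E i) = e := fun i => by
    have := congrArg Subtype.val ((mul_comm _ _).trans (hPe i))
    fin_cases i <;> exact this
  have hadj : ∀ i x y, altForm4 (proj (E i) *ᵥ x) y = altForm4 x (proj (E i) *ᵥ y) := by
    have hcw : Commute u w := hc
    intro i
    fin_cases i
    · exact proj_adjoint hu hu3
    · exact proj_adjoint hw hw3
    · exact proj_adjoint ((Sp4 F).mul_mem hu hw) (by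
        show (u * w) ^ 3 = 1
        rw [hcw.mul_pow, hu3, hw3, one_mul])
    · exact proj_adjoint ((Sp4 F).mul_mem hu ((Sp4 F).mul_mem hw hw)) (by
        show (u * (w * w)) ^ 3 = 1
        rw [(hcw.mul_right hcw).mul_pow, hu3, (Commute.refl w).mul_pow, hw3, one_mul, one_mul])
  have hcomm : proj w * proj u = e := keyij 1 0 (by decide)
  have eadj : ∀ x y, altForm4 (e *ᵥ x) y = altForm4 x (e *ᵥ y) := fun x y => by
    rw [he, ← Matrix.mulVec_mulVec, show proj u = proj (E 0) from rfl, show proj w = proj (E 1) from rfl, hadj,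
      hadj, Matrix.mulVec_mulVec, show proj (E 1) * proj (E 0) = e from hcomm]
    rfl
  by_cases he0 : e = 0
  · refine false_of_three (fun i : Fin 3 => proj (E i.castSucc)) (fun i => hadj _) (fun i => key _)
      (fun i j h => ?_) (fun i => hcon _)
    rw [keyij _ _ (fun e' => h (Fin.castSucc_injective _ e')), he0]
  · obtain ⟨i, j, hne', hi, hj⟩ : ∃ i j, i ≠ j ∧ proj (E i) ≠ e ∧ proj (E j) ≠ e := by
      by_contra hall
      push Not at hall
      by_cases hex : ∃ i, proj (E i) ≠ e
      · obtain ⟨i, hi⟩ := hex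
        have ho := fun j (h : i ≠ j) => hall i j h hi
        refine h i (eq_one_of_proj ?_)
        fin_cases i <;> simp [ho 0, ho 1, ho 2, ho 3, CharTwo.add_self_eq_zero, CharTwo.add_cancel_right,
          CharTwo.add_cancel_left] at keysum ⊢ <;>
          first
            | exact keysum
            | (rw [add_comm e] at keysum; exact add_right_cancel keysum)
            | exact add_right_cancel keysum
      · push Not at hex
        rw [hex 0, hex 1, hex 2, hex 3, CharTwo.add_self_eq_zero, zero_add, CharTwo.add_self_eq_zero] at keysum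
        exact h 0 (eq_one_of_proj ((hex 0).trans (CharTwo.add_eq_zero.1 keysum.symm).symm))
    refine false_of_three ![e, proj (E i) + e, proj (E j) + e] ?_ ?_ ?_ ?_
    · intro k x y
      fin_cases k <;> simp [Matrix.add_mulVec, f_add_left, f_add_right, hadj, eadj]
    · intro k
      fin_cases k <;>
        simp [keye2, mul_add, add_mul, key, keye, keye', CharTwo.add_self_eq_zero]
    · intro k l hkl
      fin_cases k <;> fin_cases l <;>
        first
          | exact absurd rfl hkl
          | simp [keye2, mul_add, add_mul, keyij i j hne', keyij j i hne'.symm, keye, keye', CharTwo.add_self_eq_zero]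
    · intro k
      fin_cases k <;> simp [he0, hi, hj, CharTwo.add_eq_zero]

end CfsgLib.Sp4Even
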