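import Cfsg.Agent.Lib.Sp4Even.Thirds

/-!
Proportional images modulo a transvection vector: lines carry the affine rule and planes a conic rule.
-/

set_option autoImplicit false

namespace CfsgLib.Sp4Even

open Matrix Cfsg.Lie

variable {F : Type*} [Field F] [CharP F 2] [Fintype F]

local notation "V" => (Fin 4 → F)
local notation "G4" => Matrix.GeneralLinearGroup (Fin 4) F

variable {P : Subgroup (Matrix.GeneralLinearGroup (Fin 4) F)}

/-- The scalar field at a transvection vector. -/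
def FieldAt (P : Subgroup G4) (a : V) (K : Subfield F) : Prop :=
  (∀ u v, Nb P a u → Nb P a v → altForm4 u v ∈ K) ∧
    ∀ b, Nb P a b → ∀ m : F, m ≠ 0 → (InD P a (m • b) ↔ m ∈ K)

theorem exists_nb_nonorth (hP : Base P) (hU : Uniq P) {a b : V} (ha : a ∈ Dv P) (hb : Nb P a b) :
    ∃ b', Nb P a b' ∧ altForm4 b b' ≠ 0 := by
  obtain ⟨b1, b2, hb1, hb2, h12⟩ := exists_two_nb hP hU ha
  by_contra h
  push Not at h
  refine h12 ?_
  obtain ⟨α, β, e⟩ := mem_span_of_perp ha.1 (hb.not_smul hU ha) hb.2.1 (by rw [f_comm]; exact hb1.2.1)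
    (by rw [f_comm]; exact h b1 hb1)
  rw [e, f_add_left, f_smul_left, f_smul_left, hb2.2.1, h b2 hb2]; simp

theorem InD.nb {a x : V} (hx : InD P a x) (hax : altForm4 a x = 0)
    (hne : ∀ t : F, x + t • a ≠ a) : ∃ t : F, Nb P a (x + t • a) := by
  obtain ⟨t, ht⟩ := hx
  exact ⟨t, ht, by rw [f_add_right, f_smul_right, hax, f_self]; simp, hne t⟩

theorem Nb.inD {a b : V} (h : Nb P a b) : InD P a b := ⟨0, by simpa using h.1⟩

theorem fieldAt_exists (hP : Base P) (hU : Uniq P) {a b : V} (ha : a ∈ Dv P) (hb : Nb P a b) {α β : F} (hβ : β ≠ 1)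
    (hx : Nb P a (α • a + β • b)) : ∃ K : Subfield F, FieldAt P a K := by
  have hβ0 : β ≠ 0 := fun e => hx.2.2 (by
    have := hU a ha α (by simpa [e] using hx.1)
    simp [e, this])
  have hl : InD P a (β • b) := ⟨α, by rw [add_comm]; exact hx.1⟩
  obtain ⟨b', hb', he⟩ := exists_nb_nonorth hP hU ha hb
  obtain ⟨K, hK, heK, hbK, -, hall⟩ := plane_field hP hb.2.1 hb'.2.1 he hb.inD hb'.inD hβ0 hβ hl
  obtain ⟨k, hk, hk0, hk1⟩ := exists_scalar hK
  have hbiff : ∀ m : F, m ≠ 0 → (InD P a (m • b) ↔ m ∈ K) := fun m hm =>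
    ⟨hbK m, fun h => by simpa using hall m 0 h K.zero_mem (Or.inl hm)⟩
  -- transfer along a non-orthogonal pair of neighbours
  have hpair : ∀ u v, Nb P a u → Nb P a v → altForm4 u v ≠ 0 → (∀ m : F, m ≠ 0 → (InD P a (m • u) ↔ m ∈ K)) →
      altForm4 u v ∈ K ∧ ∀ m : F, m ≠ 0 → (InD P a (m • v) ↔ m ∈ K) := by
    intro u v hu hv huv hiff
    obtain ⟨K', -, hc, huK', hvK', hall'⟩ := plane_field hP hu.2.1 hv.2.1 huv hu.inD hv.inD hk0 hk1 ((hiff k hk0).2 hk)
    have e : ∀ m : F, m ≠ 0 → (m ∈ K' ↔ m ∈ K) := fun m hm =>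
      ⟨fun h => (hiff m hm).1 (by simpa using hall' m 0 h K'.zero_mem (Or.inl hm)), fun h => huK' m ((hiff m hm).2 h)⟩
    exact ⟨(e _ huv).1 hc, fun m hm => ⟨fun h => (e m hm).1 (hvK' m h), fun h => by
      simpa using hall' 0 m K'.zero_mem ((e m hm).2 h) (Or.inr hm)⟩⟩
  have hb'iff := (hpair b b' hb hb' he hbiff).2
  have hcoord : ∀ u, Nb P a u → altForm4 b u ∈ K ∧ altForm4 b' u ∈ K := fun u hu => by
    refine ⟨?_, ?_⟩
    · by_cases h : altForm4 b u = 0
      · rw [h]; exact K.zero_mem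
      · exact (hpair b u hb hu h hbiff).1
    · by_cases h : altForm4 b' u = 0
      · rw [h]; exact K.zero_mem
      · exact (hpair b' u hb' hu h hb'iff).1
  refine ⟨K, fun u v hu hv => ?_, fun u hu => ?_⟩
  · obtain ⟨t, r, s, rfl⟩ := perp_coords hU ha hb hb' he (x := u) (by rw [f_comm]; exact hu.2.1)
    have h1 := hcoord _ hu
    have h2 := hcoord v hv
    have e : altForm4 (t • a + r • b + s • b') v = r * altForm4 b v + s * altForm4 b' v := by
      simp [f_add_left, f_smul_left, hv.2.1]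
    have e1 : altForm4 b (t • a + r • b + s • b') = s * altForm4 b b' := by
      simp [f_add_right, f_smul_right, f_comm b a, hb.2.1]
    have e2 : altForm4 b' (t • a + r • b + s • b') = r * altForm4 b b' := by
      simp [f_add_right, f_smul_right, f_comm b' a, f_comm b' b, hb'.2.1]
    rw [e]
    rw [e1, e2] at h1
    have hs : s ∈ K := by
      have := K.div_mem h1.1 heK
      rwa [mul_div_assoc, div_self he, mul_one] at this
    have hr : r ∈ K := by
      have := K.div_mem h1.2 heK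
      rwa [mul_div_assoc, div_self he, mul_one] at this
    exact K.add_mem (K.mul_mem hr h2.1) (K.mul_mem hs h2.2)
  · by_cases h : altForm4 b u = 0
    · by_cases h' : altForm4 b' u = 0
      · exfalso
        obtain ⟨t, r, s, rfl⟩ := perp_coords hU ha hb hb' he (x := u) (by rw [f_comm]; exact hu.2.1)
        simp [f_add_right, f_smul_right, f_comm b a, f_comm b' a, f_comm b' b, hb.2.1, hb'.2.1, he] at h h'
        have hD : t • a ∈ Dv P := by simpa [h, h'] using hu.1
        exact hu.2.2 (by simp [h, h', hU a ha t hD])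
      · exact (hpair b' u hb' hu h' hb'iff).2
    · exact (hpair b u hb hu h hbiff).2

theorem fieldAt_map (hP : Base P) {a : V} {K : Subfield F} (h : FieldAt P a K) {g : G4}
    (hg : g ∈ P) : FieldAt P (g.1 *ᵥ a) K := by
  have hgi : (g⁻¹ : G4) ∈ P := P.inv_mem hg
  have e1 : ∀ t : V, (g⁻¹).1 *ᵥ (g.1 *ᵥ t) = t := fun t => by
    rw [Matrix.mulVec_mulVec, ← Units.val_mul, inv_mul_cancel, Units.val_one, Matrix.one_mulVec]
  have e2 : ∀ t : V, g.1 *ᵥ ((g⁻¹).1 *ᵥ t) = t := fun t => by
    rw [Matrix.mulVec_mulVec, ← Units.val_mul, mul_inv_cancel, Units.val_one, Matrix.one_mulVec]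
  have back : ∀ t, Nb P (g.1 *ᵥ a) t → Nb P a ((g⁻¹).1 *ᵥ t) := fun t ht =>
    ⟨Dv.map hP ht.1 hgi, by rw [← f_map (hP.le hg), e2]; exact ht.2.1, fun e => ht.2.2 (by rw [← e, e2])⟩
  refine ⟨fun u v hu hv => ?_, fun b hb m hm => ?_⟩
  · have := h.1 _ _ (back u hu) (back v hv)
    rwa [f_map (hP.le hgi)] at this
  · rw [← h.2 _ (back b hb) m hm]
    constructor <;> rintro ⟨t, ht⟩ <;> refine ⟨t, ?_⟩
    · have := Dv.map hP ht hgi
      rwa [Matrix.mulVec_add, Matrix.mulVec_smul, Matrix.mulVec_smul, e1] at this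
    · have := Dv.map hP ht hg
      rwa [Matrix.mulVec_add, Matrix.mulVec_smul, Matrix.mulVec_smul, e2] at this

/-- Every line meets every scalar. -/
def Full (P : Subgroup G4) : Prop := ∀ a ∈ Dv P, ∀ b, Nb P a b → ∀ m : F, m ≠ 0 → InD P a (m • b)

theorem full_of_not_imgU (hP : Base P) (hU : Uniq P) (hI : ¬ ImgU P) : Full P := by
  simp only [ImgU] at hI
  push Not at hI
  obtain ⟨a0, ha0, b0, hb0, α, β, hx, hβ⟩ := hI
  obtain ⟨K, hK⟩ := fieldAt_exists hP hU ha0 hb0 hβ hx
  have hall : ∀ a ∈ Dv P, FieldAt P a K := fun a ha => by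
    obtain ⟨g, hg, rfl⟩ := exists_conj hP ha0 ha
    exact fieldAt_map hP hK hg
  have htop : K = ⊤ := hP.eq_top_of_products ha0 fun x hx y hy => by
    by_cases hc : altForm4 x y = 0
    · rw [hc]; exact K.zero_mem
    obtain ⟨b, hxb, hyb⟩ := common_nb hP hU hx hy hc
    exact (hall b hxb.1).1 x y (hxb.symm hx) (hyb.symm hy)
  exact fun a ha b hb m hm => ((hall a ha).2 b hb m hm).2 (htop ▸ Subfield.mem_top m)

/-- Lifts are unique. -/
theorem lift_unique (hP : Base P) (hU : Uniq P) (hF : Full P) (h4 : 4 ≤ Fintype.card F) {a x : V} (ha : a ∈ Dv P)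
    {t1 t2 : F} (h1 : x + t1 • a ∈ Dv P) (h2 : x + t2 • a ∈ Dv P) (hax : altForm4 a x = 0)
    (hx : ∀ t : F, x ≠ t • a) : t1 = t2 := by
  by_contra hne
  obtain ⟨b0, hb0⟩ := exists_nb hP ha
  obtain ⟨b', hb', he⟩ := exists_nb_nonorth hP hU ha hb0
  obtain ⟨z, hz, hzx⟩ : ∃ z, Nb P a z ∧ altForm4 z x ≠ 0 := by
    by_contra h
    push Not at h
    obtain ⟨t, r, s, e⟩ := perp_coords hU ha hb0 hb' he (x := x) (by rw [f_comm]; exact hax)
    have e1 := h b0 hb0
    have e2 := h b' hb'
    simp [e, f_add_right, f_smul_right, f_comm b0 a, f_comm b' a, f_comm b' b0, hb0.2.1, hb'.2.1, he] at e1 e2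
    exact hx t (by simp [e, e1, e2])
  have h2' : (2 : F) = 0 := CharTwo.two_eq_zero
  have hx1 : Nb P a (x + t1 • a) := ⟨h1, by simp [f_add_right, f_smul_right, hax], fun e => hx (1 + t1) (by
    rw [add_smul, one_smul]
    exact CharTwo.add_eq_zero.1 (by rw [show x + (a + t1 • a) = (x + t1 • a) + a by abel, e, CharTwo.add_self_eq_zero]))⟩
  -- every multiple of `z` has two lifts
  have two : ∀ m : {m : F // m ≠ 0}, ∃ s : Bool → F, Function.Injective s ∧ ∀ i, m.1 • z + s i • a ∈ Dv P := by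
    rintro ⟨m, hm⟩
    obtain ⟨s, hs⟩ := hF a ha z hz m hm
    set c := altForm4 (m • z + s • a) (x + t1 • a)
    have hc : c = m * altForm4 z x := by
      simp [c, f_add_left, f_add_right, f_smul_left, f_smul_right, hax, f_comm z a, hz.2.1]
    have hc0 : c ≠ 0 := by rw [hc]; exact mul_ne_zero hm hzx
    have hy := Dv.refl hP h2 (Dv.refl hP h1 hs)
    have e : altForm4 (m • z + s • a + c • (x + t1 • a)) (x + t2 • a) = c := by
      rw [hc]
      simp [f_add_left, f_add_right, f_smul_left, f_smul_right, hax, f_comm z a, f_comm x a, hz.2.1]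
    rw [show altForm4 (m • z + s • a) (x + t1 • a) = c from rfl, e] at hy
    refine ⟨fun i => if i then s else s + c * (t1 + t2), ?_, fun i => ?_⟩
    · have hd : c * (t1 + t2) ≠ 0 := mul_ne_zero hc0 fun e => hne (CharTwo.add_eq_zero.1 e)
      intro i j hij
      cases i <;> cases j <;> simp at hij ⊢
      all_goals exact absurd hij (by simpa [eq_comm] using hd)
    · cases i
      · convert hy using 1
        simp only [Bool.false_eq_true, if_false]
        rw [show m • z + s • a + c • (x + t1 • a) + c • (x + t2 • a) =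
          m • z + (s + c * (t1 + t2)) • a + (c + c) • x by module, CharTwo.add_self_eq_zero, zero_smul, add_zero]
      · simpa using hs
  choose s hs hsD using two
  classical
  let φ : {m : F // m ≠ 0} × Bool → F := fun p => s p.1 p.2 / p.1.1
  have hφ : Function.Injective φ := by
    rintro ⟨m, i⟩ ⟨n, j⟩ e
    simp only [φ] at e
    have hh : n.1 • z + s n j • a = (n.1 / m.1) • (m.1 • z + s m i • a) := by
      rw [smul_add, smul_smul, smul_smul, div_mul_cancel₀ _ m.2]
      congr 2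
      field_simp [m.2, n.2] at e ⊢
      linear_combination -e
    have h1' := hU _ (hsD m i) _ (hh ▸ hsD n j)
    have hmn : n = m := Subtype.ext ((div_eq_one_iff_eq m.2).1 h1')
    subst hmn
    have := hs n (show s n i = s n j by field_simp [n.2] at e; exact e)
    rw [this]
  have := Fintype.card_le_of_injective φ hφ
  rw [Fintype.card_prod, Fintype.card_bool, Fintype.card_subtype_compl, Fintype.card_subtype_eq] at this
  omega

/-- The affine rule on a line. -/
theorem line_rule (hP : Base P) (hU : Uniq P) (hF : Full P) (h4 : 4 ≤ Fintype.card F) {a b : V} (ha : a ∈ Dv P)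
    (hb : Nb P a b) {α β : F} (hβ : β ≠ 0) : α • a + β • b ∈ Dv P ↔ α + β = 1 := by
  have h2 : (2 : F) = 0 := CharTwo.two_eq_zero
  suffices key : ∀ m : F, m ≠ 0 → (1 + m) • a + m • b ∈ Dv P by
    constructor
    · intro h
      have := lift_unique hP hU hF h4 ha (x := β • b) (t1 := α) (t2 := 1 + β) (by rw [add_comm]; exact h)
        (by rw [add_comm]; exact key β hβ) (by rw [f_smul_right, hb.2.1, mul_zero])
        (fun t e => hβ (hb.indep hU ha (r := t) (s := β) (by rw [e, CharTwo.add_self_eq_zero])).2)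
      rw [this]
      linear_combination β * h2
    · intro h
      rw [show α = 1 + β by linear_combination h - β * h2]
      exact key β hβ
  obtain ⟨b1, hb1, he1⟩ := exists_nb_nonorth hP hU ha hb
  set e := altForm4 b b1
  obtain ⟨t1, ht1⟩ := hF a ha b1 hb1 e⁻¹ (inv_ne_zero he1)
  set b' := e⁻¹ • b1 + t1 • a with hb'def
  have hab' : altForm4 a b' = 0 := by simp [hb'def, f_add_right, f_smul_right, hb1.2.1]
  have hbb' : altForm4 b b' = 1 := by
    simp [hb'def, f_add_right, f_smul_right, f_comm b a, hb.2.1]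
    exact inv_mul_cancel₀ he1
  have hb'n : Nb P a b' := ⟨ht1, hab', fun h => by rw [h, f_comm, hb.2.1] at hbb'; exact zero_ne_one hbb'⟩
  clear_value b'
  choose g hg using fun m : {m : F // m ≠ 0} => hF a ha b hb m.1 m.2
  choose h hh using fun m : {m : F // m ≠ 0} => hF a ha b' hb'n m.1 m.2
  have uniqb : ∀ (m : {m : F // m ≠ 0}) t, m.1 • b + t • a ∈ Dv P → t = g m := fun m t ht =>
    lift_unique hP hU hF h4 ha ht (hg m) (by rw [f_smul_right, hb.2.1, mul_zero])
      (fun r e => m.2 (hb.indep hU ha (r := r) (s := m.1) (by rw [e, CharTwo.add_self_eq_zero])).2)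
  have uniqb' : ∀ (m : {m : F // m ≠ 0}) t, m.1 • b' + t • a ∈ Dv P → t = h m := fun m t ht =>
    lift_unique hP hU hF h4 ha ht (hh m) (by rw [f_smul_right, hab', mul_zero])
      (fun r e => m.2 (hb'n.indep hU ha (r := r) (s := m.1) (by rw [e, CharTwo.add_self_eq_zero])).2)
  have g1 : g ⟨1, one_ne_zero⟩ = 0 := (uniqb ⟨1, one_ne_zero⟩ 0 (by simpa using hb.1)).symm
  have h1 : h ⟨1, one_ne_zero⟩ = 0 := (uniqb' ⟨1, one_ne_zero⟩ 0 (by simpa using hb'n.1)).symm
  -- the functional equation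
  have hfe : ∀ (r s : F) (hr : r ≠ 0) (hs : s ≠ 0),
      h ⟨s, hs⟩ + r * s * g ⟨r, hr⟩ =
        g ⟨r ^ 2 * s, mul_ne_zero (pow_ne_zero _ hr) hs⟩ + r * s * h ⟨r⁻¹, inv_ne_zero hr⟩ := by
    intro r s hr hs
    have hq : r ^ 2 * s ≠ 0 := mul_ne_zero (pow_ne_zero _ hr) hs
    have ea : ∀ u v w z : F, altForm4 (u • b + v • a) (w • b' + z • a) = u * w := fun u v w z => by
      simp [f_add_left, f_add_right, f_smul_left, f_smul_right, hab', f_comm b a, hb.2.1, hbb', mul_comm]
    have y1 := Dv.refl hP (hg ⟨r, hr⟩) (hh ⟨s, hs⟩)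
    have y2 := Dv.refl hP (hh ⟨r⁻¹, inv_ne_zero hr⟩) (hg ⟨r ^ 2 * s, hq⟩)
    simp only at y1 y2
    rw [f_comm, ea] at y1
    rw [ea] at y2
    refine lift_unique hP hU hF h4 ha (x := (r ^ 2 * s) • b + s • b') ?_ ?_
      (by simp [f_add_right, f_smul_right, hb.2.1, hab']) ?_
    · convert y1 using 1; module
    · convert y2 using 1
      rw [show (r ^ 2 * s) * r⁻¹ = r * s by field_simp]
      rw [smul_add, smul_smul, smul_smul, show r * s * r⁻¹ = s by field_simp]
      module
    · intro t e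
      have := congrArg (fun v => altForm4 b v) e
      simp [f_add_right, f_smul_right, f_comm b a, hb.2.1, hbb'] at this
      exact hs this
  have hgh : ∀ (s : F) (hs : s ≠ 0), h ⟨s, hs⟩ = g ⟨s, hs⟩ := fun s hs => by
    have := hfe 1 s one_ne_zero hs
    simp only [one_pow, one_mul, inv_one, g1, h1, mul_zero, add_zero] at this
    exact this
  have hadd : ∀ (d t : F) (hd : d ≠ 0) (ht : t ≠ 0),
      g ⟨d * t, mul_ne_zero hd ht⟩ = g ⟨d, hd⟩ + d * g ⟨t, ht⟩ := by
    intro d t hd ht
    obtain ⟨r, hr'⟩ := (Finite.injective_iff_surjective.1 (frobenius_inj F 2)) t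
    rw [frobenius_def] at hr'
    subst hr'
    have hr : r ≠ 0 := fun e => ht (by rw [e, zero_pow two_ne_zero])
    have e1 := hfe r d hr hd
    have e2 := hfe r 1 hr one_ne_zero
    simp only [hgh, g1, mul_one, zero_add] at e1 e2
    have e3 : (⟨d * r ^ 2, mul_ne_zero hd ht⟩ : {m : F // m ≠ 0}) = ⟨r ^ 2 * d, mul_ne_zero ht hd⟩ :=
      Subtype.ext (mul_comm _ _)
    rw [e3]
    linear_combination -e1 + d * e2
  obtain ⟨m0, hm0, hm1⟩ : ∃ m : F, m ≠ 0 ∧ m ≠ 1 := by
    classical
    by_contra h'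
    push Not at h'
    have := Finset.card_le_card (show (Finset.univ : Finset F) ⊆ {0, 1} from fun x _ => by
      by_cases hx : x = 0
      · simp [hx]
      · simp [h' x hx])
    rw [Finset.card_univ] at this
    have := Finset.card_le_two (a := (0 : F)) (b := 1)
    omega
  have hm1' : 1 + m0 ≠ 0 := fun e => hm1 (CharTwo.add_eq_zero.1 e).symm
  set κ := g ⟨m0, hm0⟩ / (1 + m0)
  have hκ0 : κ ≠ 0 := by
    refine div_ne_zero (fun e => hm1 ?_) hm1'
    have := hg ⟨m0, hm0⟩
    rw [e, zero_smul, add_zero] at this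
    exact hU b hb.1 m0 this
  have hform : ∀ (m : F) (hm : m ≠ 0), g ⟨m, hm⟩ = κ * (1 + m) := by
    intro m hm
    have e1 := hadd m m0 hm hm0
    have e2 := hadd m0 m hm0 hm
    have e3 : (⟨m0 * m, mul_ne_zero hm0 hm⟩ : {m : F // m ≠ 0}) = ⟨m * m0, mul_ne_zero hm hm0⟩ :=
      Subtype.ext (mul_comm _ _)
    rw [e3, e1] at e2
    simp only [κ]
    field_simp
    linear_combination e2 + (m0 * g ⟨m, hm⟩ - m * g ⟨m0, hm0⟩) * h2
  have hκ : κ = 1 := by
    by_contra hκ1
    have hm : 1 + κ⁻¹ ≠ 0 := fun e => hκ1 (by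
      have := (CharTwo.add_eq_zero.1 e).symm
      exact inv_eq_one.1 this)
    have hk := hg ⟨1 + κ⁻¹, hm⟩
    rw [hform, show κ * (1 + (1 + κ⁻¹)) = 1 by field_simp; linear_combination κ * h2, one_smul] at hk
    refine hm (lift_unique hP hU hF h4 hb.1 (x := a) (t1 := 1 + κ⁻¹) (t2 := 0) (by rw [add_comm]; exact hk)
      (by simpa using ha) (by rw [f_comm]; exact hb.2.1) fun t e => ?_)
    exact one_ne_zero (hb.indep hU ha (r := 1) (s := t) (by rw [one_smul, e, CharTwo.add_self_eq_zero])).1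
  intro m hm
  have := hg ⟨m, hm⟩
  rw [hform, hκ, one_mul] at this
  rw [add_comm]
  exact this

/-- The conic rule in the plane orthogonal to a transvection vector. -/
theorem cone_rule (hP : Base P) (hU : Uniq P) (hF : Full P) (h4 : 4 ≤ Fintype.card F) {a b b' : V} (ha : a ∈ Dv P)
    (hb : Nb P a b) (hb' : Nb P a b') (he : altForm4 b b' ≠ 0) (t r s : F) :
    t • a + r • b + s • b' ∈ Dv P ↔ (t + r + s) ^ 2 + altForm4 b b' * r * s = 1 := by
  have h2 : (2 : F) = 0 := CharTwo.two_eq_zero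
  have hsq : ∀ x : F, x ^ 2 = 1 ↔ x = 1 := fun x => ⟨fun h => by
    have : (x - 1) * (x - 1) = 0 := by linear_combination h + (1 - x) * h2
    exact sub_eq_zero.1 (mul_self_eq_zero.1 this), fun h => by rw [h, one_pow]⟩
  set e := altForm4 b b' with hedef
  by_cases hs : s = 0
  · subst hs
    by_cases hr : r = 0
    · subst hr
      simp only [zero_smul, add_zero, mul_zero]
      exact ⟨fun h => by rw [hU a ha t h, one_pow], fun h => by rw [(hsq t).1 h, one_smul]; exact ha⟩
    simp only [zero_smul, add_zero, mul_zero]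
    rw [line_rule hP hU hF h4 ha hb hr, hsq]
  by_cases hr : r = 0
  · subst hr
    simp only [zero_smul, add_zero, mul_zero, zero_mul]
    rw [line_rule hP hU hF h4 ha hb' hs, hsq]
  obtain ⟨ρ, hρ⟩ := (Finite.injective_iff_surjective.1 (frobenius_inj F 2)) (r / (s * e))
  rw [frobenius_def] at hρ
  have hρ0 : ρ ≠ 0 := fun e0 => div_ne_zero hr (mul_ne_zero hs he) (by rw [← hρ, e0, zero_pow two_ne_zero])
  have hy := Dv.refl hP ((line_rule hP hU hF h4 ha hb hρ0 (α := 1 + ρ)).2 (by linear_combination ρ * h2))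
    ((line_rule hP hU hF h4 ha hb' hs (α := 1 + s)).2 (by linear_combination s * h2))
  have eρ : ρ ^ 2 * (s * e) = r := by rw [hρ, div_mul_cancel₀ _ (mul_ne_zero hs he)]
  have ef : altForm4 ((1 + s) • a + s • b') ((1 + ρ) • a + ρ • b) = s * ρ * e := by
    simp [f_add_left, f_add_right, f_smul_left, f_smul_right, hb.2.1, f_comm b' a, hb'.2.1, f_comm b' b, ← hedef]
    ring
  rw [ef] at hy
  have hval : (1 + s + s * ρ * e + r) • a + r • b + s • b' ∈ Dv P := by
    convert hy using 1
    conv_lhs => rw [← eρ]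
    module
  have hid : (1 + s + s * ρ * e + r + r + s) ^ 2 + e * r * s = 1 := by
    linear_combination (s * ρ * e + 2 * (r + s) * (1 + s * ρ * e) + 2 * (r + s) ^ 2 + e * r * s) * h2 + (s * e) * eρ
  constructor
  · intro h
    have := lift_unique hP hU hF h4 ha (x := r • b + s • b') (t1 := t) (t2 := 1 + s + s * ρ * e + r)
      (by rw [add_comm, ← add_assoc]; exact h) (by rw [add_comm, ← add_assoc]; exact hval)
      (by simp [f_add_right, f_smul_right, hb.2.1, hb'.2.1]) (fun u hu => hs (by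
        have := congrArg (fun v => altForm4 b v) hu
        simp [f_add_right, f_smul_right, f_comm b a, hb.2.1, he, ← hedef] at this
        exact this))
    rw [this, hid]
  · intro h
    have ht : t = 1 + s + s * ρ * e + r := by
      have h' : (t + r + s) ^ 2 = (1 + s + s * ρ * e + r + r + s) ^ 2 := by linear_combination h - hid
      have h'' := frobenius_inj F 2 (show frobenius F 2 (t + r + s) = frobenius F 2 _ from by
        simpa [frobenius_def] using h')
      linear_combination h''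
    rw [ht]; exact hval

end CfsgLib.Sp4Even
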