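import Cfsg.Agent.Lib.Sp4Even.Elements
import Cfsg.Agent.Lib.Sp4Even.Dual
import Cfsg.Agent.Lib.CIT.Outcome
import Cfsg.Agent.Lib.PSL2.ClassProduct

/-!
The socle is neither `PSL₃` over four elements nor `PSL₂` over a Fermat or Mersenne prime field or nine elements.
-/

set_option autoImplicit false
set_option maxHeartbeats 1000000

namespace CfsgLib.Sp4Even

open Matrix Cfsg.Lie CfsgLib.Suzuki
open scoped MatrixGroups

variable {F : Type*} [Field F] [CharP F 2] [Finite F]

local notation "V" => (Fin 4 → F)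
local notation "M4" => Matrix (Fin 4) (Fin 4) F
local notation "G4" => Matrix.GeneralLinearGroup (Fin 4) F

variable {P : Subgroup (Matrix.GeneralLinearGroup (Fin 4) F)}

section Quot

variable {n : ℕ} {K : Type} [Field K]

/-- The class of a matrix in the projective group. -/
abbrev cl : Matrix.SpecialLinearGroup (Fin n) K →* Matrix.ProjectiveSpecialLinearGroup (Fin n) K :=
  QuotientGroup.mk' _

theorem cl_ne_one {A B : Matrix.SpecialLinearGroup (Fin n) K} (h : A.1 * B.1 ≠ B.1 * A.1) : cl A ≠ 1 := fun e => by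
  have hA := (QuotientGroup.eq_one_iff A).1 e
  exact h (congrArg Subtype.val (Subgroup.mem_center_iff.1 hA B)).symm

theorem cl_eq_one_of_smul {A : Matrix.SpecialLinearGroup (Fin n) K} {c : K}
    (h : A.1 = c • (1 : Matrix (Fin n) (Fin n) K)) : cl A = 1 :=
  (QuotientGroup.eq_one_iff A).2 (Subgroup.mem_center_iff.2 fun B => Subtype.ext (by
    show B.1 * A.1 = A.1 * B.1
    rw [h, Matrix.mul_smul, Matrix.smul_mul, Matrix.mul_one, Matrix.one_mul]))

theorem cl_eq_of_neg [Fact (Even (Fintype.card (Fin n)))] (A : Matrix.SpecialLinearGroup (Fin n) K) :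
    cl (-A) = cl A := by
  have e : -A = (-1) * A := by
    refine Subtype.ext ?_
    show -A.1 = (-(1 : Matrix (Fin n) (Fin n) K)) * A.1
    simp
  rw [e, map_mul, cl_eq_one_of_smul (c := (-1 : K)) (A := (-1 : Matrix.SpecialLinearGroup (Fin n) K)) (by simp),
    one_mul]

end Quot

theorem hom_charpoly {Q : Type} [Group Q] (ψ : Q →* G4) {a b c : Q} (h : c * a = b * c) :
    (ψ b).1.charpoly = (ψ a).1.charpoly := by
  rw [← charpoly_conj_eq (ψ a) (ψ c), ← map_mul, h, map_mul, mul_inv_cancel_right]

theorem hom_proj {Q : Type} [Group Q] (ψ : Q →* G4) {a b c : Q} (h : c * a = b * c) (h0 : proj (ψ a) = 0) :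
    proj (ψ b) = 0 := by
  have e : ψ b = ψ c * ψ a * (ψ c)⁻¹ := by rw [← map_mul, h, map_mul, mul_inv_cancel_right]
  have key : proj (ψ b) = (ψ c).1 * proj (ψ a) * ((ψ c)⁻¹).1 := by
    simp only [proj, mul_add, add_mul, mul_one]
    rw [← Units.val_mul (ψ c) (ψ c)⁻¹, mul_inv_cancel, Units.val_one, e]
    simp only [← Units.val_mul, mul_assoc, inv_mul_cancel_left]
  rw [key, h0, mul_zero, zero_mul]

theorem hom_fix {Q : Type} [Group Q] (ψ : Q →* G4) {a b c : Q} (h : c * a = b * c)
    (hfix : ∀ v : V, (ψ b).1 *ᵥ v = v → v = 0) {v : V} (hv : (ψ a).1 *ᵥ v = v) : v = 0 := by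
  have := hfix ((ψ c).1 *ᵥ v) (by
    rw [Matrix.mulVec_mulVec, ← Units.val_mul, ← map_mul, ← h, map_mul, Units.val_mul, ← Matrix.mulVec_mulVec, hv])
  have e := congrArg ((ψ c)⁻¹.1 *ᵥ ·) this
  simpa only [Matrix.mulVec_mulVec, ← Units.val_mul, inv_mul_cancel, Units.val_one, Matrix.one_mulVec,
    Matrix.mulVec_zero] using e

/-- An embedding of a group isomorphic to `P`. -/
def emb {Q : Type} [Group Q] (e : P ≃* Q) : Q →* G4 := P.subtype.comp e.symm.toMonoidHom

omit [CharP F 2] [Finite F] in
theorem emb_injective {Q : Type} [Group Q] (e : P ≃* Q) : Function.Injective (emb e) :=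
  P.subtype_injective.comp e.symm.injective

omit [CharP F 2] [Finite F] in
theorem emb_mem {Q : Type} [Group Q] (e : P ≃* Q) (x : Q) : emb e x ∈ P := (e.symm x).2

theorem Core.not_L34 (hP : Core P) : ¬ CfsgLib.CIT.L34Type P := by
  rintro ⟨K, iK, iKt, hK, ⟨e⟩⟩
  classical
  haveI : CharP K 2 := by
    have h4 : ((4 : ℕ) : K) = 0 := by rw [← hK]; exact Nat.cast_card_eq_zero K
    have h2 : (2 : K) = 0 := by
      refine mul_self_eq_zero.1 ?_
      push_cast at h4
      linear_combination h4
    exact CharTwo.of_one_ne_zero_of_two_eq_zero one_ne_zero h2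
  let A : Matrix.SpecialLinearGroup (Fin 3) K := ⟨!![0, 0, 1; 1, 0, 1; 0, 1, 0], by simp [Matrix.det_fin_three]⟩
  let B : Matrix.SpecialLinearGroup (Fin 3) K := ⟨!![1, 0, 0; 0, 0, 1; 0, 1, 1], by
    simp [Matrix.det_fin_three, CharTwo.neg_eq]⟩
  let ψ := emb e
  have hsq : B * A = A ^ 2 * B := by
    refine Subtype.ext ?_
    show B.1 * A.1 = A.1 ^ 2 * B.1
    rw [pow_two]
    ext i j
    fin_cases i <;> fin_cases j <;> simp [A, B, Matrix.mul_apply, Fin.sum_univ_three, CharTwo.add_self_eq_zero]
  have h7 : A ^ 7 = 1 := by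
    refine Subtype.ext ?_
    show A.1 ^ 7 = 1
    rw [pow_succ, pow_succ, pow_succ, pow_succ, pow_succ, pow_succ, pow_one]
    ext i j
    fin_cases i <;> fin_cases j <;> simp [A, Matrix.mul_apply, Fin.sum_univ_three, CharTwo.add_self_eq_zero] <;>
      linear_combination (norm := (ring_nf <;> simp [CharTwo.two_eq_zero, CharTwo.add_self_eq_zero])) (0 : K) * (CharTwo.two_eq_zero : (2 : K) = 0)
  set g := ψ (cl A) with hg
  have hne : g ≠ 1 := fun E => by
    refine cl_ne_one (A := A) (B := B) (fun E' => ?_) (emb_injective e (E.trans (map_one ψ).symm))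
    have := congrFun (congrFun E' 0) 1
    simp [A, B, Matrix.mul_apply, Fin.sum_univ_three] at this
  have h7' : g ^ 7 = 1 := by rw [hg, ← map_pow, ← map_pow, h7, map_one, map_one]
  have hm : ∀ n : ℕ, g ^ n ∈ Sp4 F := fun n => (Sp4 F).pow_mem (hP.le (emb_mem e _)) n
  have c2 : (g ^ 2).1.charpoly = g.1.charpoly := by
    rw [hg, ← map_pow, ← map_pow]
    exact hom_charpoly ψ (c := cl B) (by rw [← map_mul, ← map_mul, hsq])
  have c4 : (g ^ 4).1.charpoly = g.1.charpoly := by
    rw [← c2, show g ^ 4 = (g ^ 2) ^ 2 by rw [← pow_mul], hg, ← map_pow, ← map_pow, ← map_pow, ← map_pow]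
    exact hom_charpoly ψ (c := cl B) (by rw [← map_mul, ← map_mul, pow_two (A ^ 2)]; congr 1; rw [pow_two A,
      show B * (A * A) = A ^ 2 * (A ^ 2 * B) by rw [← mul_assoc, hsq, mul_assoc, hsq], pow_two A]; simp only [mul_assoc])
  have cinv : ∀ n k : ℕ, n + k = 7 → (g ^ n).1.charpoly = g.1.charpoly → (g ^ k).1.charpoly = g.1.charpoly := by
    intro n k h hn
    rw [show g ^ k = (g ^ n)⁻¹ from eq_inv_of_mul_eq_one_right (by rw [← pow_add, h, h7']),
      charpoly_inv_eq (hm n), hn]
  refine false_of_orbit (p := 7) (by norm_num) (by norm_num) h7' hne ![1, 2, 4, 5, 6] ?_ ?_ ?_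
  · intro i j h; fin_cases i <;> fin_cases j <;> simp at h ⊢
  · intro i j h; fin_cases i <;> fin_cases j <;> simp at h ⊢ <;> decide
  · intro i
    fin_cases i
    · simp
    · exact c2
    · exact c4
    · exact cinv 2 5 rfl c2
    · exact cinv 1 6 rfl (by rw [pow_one])

section SL2

variable {K : Type} [Field K]

local notation "SL" => Matrix.SpecialLinearGroup (Fin 2) K

/-- An upper transvection. -/
def upT (x : K) : SL := ⟨!![1, x; 0, 1], by simp [Matrix.det_fin_two]⟩

/-- A lower transvection. -/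
def loT (x : K) : SL := ⟨!![1, 0; x, 1], by simp [Matrix.det_fin_two]⟩

/-- A diagonal matrix. -/
def diT (a : K) (ha : a ≠ 0) : SL := ⟨!![a, 0; 0, a⁻¹], by simp [Matrix.det_fin_two, ha]⟩

/-- The reflection. -/
def wT : SL := ⟨!![0, 1; -1, 0], by simp [Matrix.det_fin_two]⟩

@[simp] theorem upT_val (x : K) : (upT x).1 = !![1, x; 0, 1] := rfl

@[simp] theorem loT_val (x : K) : (loT x).1 = !![1, 0; x, 1] := rfl

@[simp] theorem diT_val (a : K) (ha : a ≠ 0) : (diT a ha).1 = !![a, 0; 0, a⁻¹] := rfl

@[simp] theorem wT_val : (wT : SL).1 = !![0, 1; -1, 0] := rfl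

theorem upT_mul (x y : K) : upT x * upT y = upT (x + y) := by
  ext i j; fin_cases i <;> fin_cases j <;> simp [Matrix.mul_apply, Fin.sum_univ_two, add_comm]

theorem upT_pow (x : K) (n : ℕ) : upT x ^ n = upT (n * x) := by
  induction n with
  | zero => rw [pow_zero]; ext i j; fin_cases i <;> fin_cases j <;> simp
  | succ n ih => rw [pow_succ, ih, upT_mul]; congr 1; push_cast; ring

theorem diT_conj (a : K) (ha : a ≠ 0) {x y : K} (h : y = a * a * x) : diT a ha * upT x = upT y * diT a ha := by
  subst h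
  ext i j; fin_cases i <;> fin_cases j <;> simp [Matrix.mul_apply, Fin.sum_univ_two]
  field_simp

theorem wT_conj {x y : K} (h : y = -x) : wT * upT x = loT y * wT := by
  subst h
  ext i j; fin_cases i <;> fin_cases j <;> simp [Matrix.mul_apply, Fin.sum_univ_two]

theorem cl_upT_ne_one {x : K} (hx : x ≠ 0) : cl (upT x) ≠ 1 :=
  cl_ne_one (B := wT) fun e => by
    have := congrFun (congrFun e 0) 0
    simp [Matrix.mul_apply, Fin.sum_univ_two, hx] at this

/-- Powers of an element with a given trace. -/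
theorem cl_pow_eq_one (A : SL) :
    (A.1.trace = 0 → cl A ^ 2 = 1) ∧ (A.1.trace * A.1.trace = 1 → cl A ^ 3 = 1) ∧
      (A.1.trace * A.1.trace = 2 → cl A ^ 4 = 1) ∧
      ((A.1.trace * A.1.trace) * (A.1.trace * A.1.trace) - 3 * (A.1.trace * A.1.trace) + 1 = 0 → cl A ^ 5 = 1) := by
  set t := A.1.trace with ht
  have h2 : A.1 * A.1 = t • A.1 - 1 := by
    have hd := A.2
    rw [Matrix.det_fin_two] at hd
    ext i j
    fin_cases i <;> fin_cases j <;> simp [ht, Matrix.trace_fin_two, Matrix.mul_apply, Fin.sum_univ_two] <;>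
      first | linear_combination -hd | ring
  have step : ∀ p q : K, A.1 * (p • A.1 + q • (1 : Matrix (Fin 2) (Fin 2) K)) = (p * t + q) • A.1 + (-p) • 1 := by
    intro p q
    rw [mul_add, Matrix.mul_smul, Matrix.mul_smul, Matrix.mul_one, h2, smul_sub, smul_smul, add_smul, neg_smul]
    abel
  have p1 : A.1 ^ 1 = (1 : K) • A.1 + (0 : K) • 1 := by simp
  have p2 : A.1 ^ 2 = t • A.1 + (-1 : K) • 1 := by rw [pow_succ', p1, step]; simp
  have p3 : A.1 ^ 3 = (t * t - 1) • A.1 + (-t) • 1 := by
    rw [pow_succ', p2, step, ← sub_eq_add_neg]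
  have p4 : A.1 ^ 4 = ((t * t - 1) * t - t) • A.1 + (-(t * t - 1)) • 1 := by
    rw [pow_succ', p3, step, ← sub_eq_add_neg]
  have p5 : A.1 ^ 5 = (((t * t - 1) * t - t) * t - (t * t - 1)) • A.1 + (-((t * t - 1) * t - t)) • 1 := by
    rw [pow_succ', p4, step, ← sub_eq_add_neg]
  have done : ∀ (m : ℕ) (p q : K), A.1 ^ m = p • A.1 + q • 1 → p = 0 → cl A ^ m = 1 := fun m p q h hp => by
    rw [← map_pow]
    refine cl_eq_one_of_smul (c := q) ?_
    rw [Matrix.SpecialLinearGroup.coe_pow, h, hp, zero_smul, zero_add]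
  exact ⟨fun h => done 2 _ _ p2 h, fun h => done 3 _ _ p3 (by linear_combination h),
    fun h => done 4 _ _ p4 (by linear_combination t * h), fun h => done 5 _ _ p5 (by linear_combination h)⟩

end SL2

theorem Core.not_oddLin (hP : Core P) (h4 : 4 ≤ Nat.card F) : ¬ CfsgLib.CIT.OddLinType P := by
  rintro ⟨K, iK, iKt, hK, ⟨e⟩⟩
  classical
  let ψ := emb e
  have hmem : ∀ x, ψ x ∈ Sp4 F := fun x => hP.le (emb_mem e x)
  rcases hK with hK | ⟨h7, hp, k, hk⟩
  · have h9 : ((9 : ℕ) : K) = 0 := by rw [← hK]; exact Nat.cast_card_eq_zero K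
    push_cast at h9
    have h3 : (3 : K) = 0 := mul_self_eq_zero.1 (by linear_combination h9)
    have h2 : (2 : K) ≠ 0 := fun h => one_ne_zero (α := K) (by linear_combination h3 - h)
    obtain ⟨i, hi⟩ : IsSquare (-1 : K) := by rw [FiniteField.isSquare_neg_one_iff, hK]; norm_num
    have hi0 : i ≠ 0 := fun h => one_ne_zero (α := K) (by rw [h] at hi; linear_combination -hi)
    have hpi : (1 : K) + i ≠ 0 := fun h => h2 (by linear_combination (1 - i) * h - hi)
    have hmi : (1 : K) - i ≠ 0 := fun h => h2 (by linear_combination (1 + i) * h - hi)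
    have h32 : ∀ x : K, x ≠ 0 → ψ (cl (upT x)) ^ 3 = 1 := fun x _ => by
      rw [← map_pow, ← map_pow, upT_pow]
      push_cast
      rw [h3, zero_mul]
      exact (congrArg ψ (show cl (upT (0 : K)) = 1 from cl_eq_one_of_smul (c := (1 : K)) (by
        ext a b; fin_cases a <;> fin_cases b <;> simp))).trans (map_one ψ)
    have hne : ∀ x : K, x ≠ 0 → ψ (cl (upT x)) ≠ 1 := fun x hx E =>
      cl_upT_ne_one hx (emb_injective e (E.trans (map_one ψ).symm))
    -- one class of elements of order three has no fixed vectors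
    obtain ⟨s, hs0, hs⟩ : ∃ s : K, s ≠ 0 ∧ proj (ψ (cl (upT s))) = 0 := by
      have hcomm : ψ (cl (upT 1)) * ψ (cl (upT i)) = ψ (cl (upT i)) * ψ (cl (upT 1)) := by
        rw [← map_mul, ← map_mul, upT_mul, add_comm, ← upT_mul, map_mul, map_mul]
      have e2 : ψ (cl (upT 1)) * ψ (cl (upT i)) = ψ (cl (upT (1 + i))) := by rw [← map_mul, ← map_mul, upT_mul]
      have e3 : ψ (cl (upT 1)) * (ψ (cl (upT i)) * ψ (cl (upT i))) = ψ (cl (upT (1 - i))) := by
        rw [← map_mul, ← map_mul, ← map_mul, ← map_mul, upT_mul, upT_mul]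
        congr 3
        linear_combination i * h3
      obtain ⟨j, hj⟩ := exists_proj_zero (hmem _) (hmem _) (h32 1 one_ne_zero) (h32 i hi0) hcomm (fun j => by
        fin_cases j
        · exact hne 1 one_ne_zero
        · exact hne i hi0
        · exact e2 ▸ hne _ hpi
        · exact e3 ▸ hne _ hmi)
      fin_cases j
      · exact ⟨1, one_ne_zero, hj⟩
      · exact ⟨i, hi0, hj⟩
      · exact ⟨1 + i, hpi, e2 ▸ hj⟩
      · exact ⟨1 - i, hmi, e3 ▸ hj⟩
    -- two of its elements have a product of order five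
    set u₁ := upT s with hu₁
    set u₂ := loT (i / s) with hu₂
    have ha : (1 + i) / s ≠ 0 := div_ne_zero hpi hs0
    have hp2 : proj (ψ (cl u₂)) = 0 := by
      have c1 : diT _ ha * upT s = upT (-i / s) * diT _ ha := diT_conj _ ha (by
        field_simp
        first | linear_combination hi - i * h3 | linear_combination i * h3 - hi)
      have c2 : wT * upT (-i / s) = u₂ * wT := wT_conj (by ring)
      refine hom_proj ψ (c := cl wT) (by rw [← map_mul, ← map_mul, c2]) (hom_proj ψ (c := cl (diT _ ha)) ?_ hs)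
      rw [← map_mul, ← map_mul, c1]
    have tr1 : (u₁ * u₂).1.trace = -(1 - i) := by
      simp [hu₁, hu₂, Matrix.trace_fin_two, Matrix.mul_apply, Fin.sum_univ_two]
      field_simp
      linear_combination h3
    have quart : ∀ t : K, t = 1 - i ∨ t = -(1 - i) ∨ t = 1 + i ∨ t = -(1 + i) →
        (t * t) * (t * t) - 3 * (t * t) + 1 = 0 := by
      rintro t (rfl | rfl | rfl | rfl)
      · linear_combination (-(1 - i) * (1 - i) - 1) * h3 + (i * i - 4 * i + 5) * (by linear_combination -hi : i * i + 1 = 0)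
      · linear_combination (-(1 - i) * (1 - i) - 1) * h3 + (i * i - 4 * i + 5) * (by linear_combination -hi : i * i + 1 = 0)
      · linear_combination (-(1 + i) * (1 + i) - 1) * h3 + (i * i + 4 * i + 5) * (by linear_combination -hi : i * i + 1 = 0)
      · linear_combination (-(1 + i) * (1 + i) - 1) * h3 + (i * i + 4 * i + 5) * (by linear_combination -hi : i * i + 1 = 0)
    have hfp : ∀ a, proj (ψ a) = 0 → ∀ v : V, (ψ a).1 *ᵥ v = v → v = 0 := fun a h v => fix_eq_zero h
    have hu2inv : u₂⁻¹ = loT (-(i / s)) := inv_eq_of_mul_eq_one_right (by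
      ext a b; fin_cases a <;> fin_cases b <;> simp [hu₂, Matrix.mul_apply, Fin.sum_univ_two])
    have hu2three : cl u₂ ^ 3 = 1 := by
      rw [← map_pow]
      refine cl_eq_one_of_smul (c := (1 : K)) ?_
      rw [pow_three]
      ext a b; fin_cases a <;> fin_cases b <;> simp [hu₂, Matrix.mul_apply, Fin.sum_univ_two]
      linear_combination (i / s) * h3
    have hfive : (ψ (cl u₁) * (ψ (cl u₂))⁻¹) ^ 5 = 1 := by
      rw [← map_inv, ← map_mul, ← map_pow, ← map_inv, ← map_mul, (cl_pow_eq_one _).2.2.2, map_one]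
      apply quart
      refine Or.inr (Or.inr (Or.inr ?_))
      simp [hu₁, hu2inv, Matrix.trace_fin_two, Matrix.mul_apply, Fin.sum_univ_two]
      field_simp
      linear_combination h3
    have hg0 : ∀ v : V, (ψ (cl (u₁ * u₂))).1 *ᵥ v = v → v = 0 := fun v hv =>
      eq_zero_of_pair (h32 s hs0) (by rw [← map_pow, hu2three, map_one]) hfive (hfp _ hs) (hfp _ hp2)
        (by rw [← map_mul, ← map_mul]; exact hv)
    set g := u₁ * u₂ with hg
    have hg5 : cl g ^ 5 = 1 := (cl_pow_eq_one g).2.2.2 (quart _ (Or.inr (Or.inl tr1)))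
    have hg02 : ∀ v : V, (ψ (cl (g * g))).1 *ᵥ v = v → v = 0 := fun v hv => hg0 v (by
      have e : cl g = cl (g * g) ^ 3 := by
        rw [map_mul cl g g, ← pow_two, ← pow_mul, show 2 * 3 = 5 + 1 from rfl, pow_succ, hg5, one_mul]
      generalize cl (g * g) = x at hv e
      rw [e, map_pow, pow_three, Units.val_mul, Units.val_mul, ← Matrix.mulVec_mulVec, ← Matrix.mulVec_mulVec, hv,
        hv, hv])
    have tr2 : (g * g).1.trace = 1 + i := by
      have hd := g.2
      rw [Matrix.det_fin_two] at hd
      rw [Matrix.trace_fin_two] at tr1 ⊢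
      simp [Matrix.mul_apply, Fin.sum_univ_two]
      linear_combination (g.1 0 0 + g.1 1 1 - (1 - i)) * tr1 - 2 * hd - hi - (1 + i) * h3
    have key : ∀ x, (ψ x).1.trace = 0 ∨ (ψ x).1.trace = 1 := by
      intro x
      obtain ⟨A, rfl⟩ := QuotientGroup.mk'_surjective _ x
      set t := A.1.trace with ht
      have h9' : t * (t * t - 1) * (t * t + 1) * (t * t * (t * t) + 1) = 0 := by
        have := FiniteField.pow_card t
        rw [hK] at this
        linear_combination this
      rcases mul_eq_zero.1 h9' with h' | h'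
      · rcases mul_eq_zero.1 h' with h'' | h''
        · rcases mul_eq_zero.1 h'' with h0 | h1
          · refine Or.inl (trace_of_pow_four ?_)
            rw [← map_pow]
            exact (congrArg ψ ((pow_mul _ 2 2).trans (by rw [(cl_pow_eq_one A).1 h0, one_pow]))).trans (map_one ψ)
          · exact trace_of_pow_three (hmem _) (by
              rw [← map_pow, (cl_pow_eq_one A).2.1 (sub_eq_zero.1 h1), map_one])
        · refine Or.inl (trace_of_pow_four ?_)
          rw [← map_pow, (cl_pow_eq_one A).2.2.1 (by linear_combination h'' - h3), map_one]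
      · have hq : (t * t) * (t * t) - 3 * (t * t) + 1 = 0 := by linear_combination h' - t * t * h3
        refine trace_of_pow_five (hmem _) (by rw [← map_pow, (cl_pow_eq_one A).2.2.2 hq, map_one]) ?_
        have ht4 : A.1.trace ^ 2 ≠ 4 := fun h => h2 (by
          linear_combination h' - (A.1.trace ^ 2 + 4) * h - 5 * h3)
        have hfour : (t - (1 - i)) * (t + (1 - i)) * ((t - (1 + i)) * (t + (1 + i))) = 0 := by
          linear_combination h' - (i * i + 1 - 2 * t * t - 4) * hi + h3
        have conc : ∀ B : Matrix.SpecialLinearGroup (Fin 2) K, B.1.trace = t →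
            (∀ v : V, (ψ (cl B)).1 *ᵥ v = v → v = 0) → ∀ v : V, (ψ (cl A)).1 *ᵥ v = v → v = 0 := by
          intro B hB hf v hv
          obtain ⟨C, hC⟩ := isConj_iff.1 (CfsgLib.PSL2Product.isConj_of_trace ht4 hB)
          exact hom_fix ψ (c := cl C) (by rw [← map_mul, ← map_mul, ← hC, inv_mul_cancel_right]) hf hv
        have hneg : ∀ B : Matrix.SpecialLinearGroup (Fin 2) K, (-B).1.trace = -B.1.trace := fun B => by
          show (-B.1).trace = _
          rw [Matrix.trace_neg]
        rcases mul_eq_zero.1 hfour with h | h <;> rcases mul_eq_zero.1 h with h | h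
        · refine conc (-g) (by rw [hneg, tr1]; linear_combination -h) ?_
          rwa [cl_eq_of_neg]
        · exact conc g (by rw [tr1]; linear_combination -h) hg0
        · exact conc (g * g) (by rw [tr2]; linear_combination -h) hg02
        · refine conc (-(g * g)) (by rw [hneg, tr2]; linear_combination -h) ?_
          rwa [cl_eq_of_neg]
    -- hence the group is realised over the prime field
    haveI : Fintype F := Fintype.ofFinite F
    haveI : Fact (Nat.Prime 2) := ⟨Nat.prime_two⟩
    let F₀ : Subfield F := (ZMod.castHom (dvd_refl 2) F).fieldRange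
    have hF₀ : F₀ ≠ ⊤ := by
      intro E
      have hs : Function.Surjective (ZMod.castHom (dvd_refl 2) F) := fun x =>
        RingHom.mem_fieldRange.1 (show x ∈ F₀ by rw [E]; trivial)
      have := Nat.card_le_card_of_surjective _ hs
      rw [Nat.card_zmod] at this
      omega
    obtain ⟨g', hg', hg''⟩ := hP.exists_trace hF₀
    refine hg'' ?_
    have := key (e ⟨g', hg'⟩)
    rw [show ψ (e ⟨g', hg'⟩) = g' by simp [ψ, emb]] at this
    rcases this with h | h <;> rw [h]
    · exact F₀.zero_mem
    · exact F₀.one_mem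
  · set p := Fintype.card K with hpdef
    have h13 : p ≠ 13 := by
      intro h
      have hk' : k < 4 := by
        by_contra hk'
        have := Nat.pow_le_pow_right (show 0 < 2 by norm_num) (not_lt.1 hk')
        omega
      interval_cases k <;> omega
    have hp0 : (p : K) = 0 := Nat.cast_card_eq_zero K
    set g := ψ (cl (upT (1 : K))) with hg
    have hgp : g ^ p = 1 := by
      rw [hg, ← map_pow, ← map_pow, upT_pow, hp0, zero_mul]
      exact (congrArg ψ (show cl (upT (0 : K)) = 1 from cl_eq_one_of_smul (c := (1 : K)) (by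
        ext a b; fin_cases a <;> fin_cases b <;> simp))).trans (map_one ψ)
    have hne : g ≠ 1 := fun E => cl_upT_ne_one one_ne_zero (emb_injective e (E.trans (map_one ψ).symm))
    have hcast : ∀ a : ℕ, 0 < a → a < p → (a : K) ≠ 0 := fun a ha hap h => by
      haveI : CharP K p := by
        obtain ⟨q, hq⟩ := CharP.exists K
        haveI := hq
        have : q ∣ p := (CharP.cast_eq_zero_iff K q p).1 hp0
        rcases (Nat.dvd_prime hp).1 this with h1 | h1
        · exact absurd h1 (CharP.char_ne_one K q)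
        · exact h1 ▸ hq
      have := Nat.le_of_dvd ha ((CharP.cast_eq_zero_iff K p a).1 h)
      omega
    have hsq : ∀ a : ℕ, 0 < a → a < p → (g ^ (a * a)).1.charpoly = g.1.charpoly := by
      intro a ha hap
      rw [hg, ← map_pow, ← map_pow, upT_pow]
      refine hom_charpoly ψ (c := cl (diT (a : K) (hcast a ha hap))) ?_
      rw [← map_mul, ← map_mul, diT_conj _ _ (show ((a * a : ℕ) : K) * 1 = (a : K) * a * 1 by push_cast; ring)]
    have cinv : ∀ n m : ℕ, n + m = 3 * p → (g ^ n).1.charpoly = g.1.charpoly →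
        (g ^ m).1.charpoly = g.1.charpoly := by
      intro n m h hn
      rw [show g ^ m = (g ^ n)⁻¹ from eq_inv_of_mul_eq_one_right (by rw [← pow_add, h, pow_mul', hgp, one_pow]),
        charpoly_inv_eq ((Sp4 F).pow_mem (hmem _) n), hn]
    have c1 : (g ^ 1).1.charpoly = g.1.charpoly := by rw [pow_one]
    refine false_of_orbit hp (by omega) hgp hne ![1, 4, 9, 3 * p - 4, 3 * p - 1] ?_ ?_ ?_
    · intro i j h
      fin_cases i <;> fin_cases j <;> simp at h ⊢ <;> omega
    · have bad : ∀ c : ℕ, c ∈ ({2, 3, 5, 8, 10, 13} : Finset ℕ) → ¬ p ∣ c := by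
        intro c hc hd
        fin_cases hc
        · exact absurd (Nat.le_of_dvd (by norm_num) hd) (by omega)
        · exact absurd (Nat.le_of_dvd (by norm_num) hd) (by omega)
        · exact absurd (Nat.le_of_dvd (by norm_num) hd) (by omega)
        · have := Nat.le_of_dvd (by norm_num) hd
          interval_cases p <;> simp_all (config := { decide := true })
        · have := Nat.le_of_dvd (by norm_num) hd
          interval_cases p <;> simp_all (config := { decide := true })
        · have := Nat.le_of_dvd (by norm_num) hd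
          interval_cases p <;> simp_all (config := { decide := true })
      have back : ∀ c : ℕ, c ∈ ({2, 3, 5, 8, 10, 13} : Finset ℕ) → ¬ p ∣ 3 * p - c := fun c hc hd => by
        refine bad c hc ?_
        have hc' : c ≤ 3 * p := by fin_cases hc <;> omega
        have := Nat.dvd_sub (dvd_mul_left p 3) hd
        rwa [Nat.sub_sub_self hc'] at this
      intro i j h
      fin_cases i <;> fin_cases j <;> simp at h ⊢
      all_goals first
        | exact bad 3 (by decide)
        | exact bad 8 (by decide)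
        | exact bad 5 (by decide)
        | (rw [show 3 * p - 4 - 1 = 3 * p - 5 by omega]; exact back 5 (by decide))
        | (rw [show 3 * p - 1 - 1 = 3 * p - 2 by omega]; exact back 2 (by decide))
        | (rw [show 3 * p - 4 - 4 = 3 * p - 8 by omega]; exact back 8 (by decide))
        | (rw [show 3 * p - 1 - 4 = 3 * p - 5 by omega]; exact back 5 (by decide))
        | (rw [show 3 * p - 4 - 9 = 3 * p - 13 by omega]; exact back 13 (by decide))
        | (rw [show 3 * p - 1 - 9 = 3 * p - 10 by omega]; exact back 10 (by decide))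
        | (rw [show 3 * p - 1 - (3 * p - 4) = 3 by omega]; exact bad 3 (by decide))
    · intro i
      fin_cases i
      · exact c1
      · exact hsq 2 (by norm_num) (by omega)
      · exact hsq 3 (by norm_num) (by omega)
      · exact cinv 4 (3 * p - 4) (by omega) (hsq 2 (by norm_num) (by omega))
      · exact cinv 1 (3 * p - 1) (by omega) c1

end CfsgLib.Sp4Even
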