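import Cfsg.Agent.Lib.Sp4Even.Blocks
import Cfsg.Agent.Lib.Sp4Even.SmallGroups
import Cfsg.Agent.Lib.CIT.TI
import Cfsg.Agent.Lib.SL2Pair
import Mathlib.FieldTheory.Perfect

/-!
A socle isomorphic to `PSL₂` over a field of characteristic two fixes a quadratic form.
-/

set_option autoImplicit false
set_option maxHeartbeats 1000000

namespace CfsgLib.Sp4Even

open Matrix Cfsg.Lie CfsgLib.Suzuki
open scoped MatrixGroups

variable {F : Type*} [Field F] [CharP F 2] [Finite F]

local notation "V" => (Fin 4 → F)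
local notation "M4" => Matrix (Fin 4) (Fin 4) F
local notation "G4" => Matrix.GeneralLinearGroup (Fin 4) F

/-- The exceptional endomorphism of the symplectic group. -/
def dualHom : Sp4 F →* Sp4 F := starHom.codRestrict (Sp4 F) starHom_mem

omit [Finite F] in
theorem dualHom_val (g : Sp4 F) : (dualHom g).1.1 = star4 g.1.1 := rfl

omit [Finite F] in
theorem dualHom_dualHom (g : Sp4 F) : (dualHom (dualHom g)).1.1 = g.1.1.map fun x => x ^ 2 := by
  rw [dualHom_val, dualHom_val]; exact star4_star4 g.2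

/-- An element of the standard Siegel radical as a symplectic transformation. -/
def siegel (p s r : F) : Sp4 F :=
  ⟨⟨nf p s r, nf p s r, by
      ext i j
      fin_cases i <;> fin_cases j <;> simp [nf, Matrix.mul_apply, Fin.sum_univ_four, CharTwo.add_self_eq_zero],
    by
      ext i j
      fin_cases i <;> fin_cases j <;> simp [nf, Matrix.mul_apply, Fin.sum_univ_four, CharTwo.add_self_eq_zero]⟩,
    fun x y => by
      simp [nf, altForm4, Matrix.mulVec, dotProduct, Fin.sum_univ_four]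
      linear_combination (p * x 2 * y 3 + p * x 3 * y 2 + s * x 2 * y 2 + r * x 3 * y 3) *
        (CharTwo.two_eq_zero : (2 : F) = 0)⟩

section Hom

variable {K : Type} [Field K] [CharP K 2]

local notation "SLK" => Matrix.SpecialLinearGroup (Fin 2) K

omit [Finite F] in
theorem upT_two (x : K) : upT x * upT x = 1 := by
  rw [upT_mul, CharTwo.add_self_eq_zero]
  ext i j; fin_cases i <;> fin_cases j <;> simp

omit [Finite F] in
theorem wT_two : (wT : SLK) * wT = 1 := by
  ext i j; fin_cases i <;> fin_cases j <;> simp [Matrix.mul_apply, Fin.sum_univ_two, CharTwo.neg_eq]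

omit [Finite F] in
theorem lo_eq (x : K) : loT x = wT * upT x * wT := by
  rw [wT_conj (y := x) (CharTwo.neg_eq x).symm, mul_assoc, wT_two, mul_one]

omit [Finite F] in
theorem torus_eq {x : K} (hx : x ≠ 0) : upT x * (wT * upT x⁻¹ * wT) * upT x = diT x hx * wT := by
  rw [← lo_eq]
  ext i j
  fin_cases i <;> fin_cases j <;> simp [Matrix.mul_apply, Fin.sum_univ_two, hx, CharTwo.neg_eq,
    CharTwo.add_self_eq_zero]

omit [Finite F] in
theorem braid : upT (1 : K) * wT * upT 1 = wT * upT 1 * wT := by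
  rw [← lo_eq]
  ext i j
  fin_cases i <;> fin_cases j <;> simp [Matrix.mul_apply, Fin.sum_univ_two, CharTwo.neg_eq,
    CharTwo.add_self_eq_zero]

/-- A property closed under products and holding on upper and lower transvections holds everywhere. -/
theorem gen_ind [Finite K] {p : SLK → Prop} (h1 : p 1) (hmul : ∀ g h, p g → p h → p (g * h))
    (hu : ∀ x, p (upT x)) (hl : ∀ x, p (loT x)) (g : SLK) : p g := by
  let R : Subgroup SLK :=
    { carrier := {g | p g}
      one_mem' := h1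
      mul_mem' := fun {a b} => hmul a b
      inv_mem' := fun {a} ha => by
        have e : a⁻¹ = a ^ (orderOf a - 1) := inv_eq_of_mul_eq_one_right (by
          rw [← pow_succ', Nat.sub_add_cancel (orderOf_pos a), pow_orderOf_eq_one])
        show p a⁻¹
        rw [e]
        clear e
        generalize orderOf a - 1 = n
        induction n with
        | zero => rw [pow_zero]; exact h1
        | succ n ih => rw [pow_succ]; exact hmul _ _ ih ha }
  have hR : R = ⊤ := CfsgLib.SL2Pair.eq_top_of_up_lo R hu hl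
  exact (show g ∈ R by rw [hR]; exact Subgroup.mem_top g)

/-- A faithful image of the special linear group without fixed vectors. -/
structure Gens (φ : SLK →* Sp4 F) : Prop where
  inj : ∀ x : K, x ≠ 0 → φ (upT x) ≠ 1
  noFix : ∀ v : V, (∀ g, (φ g).1.1 *ᵥ v = v) → v = 0

omit [Finite F] in
theorem Gens.conj {φ : SLK →* Sp4 F} (hφ : Gens φ) (k : Sp4 F) : Gens ((MulAut.conj k).toMonoidHom.comp φ) where
  inj x hx e := hφ.inj x hx (conj_eq_one_iff.1 e)
  noFix v hv := by
    have h := hφ.noFix ((k⁻¹).1.1 *ᵥ v) fun g => by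
      have := congrArg ((k⁻¹).1.1 *ᵥ ·) (hv g)
      simp only [MonoidHom.comp_apply, MulEquiv.coe_toMonoidHom, MulAut.conj_apply, Subgroup.coe_mul, Units.val_mul,
        Matrix.mulVec_mulVec, ← mul_assoc] at this
      rw [← Units.val_mul, ← Subgroup.coe_mul, inv_mul_cancel, Subgroup.coe_one, Units.val_one, one_mul] at this
      rwa [Matrix.mulVec_mulVec]
    have := congrArg (k.1.1 *ᵥ ·) h
    simpa [Matrix.mulVec_mulVec, ← Units.val_mul] using this

omit [Finite F] in
theorem radical_cases {φ : SLK →* Sp4 F} {a c : F} (ha : a ≠ 0) (hc : c ≠ 0)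
    (h1 : (φ (upT 1)).1.1 = nf a 0 c) :
    (∀ x : K, ∃ p s r : F, (φ (upT x)).1.1 = nf p s r) ∨
      ((∀ x : K, ∃ p s r : F, (dualHom (φ (upT x))).1.1 = nf p s r) ∧
        (dualHom (φ (upT 1))).1.1 = nf c 0 (a * a)) := by
  have h2 : (2 : F) = 0 := CharTwo.two_eq_zero
  have hcomm : ∀ x y : K, (φ (upT x)).1.1 * (φ (upT y)).1.1 = (φ (upT y)).1.1 * (φ (upT x)).1.1 := fun x y => by
    rw [← Units.val_mul, ← Units.val_mul, ← Subgroup.coe_mul, ← Subgroup.coe_mul, ← map_mul, ← map_mul, upT_mul,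
      upT_mul, add_comm]
  have hsq : ∀ x : K, (φ (upT x)).1.1 * (φ (upT x)).1.1 = 1 := fun x => by
    rw [← Units.val_mul, ← Subgroup.coe_mul, ← map_mul, upT_two, map_one]; rfl
  have data : ∀ x : K, ∃ t p s r : F, (φ (upT x)).1.1 = !![1, t, p, r; 0, 1, s, p + t * s; 0, 0, 1, t; 0, 0, 0, 1] ∧
      t * s = 0 := by
    intro x
    have e := h1 ▸ hcomm x 1
    obtain ⟨x00, x10, x11, x20, x30, x21, x31, x22, x32, x33, x23⟩ := cent_nf ha hc (φ (upT x)).2 e
    have c23 := col_rel (φ (upT x)).2 2 3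
    have e02 := congrFun (congrFun (hsq x) 0) 2
    simp [CfsgLib.Suzuki.J, x22, x23, x33, x32] at c23
    simp [Matrix.mul_apply, Fin.sum_univ_four, x00, x22, x32] at e02
    set M := (φ (upT x)).1.1 with hM
    refine ⟨M 0 1, M 0 2, M 1 2, M 0 3, ?_, by linear_combination e02 - M 0 2 * h2⟩
    have x13 : M 1 3 = M 0 2 + M 0 1 * M 1 2 := CharTwo.add_eq_zero.1 (by linear_combination c23)
    ext i j
    fin_cases i <;> fin_cases j <;> simp [x00, x10, x11, x20, x30, x21, x31, x22, x32, x33, x23, x13]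
  by_cases h : ∀ x : K, (φ (upT x)).1.1 0 1 = 0
  · refine Or.inl fun x => ?_
    obtain ⟨t, p, s, r, hM, -⟩ := data x
    have ht := h x
    rw [hM] at ht
    simp at ht
    exact ⟨p, s, r, by rw [hM, ht]; simp [nf]⟩
  · refine Or.inr ⟨fun x => ?_, ?_⟩
    · push Not at h
      obtain ⟨x₀, h₀⟩ := h
      obtain ⟨t₀, p₀, s₀, r₀, hM₀, hts₀⟩ := data x₀
      obtain ⟨t, p, s, r, hM, hts⟩ := data x
      rw [hM₀] at h₀
      simp at h₀
      have hs₀ : s₀ = 0 := (mul_eq_zero.1 hts₀).resolve_left h₀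
      have e := congrFun (congrFun (hcomm x x₀) 0) 2
      simp [hM, hM₀, Matrix.mul_apply, Fin.sum_univ_four, hs₀] at e
      have hs : s = 0 := (mul_eq_zero.1 (show t₀ * s = 0 by
        first | linear_combination e | linear_combination -e)).resolve_left h₀
      refine ⟨t * p + r, t * t, p * p, ?_⟩
      rw [dualHom_val, hM, hs]
      ext i j
      fin_cases i <;> fin_cases j <;> simp [star4, pairOf, nf] <;>
        linear_combination (norm := (ring_nf <;> simp [h2])) (0 : F) * h2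
    · rw [dualHom_val, h1]
      ext i j
      fin_cases i <;> fin_cases j <;> simp [star4, pairOf, nf] <;>
        linear_combination (norm := (ring_nf <;> simp [h2])) (0 : F) * h2

omit [Finite F] in
/-- The conjugating element clears the upper left block. -/
theorem nf_conj_top (W : M4) (hδ : W 2 0 * W 3 1 - W 2 1 * W 3 0 ≠ 0)
    (hs : W 0 0 * W 3 1 + W 1 0 * W 2 1 + W 2 0 * W 1 1 + W 3 0 * W 0 1 = 0) :
    let δ := W 2 0 * W 3 1 - W 2 1 * W 3 0
    let N := nf ((W 0 0 * W 3 1 - W 0 1 * W 3 0) / δ) ((W 1 0 * W 3 1 - W 1 1 * W 3 0) / δ)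
      ((W 0 1 * W 2 0 - W 0 0 * W 2 1) / δ)
    (N * W * N) 0 0 = 0 ∧ (N * W * N) 0 1 = 0 ∧ (N * W * N) 1 0 = 0 ∧ (N * W * N) 1 1 = 0 := by
  have h2 : (2 : F) = 0 := CharTwo.two_eq_zero
  intro δ N
  have hd : δ * δ⁻¹ = 1 := mul_inv_cancel₀ hδ
  refine ⟨?_, ?_, ?_, ?_⟩ <;>
    simp [N, nf, Matrix.mul_apply, Matrix.vecMul, dotProduct, Fin.sum_univ_four, div_eq_mul_inv]
  · linear_combination (norm := (simp only [δ]; ring_nf <;> simp [h2])) (-(W 0 0)) * hd
  · linear_combination (norm := (simp only [δ]; ring_nf <;> simp [h2])) (-(W 0 1)) * hd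
  · linear_combination (norm := (simp only [δ]; ring_nf <;> simp [h2])) (-(W 1 0)) * hd + W 3 0 * δ⁻¹ * hs
  · linear_combination (norm := (simp only [δ]; ring_nf <;> simp [h2])) (-(W 1 1)) * hd + W 3 1 * δ⁻¹ * hs

omit [Finite F] in
theorem exists_swap [Finite K] {φ : SLK →* Sp4 F} (hφ : Gens φ) {a c : F} (ha : a ≠ 0)
    (h1 : (φ (upT 1)).1.1 = nf a 0 c) (hS : ∀ x : K, ∃ p s r : F, (φ (upT x)).1.1 = nf p s r) :
    ∃ k : Sp4 F, (∀ x : K, k * φ (upT x) * k⁻¹ = φ (upT x)) ∧ (k * φ wT * k⁻¹).1.1 = swapM a c := by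
  set w := φ (wT : SLK) with hw
  have hD : w.1.1 2 0 * w.1.1 3 1 - w.1.1 2 1 * w.1.1 3 0 ≠ 0 := by
    intro h0
    have hdet : (!![w.1.1 2 0, w.1.1 2 1; w.1.1 3 0, w.1.1 3 1]).det = 0 := by rw [Matrix.det_fin_two]; simpa using h0
    obtain ⟨v, hv0, hv⟩ := Matrix.exists_mulVec_eq_zero_iff.2 hdet
    refine hv0 ?_
    have e := hφ.noFix ![v 0, v 1, 0, 0] fun g => ?_
    · funext i; fin_cases i
      · simpa using congrFun e 0
      · simpa using congrFun e 1
    have hfix : ∀ y : V, y 2 = 0 → y 3 = 0 → ∀ x : K, (φ (upT x)).1.1 *ᵥ y = y := fun y y2 y3 x => by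
      obtain ⟨p, s, r, e⟩ := hS x
      rw [e]
      ext i
      fin_cases i <;> simp [nf, Matrix.mulVec, dotProduct, Fin.sum_univ_four, y2, y3]
    have hwy : (w.1.1 *ᵥ ![v 0, v 1, 0, 0]) 2 = 0 ∧ (w.1.1 *ᵥ ![v 0, v 1, 0, 0]) 3 = 0 := by
      have v0 := congrFun hv 0
      have v1 := congrFun hv 1
      simp [Matrix.mulVec, dotProduct, Fin.sum_univ_two] at v0 v1
      constructor <;> simp [Matrix.mulVec, dotProduct, Fin.sum_univ_four] <;> assumption
    refine gen_ind (p := fun g => (φ g).1.1 *ᵥ ![v 0, v 1, 0, 0] = ![v 0, v 1, 0, 0]) ?_ ?_ ?_ ?_ g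
    · rw [map_one, Subgroup.coe_one, Units.val_one, Matrix.one_mulVec]
    · intro g h hg hh
      rw [map_mul, Subgroup.coe_mul, Units.val_mul, ← Matrix.mulVec_mulVec, hh, hg]
    · exact fun x => hfix _ (by simp) (by simp) x
    · intro x
      rw [lo_eq, map_mul, map_mul, Subgroup.coe_mul, Subgroup.coe_mul, Units.val_mul, Units.val_mul,
        ← Matrix.mulVec_mulVec, ← Matrix.mulVec_mulVec, ← hw, hfix _ hwy.1 hwy.2 x, Matrix.mulVec_mulVec,
        ← Units.val_mul, ← Subgroup.coe_mul, hw, ← map_mul, wT_two, map_one, Subgroup.coe_one, Units.val_one,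
        Matrix.one_mulVec]
  set δ := w.1.1 2 0 * w.1.1 3 1 - w.1.1 2 1 * w.1.1 3 0
  set k := siegel ((w.1.1 0 0 * w.1.1 3 1 - w.1.1 0 1 * w.1.1 3 0) / δ)
    ((w.1.1 1 0 * w.1.1 3 1 - w.1.1 1 1 * w.1.1 3 0) / δ)
    ((w.1.1 0 1 * w.1.1 2 0 - w.1.1 0 0 * w.1.1 2 1) / δ) with hk
  have hk2 : k⁻¹ = k := inv_eq_of_mul_eq_one_right (Subtype.ext (Units.ext k.1.val_inv))
  have hkx : ∀ x : K, k * φ (upT x) * k⁻¹ = φ (upT x) := fun x => by
    rw [mul_inv_eq_iff_eq_mul]
    refine Subtype.ext (Units.ext ?_)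
    obtain ⟨p, s, r, e⟩ := hS x
    rw [Subgroup.coe_mul, Subgroup.coe_mul, Units.val_mul, Units.val_mul, e, hk]
    show nf _ _ _ * nf p s r = nf p s r * nf _ _ _
    rw [nf_eq_blk, nf_eq_blk, blk_mul, blk_mul]
    simp only [mul_one, one_mul, mul_zero, zero_mul, add_zero, zero_add, add_comm]
  refine ⟨k, hkx, ?_⟩
  set m := k * w * k⁻¹ with hm
  have h2 : (2 : F) = 0 := CharTwo.two_eq_zero
  have hsymp := col_rel w.2 0 1
  simp [CfsgLib.Suzuki.J] at hsymp
  have top : m.1.1 0 0 = 0 ∧ m.1.1 0 1 = 0 ∧ m.1.1 1 0 = 0 ∧ m.1.1 1 1 = 0 := by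
    rw [hm, hk2, Subgroup.coe_mul, Subgroup.coe_mul, Units.val_mul, Units.val_mul, hk]
    exact nf_conj_top _ hD hsymp
  obtain ⟨t00, t01, t10, t11⟩ := top
  have hmm : m * m = 1 := by
    rw [hm, show k * w * k⁻¹ * (k * w * k⁻¹) = k * (w * w) * k⁻¹ by group, hw, ← map_mul, wT_two, map_one, mul_one,
      mul_inv_cancel]
  set Y : Matrix (Fin 2) (Fin 2) F := !![m.1.1 0 2, m.1.1 0 3; m.1.1 1 2, m.1.1 1 3]
  set D : Matrix (Fin 2) (Fin 2) F := !![m.1.1 2 0, m.1.1 2 1; m.1.1 3 0, m.1.1 3 1]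
  set E : Matrix (Fin 2) (Fin 2) F := !![m.1.1 2 2, m.1.1 2 3; m.1.1 3 2, m.1.1 3 3]
  have hblk : m.1.1 = blk 0 Y D E := by
    ext i j
    fin_cases i <;> fin_cases j <;> simp [blk, Y, D, E, t00, t01, t10, t11]
  have hq : blk 0 Y D E * blk 0 Y D E = 1 := by
    rw [← hblk, ← Units.val_mul, ← Subgroup.coe_mul, hmm]; rfl
  rw [blk_mul, ← blk_one] at hq
  obtain ⟨hYD, hYE, hED, -⟩ := blk_inj hq
  simp only [mul_zero, zero_mul, zero_add] at hYD hYE hED
  have hE : E = 0 := by
    have := congrArg (D * ·) hYE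
    simpa [← mul_assoc, mul_eq_one_comm.1 hYD] using this
  rw [hE] at hblk
  have hb := congrArg (fun g => (k * φ g * k⁻¹).1.1) (braid (K := K))
  have hdist : ∀ g h : SLK, k * φ (g * h) * k⁻¹ = (k * φ g * k⁻¹) * (k * φ h * k⁻¹) := fun g h => by
    rw [map_mul]; group
  simp only [hdist, hkx, ← hw, ← hm, Subgroup.coe_mul, Units.val_mul] at hb
  rw [hblk, h1, nf_eq_blk] at hb
  have hm2 : blk 0 Y D 0 * blk 0 Y D 0 = 1 := by
    rw [← hblk, ← Units.val_mul, ← Subgroup.coe_mul, hmm]; rfl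
  obtain ⟨hSD, hY⟩ := swap_of_braid hm2 hb
  obtain ⟨h1', h1''⟩ := symM_dInv (c := c) ha
  have hDval : D = dInv a c := by
    calc D = (dInv a c * symM a 0 c) * D := by rw [h1'', one_mul]
      _ = dInv a c := by rw [mul_assoc, hSD, mul_one]
  rw [hblk, hY, hDval, swapM]

omit [Finite F] in
/-- The relations of a Siegel radical with a normalised swap. -/
theorem relations [Fintype K] {φ : SLK →* Sp4 F} {a c : F} (ha : a ≠ 0)
    (h1 : (φ (upT 1)).1.1 = nf a 0 c) {p s r : K → F} (hS : ∀ x : K, (φ (upT x)).1.1 = nf (p x) (s x) (r x))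
    (hw : (φ wT).1.1 = swapM a c) :
    (∀ x, symM (p (x * x)) (s (x * x)) (r (x * x)) * dInv a c =
      symM (p x) (s x) (r x) * dInv a c * (symM (p x) (s x) (r x) * dInv a c)) ∧
    ∀ x y, symM (p x) (s x) (r x) * dInv a c * (symM (p y) (s y) (r y) * dInv a c) =
      symM (p y) (s y) (r y) * dInv a c * (symM (p x) (s x) (r x) * dInv a c) := by
  classical
  have hS' : ∀ x, blk 1 (symM (p x) (s x) (r x)) 0 1 = (φ (upT x)).1.1 := fun x => by rw [hS, nf_eq_blk]
  refine comm_of_relations ha (S := fun x => symM (p x) (s x) (r x)) (fun x y => ?_) ?_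
    (fun x => if hx : x = 0 then 1 else (φ (diT x hx)).1.1) (fun x hx => ?_) (fun x hx y => ?_)
  · have e : blk (1 : Matrix (Fin 2) (Fin 2) F) (symM (p x) (s x) (r x) + symM (p y) (s y) (r y)) 0 1 =
        blk 1 (symM (p (x + y)) (s (x + y)) (r (x + y))) 0 1 := by
      rw [hS', ← upT_mul, map_mul, Subgroup.coe_mul, Units.val_mul, ← hS', ← hS', blk_mul]
      simp [add_comm]
    exact ((blk_inj e).2.1).symm
  · have e := (hS' 1).trans (h1.trans (nf_eq_blk a 0 c))
    exact (blk_inj e).2.1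
  · simp only [hS', dif_neg hx, ← hw]
    simp only [← Units.val_mul, ← Subgroup.coe_mul, ← map_mul, torus_eq hx]
  · simp only [hS', dif_neg hx]
    simp only [← Units.val_mul, ← Subgroup.coe_mul, ← map_mul]
    rw [diT_conj x hx rfl]

end Hom

variable {P : Subgroup (Matrix.GeneralLinearGroup (Fin 4) F)}

/-- A socle of type `PSL₂` in characteristic two fixes a quadratic form. -/
theorem Core.not_lin (hP : Core P) (h4 : 4 ≤ Nat.card F)
    (noQ : ¬ ∃ Q : V → F, (∀ (k : F) (v : V), Q (k • v) = k ^ 2 * Q v) ∧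
      (∀ u v : V, QuadraticMap.polar Q u v = altForm4 u v) ∧ ∀ g ∈ P, ∀ v : V, Q (g.1 *ᵥ v) = Q v) :
    ¬ CfsgLib.CIT.LinType P := by
  classical
  rintro ⟨K, iK, iKt, n, hn, hK, ⟨e⟩⟩
  haveI : Fact (Nat.Prime 2) := ⟨Nat.prime_two⟩
  haveI : CharP K 2 := charP_of_card_eq_prime_pow hK
  let ψ : Matrix.SpecialLinearGroup (Fin 2) K →* Sp4 F :=
    ((emb e).comp cl).codRestrict (Sp4 F) fun g => hP.le (emb_mem e _)
  have hψ : ∀ g ∈ P, ∃ a, (ψ a).1 = g := fun g hg => by
    obtain ⟨a, ha⟩ := QuotientGroup.mk'_surjective _ (e ⟨g, hg⟩)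
    exact ⟨a, by show emb e (cl a) = g; rw [show cl a = e ⟨g, hg⟩ from ha]; simp [emb]⟩
  have hG : Gens ψ :=
    ⟨fun x hx E => cl_upT_ne_one hx (emb_injective e ((congrArg Subtype.val E).trans (map_one (emb e)).symm)),
      fun v hv => hP.noFix fun g hg => by obtain ⟨a, rfl⟩ := hψ g hg; exact hv a⟩
  have hu1 : (ψ (upT 1)).1 * (ψ (upT 1)).1 = 1 := by
    rw [← Subgroup.coe_mul, ← map_mul, upT_two, map_one, Subgroup.coe_one]
  obtain ⟨h, hh, a, c, ha, hc, hn1⟩ := hP.isC2 h4 (emb_mem e _) hu1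
    (fun E => hG.inj 1 one_ne_zero (Subtype.ext E))
  set h' : Sp4 F := ⟨h, hh⟩
  set φ := (MulAut.conj h').toMonoidHom.comp ψ with hφ
  have hφv : ∀ g, φ g = h' * ψ g * h'⁻¹ := fun g => rfl
  have h1 : (φ (upT 1)).1.1 = nf a 0 c := hn1
  rcases radical_cases ha hc h1 with hS | ⟨hS, hd1⟩
  · obtain ⟨k, hkx, hkw⟩ := exists_swap (hG.conj h') ha h1 hS
    choose p s r hps using hS
    set φ' := (MulAut.conj k).toMonoidHom.comp φ
    have hx' : ∀ x, φ' (upT x) = φ (upT x) := hkx
    obtain ⟨-, hcomm⟩ := relations (φ := φ') ha (by rw [hx']; exact h1) (fun x => by rw [hx']; exact hps x) hkw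
    obtain ⟨T, hT, hTx, hTw⟩ := exists_commutant ha _ hcomm
    have hall : ∀ g, T * (φ' g).1.1 = (φ' g).1.1 * T := by
      refine gen_ind (p := fun g => T * (φ' g).1.1 = (φ' g).1.1 * T) (by simp) (fun g g' hg hg' => ?_) (fun x => ?_)
        (fun x => ?_)
      · rw [map_mul, Subgroup.coe_mul, Units.val_mul, ← mul_assoc, hg, mul_assoc, hg', ← mul_assoc]
      · rw [hx', hps, nf_eq_blk]; exact hTx x
      · rw [lo_eq, map_mul, map_mul, Subgroup.coe_mul, Subgroup.coe_mul, Units.val_mul, Units.val_mul, hx', hps,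
          nf_eq_blk, show (φ' wT).1.1 = swapM a c from hkw, ← mul_assoc, ← mul_assoc, hTw,
          mul_assoc (swapM a c) T, hTx, ← mul_assoc, mul_assoc _ T, hTw, ← mul_assoc]
    set B := (k * h').1 with hB
    obtain ⟨l, hl⟩ := hP.absIrr.2 ((B⁻¹).1 * T * B.1) (by
      rintro _ ⟨g, hg, rfl⟩
      obtain ⟨b, rfl⟩ := hψ g hg
      have e0 : (φ' b).1.1 = B.1 * (ψ b).1.1 * (B⁻¹).1 := by
        rw [← Units.val_mul, ← Units.val_mul, hB, ← Subgroup.coe_inv, ← Subgroup.coe_mul, ← Subgroup.coe_mul]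
        congr 2
        show k * (h' * ψ b * h'⁻¹) * k⁻¹ = _
        group
      have hBB : (B⁻¹).1 * B.1 = 1 := by rw [← Units.val_mul, inv_mul_cancel, Units.val_one]
      have hBB' : ∀ Z : M4, (B⁻¹).1 * (B.1 * Z) = Z := fun Z => by rw [← mul_assoc, hBB, one_mul]
      have e1 := congrArg (fun M => (B⁻¹).1 * M * B.1) (e0 ▸ hall b)
      simp only [mul_assoc, hBB, hBB', mul_one] at e1 ⊢
      exact e1)
    refine hT l ?_
    calc T = B.1 * ((B⁻¹).1 * T * B.1) * (B⁻¹).1 := by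
          simp only [← mul_assoc, ← Units.val_mul, mul_inv_cancel, Units.val_one, one_mul]
          rw [mul_assoc, ← Units.val_mul, mul_inv_cancel, Units.val_one, mul_one]
      _ = l • 1 := by
          rw [hl, Matrix.mul_smul, Matrix.mul_one, Matrix.smul_mul, ← Units.val_mul, mul_inv_cancel, Units.val_one]
  · have hG' : Gens (dualHom.comp φ) := by
      refine ⟨fun x hx E => (hG.conj h').inj x hx (starHom_injective ?_), fun v hv => ?_⟩
      · exact (congrArg Subtype.val E).trans (map_one starHom).symm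
      have h0 := dual_noFix hP (v := ((dualHom h')⁻¹).1.1 *ᵥ v) (by
        rintro _ ⟨y, hy, rfl⟩
        obtain ⟨b, hb⟩ := hψ y.1 hy
        have ey : y = ψ b := Subtype.ext hb.symm
        subst ey
        have := congrArg (((dualHom h')⁻¹).1.1 *ᵥ ·) (hv b)
        simp only [MonoidHom.comp_apply, hφv, map_mul, map_inv, Subgroup.coe_mul, Units.val_mul,
          Matrix.mulVec_mulVec, ← mul_assoc] at this
        rw [← Units.val_mul, ← Subgroup.coe_mul, inv_mul_cancel, Subgroup.coe_one, Units.val_one, one_mul] at this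
        rw [Matrix.mulVec_mulVec]
        exact this)
      have := congrArg ((dualHom h').1.1 *ᵥ ·) h0
      simpa [Matrix.mulVec_mulVec, ← Units.val_mul] using this
    obtain ⟨k, hkx, hkw⟩ := exists_swap (φ := dualHom.comp φ) hG' hc hd1 hS
    choose p s r hps using hS
    set φ' := (MulAut.conj k).toMonoidHom.comp (dualHom.comp φ)
    have hx' : ∀ x, φ' (upT x) = dualHom (φ (upT x)) := hkx
    obtain ⟨hsq, hcomm⟩ := relations (φ := φ') hc (by rw [hx']; exact hd1) (fun x => by rw [hx']; exact hps x) hkw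
    have ha2 : a * a ≠ 0 := mul_ne_zero ha ha
    obtain ⟨μ, hμ⟩ := exists_plane hc ha2 hsq hcomm
    set q := qf c (a * a) μ with hq
    have hall : ∀ g v, q ((dualHom (φ' g)).1.1 *ᵥ v) = q v := by
      refine gen_ind (p := fun g => ∀ v, q ((dualHom (φ' g)).1.1 *ᵥ v) = q v) (fun v => by simp)
        (fun g g' hg hg' v => ?_) (fun x v => ?_) (fun x v => ?_)
      · rw [map_mul, map_mul, Subgroup.coe_mul, Units.val_mul, ← Matrix.mulVec_mulVec, hg, hg']
      · rw [hx', dualHom_val, hps]; exact qf_star_nf (hμ x) v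
      · rw [lo_eq, map_mul, map_mul, map_mul, map_mul, Subgroup.coe_mul, Subgroup.coe_mul, Units.val_mul,
          Units.val_mul, ← Matrix.mulVec_mulVec, ← Matrix.mulVec_mulVec]
        simp only [dualHom_val, show (φ' wT).1.1 = swapM c (a * a) from hkw, hx', hps]
        rw [hq, qf_star_swap hc ha2, qf_star_nf (hμ x), qf_star_swap hc ha2]
    set B : Sp4 F := dualHom (k * dualHom h') with hB
    let sr := (frobeniusEquiv F 2).symm
    refine noQ ⟨fun x => sr (q (B.1.1 *ᵥ fun i => x i ^ 2)), fun t x => ?_, fun x y => ?_, fun g hg x => ?_⟩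
    · have e : (fun i => (t • x) i ^ 2) = t ^ 2 • fun i => x i ^ 2 := funext fun i => by simp [mul_pow]
      show sr (q (B.1.1 *ᵥ fun i => (t • x) i ^ 2)) = _
      rw [e, Matrix.mulVec_smul, hq, qf_smul, map_mul]
      congr 1
      rw [map_pow]
      exact congrArg (· ^ 2) ((frobeniusEquiv F 2).symm_apply_apply t) |>.trans rfl
    · have e : (fun i => (x + y) i ^ 2) = (fun i => x i ^ 2) + fun i => y i ^ 2 :=
        funext fun i => CharTwo.add_sq (x i) (y i)
      show sr (q (B.1.1 *ᵥ fun i => (x + y) i ^ 2)) - sr _ - sr _ = _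
      rw [e, Matrix.mulVec_add, ← map_sub, ← map_sub]
      have hp := qf_polar c (a * a) μ (B.1.1 *ᵥ fun i => x i ^ 2) (B.1.1 *ᵥ fun i => y i ^ 2)
      rw [QuadraticMap.polar, ← hq, f_map B.2] at hp
      rw [hp]
      have e2 : altForm4 (fun i => x i ^ 2) (fun i => y i ^ 2) = frobeniusEquiv F 2 (altForm4 x y) := by
        simp only [altForm4, map_add, map_mul]
        rfl
      rw [e2]; exact (frobeniusEquiv F 2).symm_apply_apply _
    · obtain ⟨b, rfl⟩ := hψ g hg
      show sr (q (B.1.1 *ᵥ fun i => ((ψ b).1.1 *ᵥ x) i ^ 2)) = _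
      congr 1
      have hs : (fun i => ((ψ b).1.1 *ᵥ x) i ^ 2) = (dualHom (dualHom (ψ b))).1.1 *ᵥ fun i => x i ^ 2 := by
        rw [dualHom_dualHom]
        exact funext fun i => by
          have := RingHom.map_mulVec (frobenius F 2) (ψ b).1.1 x i
          exact this
      have ek : dualHom (φ' b) = B * dualHom (dualHom (ψ b)) * B⁻¹ := by
        show dualHom (k * dualHom (φ b) * k⁻¹) = _
        rw [hφv, hB]
        simp only [map_mul, map_inv]
        group
      have := hall b (B.1.1 *ᵥ fun i => x i ^ 2)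
      rw [ek, Subgroup.coe_mul, Subgroup.coe_mul, Units.val_mul, Units.val_mul, Matrix.mulVec_mulVec, mul_assoc,
        ← Units.val_mul (B⁻¹).1, ← Subgroup.coe_mul, inv_mul_cancel, Subgroup.coe_one, Units.val_one, mul_one,
        ← Matrix.mulVec_mulVec] at this
      rw [hs]; exact this

end CfsgLib.Sp4Even
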