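import Cfsg.Agent.Lib.Sp4Even.SuzukiConj
import Cfsg.Agent.Lib.Sp4Even.Elements
import Cfsg.Agent.Lib.Sp4Even.Dual
import Cfsg.Agent.Lib.Sp4Even.Transfer
import Cfsg.Agent.Lib.SuzukiUnique.CIT
import Cfsg.Agent.Lib.SuzukiUnique.Transport
import Cfsg.Agent.S0245
import Mathlib.FieldTheory.Finite.Basic

/-!
A socle of Suzuki type lives over its own field.
-/

set_option autoImplicit false
set_option maxHeartbeats 800000

namespace CfsgLib.Sp4Even

open Matrix Cfsg.Lie

variable {F : Type*} [Field F] [CharP F 2]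

local notation "V" => (Fin 4 → F)
local notation "M4" => Matrix (Fin 4) (Fin 4) F
local notation "G4" => Matrix.GeneralLinearGroup (Fin 4) F

theorem trace_two_pow (A : M4) (k : ℕ) : (A ^ 2 ^ k).trace = A.trace ^ 2 ^ k := by
  induction k with
  | zero => simp
  | succ k ih => rw [pow_succ 2 k, pow_mul, pow_two, trace_sq, ih, ← pow_two, ← pow_mul]

variable [Finite F]

/-- The symplectic group in the other coordinates. -/
noncomputable def toSymp : Sp4 F →* Matrix.symplecticGroup (Fin 2) F where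
  toFun g := ⟨((tr4 F).symm g.1).1, by
    have hg' : (tr4 F).symm g.1 ∈ Cfsg.spGL 2 F := (mem_Sp4_tr4 _).1 (by rw [MulEquiv.apply_symm_apply]; exact g.2)
    rw [SymplecticGroup.mem_iff']
    ext i j
    have h1 : Cfsg.sympForm 2 F (((tr4 F).symm g.1).1 *ᵥ Pi.single i 1) (((tr4 F).symm g.1).1 *ᵥ Pi.single j 1) =
        Cfsg.sympForm 2 F (Pi.single i 1) (Pi.single j 1) := hg' (Pi.single i 1) (Pi.single j 1)
    rw [Cfsg.sympForm, Cfsg.sympForm, ← Matrix.vecMul_transpose, ← Matrix.dotProduct_mulVec, Matrix.mulVec_mulVec,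
      Matrix.mulVec_mulVec] at h1
    simpa using h1⟩
  map_one' := Subtype.ext (by simp)
  map_mul' g h := Subtype.ext (by simp)

theorem toSymp_injective : Function.Injective (toSymp : Sp4 F → _) := fun g h e =>
  Subtype.ext ((tr4 F).symm.injective (Units.ext (congrArg Subtype.val e)))

theorem card_dvd {P : Subgroup G4} (hP : P ≤ Sp4 F) :
    Nat.card P ∣ Nat.card F ^ 4 * ((Nat.card F ^ 2 - 1) * (Nat.card F ^ 4 - 1)) := by
  haveI := Fintype.ofFinite F
  have h := Subgroup.card_dvd_of_injective (toSymp.comp (Subgroup.inclusion hP))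
    (toSymp_injective.comp (Subgroup.inclusion_injective hP))
  rwa [Cfsg.Agent.S0245.result rfl 2, Finset.prod_range_succ, Finset.prod_range_one, ← Nat.card_eq_fintype_card] at h

variable {P : Subgroup (Matrix.GeneralLinearGroup (Fin 4) F)}

/-- The field of a Suzuki socle is the field of definition. -/
theorem Core.card_of_suzuki (hP : Core P) {K : Type} [Field K] [Fintype K] {m : ℕ} (hm : 1 ≤ m)
    (hK : Fintype.card K = 2 ^ (2 * m + 1))
    (hcard : Nat.card P = (2 ^ (2 * m + 1)) ^ 2 * ((2 ^ (2 * m + 1)) ^ 2 + 1) * (2 ^ (2 * m + 1) - 1))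
    (e : P ≃* ↥(Cfsg.Lie.Sz K (2 ^ (m + 1)))) : Nat.card F = 2 ^ (2 * m + 1) := by
  classical
  haveI : Fact (Nat.Prime 2) := ⟨Nat.prime_two⟩
  set n := 2 * m + 1 with hn
  have htr : ∀ g ∈ P, g.1.trace ^ 2 ^ n = g.1.trace := by
    intro g hg
    rcases pow_four_or_isConj hK hm ((CfsgLib.Suzuki.lieEquiv hK hm).symm (e ⟨g, hg⟩)) with h | h
    · have h' : (⟨g, hg⟩ : P) ^ 4 = 1 := by
        apply ((e.trans (CfsgLib.Suzuki.lieEquiv hK hm).symm)).injective
        rw [map_pow, map_one]; exact h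
      rw [trace_of_pow_four (congrArg Subtype.val h'), zero_pow (by positivity)]
    · rw [hK] at h
      obtain ⟨c, hc⟩ := isConj_iff.1 h
      set ψ := (e.trans (CfsgLib.Suzuki.lieEquiv hK hm).symm).symm
      have h' : (ψ c).1 * g * ((ψ c).1)⁻¹ = g ^ 2 ^ n := by
        have := congrArg (fun z => (ψ z).1) hc
        simp only [map_mul, map_inv, map_pow] at this
        have e0 : ψ ((CfsgLib.Suzuki.lieEquiv hK hm).symm (e ⟨g, hg⟩)) = ⟨g, hg⟩ :=
          (e.trans (CfsgLib.Suzuki.lieEquiv hK hm).symm).symm_apply_apply ⟨g, hg⟩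
        rw [e0] at this
        exact this
      rw [← trace_two_pow, ← Units.val_pow_eq_pow_val, ← h', trace_eq_of_charpoly (charpoly_conj_eq _ _)]
  haveI := Fintype.ofFinite F
  obtain ⟨a, hprime, ha⟩ := FiniteField.card F 2
  have hall : ∀ x : F, x ^ 2 ^ n = x := by
    let F₀ : Subfield F := (iterateFrobenius F 2 n).eqLocusField (RingHom.id F)
    have hmem : ∀ x : F, x ∈ F₀ ↔ x ^ 2 ^ n = x := fun x => Iff.rfl
    by_cases h : F₀ = ⊤
    · exact fun x => (hmem x).1 (h ▸ trivial)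
    · obtain ⟨g, hg, hg'⟩ := hP.exists_trace h
      exact absurd ((hmem _).2 (htr g hg)) hg'
  obtain ⟨u, hu⟩ := IsCyclic.exists_ofOrder_eq_natCard (α := Fˣ)
  rw [Nat.card_units, Nat.card_eq_fintype_card, ha] at hu
  have hd : 2 ^ (a : ℕ) - 1 ∣ 2 ^ n - 1 := by
    rw [← hu]
    refine orderOf_dvd_of_pow_eq_one (mul_left_cancel (a := u) ?_)
    rw [← pow_succ', Nat.sub_add_cancel Nat.one_le_two_pow, mul_one]
    exact Units.ext (by rw [Units.val_pow_eq_pow_val]; exact hall _)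
  have han : (a : ℕ) ∣ n := by
    have h1 : Nat.gcd (2 ^ (a : ℕ) - 1) (2 ^ n - 1) = 2 ^ Nat.gcd a n - 1 := Nat.pow_sub_one_gcd_pow_sub_one 2 a n
    rw [Nat.gcd_eq_left hd] at h1
    have h2 : 2 ^ (a : ℕ) = 2 ^ Nat.gcd a n := by
      have := Nat.one_le_two_pow (n := (a : ℕ))
      have := Nat.one_le_two_pow (n := Nat.gcd a n)
      omega
    exact Nat.pow_right_injective le_rfl h2 ▸ Nat.gcd_dvd_right _ _
  have hdvd := card_dvd hP.le
  rw [hcard, Nat.card_eq_fintype_card, ha] at hdvd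
  rw [Nat.card_eq_fintype_card, ha]
  obtain ⟨c, hc⟩ := han
  by_contra hne
  have hc1 : c ≠ 1 := fun h => hne (by rw [hn] at hc ⊢; rw [h, mul_one] at hc; rw [hc])
  have hc3 : 3 ≤ c := by
    rcases c with _ | _ | _ | c
    · omega
    · exact absurd rfl hc1
    · omega
    · omega
  have hodd : ∀ j : ℕ, 0 < j → Nat.Coprime 2 (2 ^ j - 1) := fun j hj => by
    rw [Nat.coprime_two_left, Nat.odd_iff]
    obtain ⟨i, rfl⟩ : ∃ i, j = i + 1 := ⟨j - 1, by omega⟩
    have := Nat.one_le_two_pow (n := i)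
    rw [pow_succ]; omega
  have ha0 := a.pos
  have h2 : (2 : ℕ) ^ (2 * n) ∣ 2 ^ (4 * (a : ℕ)) := by
    have h3 := (Dvd.intro _ (mul_assoc _ _ _).symm).trans hdvd
    rw [← pow_mul, ← pow_mul, ← pow_mul, mul_comm n 2, mul_comm (a : ℕ) 4] at h3
    refine Nat.Coprime.dvd_of_dvd_mul_right ?_ h3
    exact (Nat.Coprime.mul_right (hodd _ (by omega)) (hodd _ (by omega))).pow_left _
  have h4 := (Nat.pow_dvd_pow_iff_le_right (by norm_num : 1 < 2)).1 h2
  have : 3 * (a : ℕ) ≤ n := by rw [hc, mul_comm]; exact Nat.mul_le_mul_left _ hc3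
  omega

theorem Core.suz_case (hP : Core P) (hC : CfsgLib.CIT.IsCIT P) (hTI : CfsgLib.CIT.IsTI P)
    (hS : CfsgLib.CIT.SuzType P) [Fintype F] :
    ∃ m : ℕ, 1 ≤ m ∧ Fintype.card F = 2 ^ (2 * m + 1) ∧ Nonempty (P ≃* ↥(Cfsg.Lie.Sz F (2 ^ (m + 1)))) := by
  haveI := hP.simple
  have hna : ∃ a b : P, a * b ≠ b * a := by
    by_contra h
    push Not at h
    exact hP.nonabelian ⟨⟨h⟩⟩
  obtain ⟨K, iK, iKt, m, hm, hK, hcard, ⟨e⟩⟩ := CfsgLib.SuzukiUnique.exists_equiv_of_suzType hna hC hTI hS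
  have hF : Fintype.card F = 2 ^ (2 * m + 1) := by
    rw [← Nat.card_eq_fintype_card]; exact hP.card_of_suzuki hm hK hcard e
  obtain ⟨e'⟩ := CfsgLib.SuzukiUnique.nonempty_lie_congr hm hF hK
  exact ⟨m, hm, hF, ⟨e.trans e'⟩⟩

end CfsgLib.Sp4Even
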