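import Cfsg.Agent.Lib.Sp4Even.Lin
import Cfsg.Agent.Lib.Sp4Even.Suz
import Cfsg.Agent.Lib.Sp4Even.SmallGroups
import Cfsg.Agent.Lib.CIT.Main

/-!
The socle of a maximal subgroup of residual type of the four-dimensional symplectic group in even characteristic.
-/

set_option autoImplicit false

namespace CfsgLib.Sp4Even

open Matrix Cfsg.Lie

variable {F : Type*} [Field F]

local notation "S4" => (Fin 2 ⊕ Fin 2)

theorem tr4_val (g : GL S4 F) : (tr4 F g).1 = g.1.submatrix idx.symm idx.symm := rfl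

theorem absIrr_map {P : Subgroup (GL S4 F)}
    (h : Cfsg.Geo.ActsAbsolutelyIrreducibly (Cfsg.Geo.matrixSet P)) :
    Cfsg.Geo.ActsAbsolutelyIrreducibly (Cfsg.Geo.matrixSet (P.map (tr4 F).toMonoidHom)) := by
  refine ⟨CfsgLib.Aschbacher.irr_iff.2 fun W hW => ?_, fun M hM => ?_⟩
  · let L : (S4 → F) ≃ₗ[F] (Fin 4 → F) := LinearEquiv.funCongrLeft F F idx.symm
    have hL : ∀ u, L u = u ∘ idx.symm := fun _ => rfl
    rcases CfsgLib.Aschbacher.irr_iff.1 h.1 (W.comap L.toLinearMap) (fun g hg u hu => by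
        have := hW _ ⟨g, hg, rfl⟩ _ hu
        have e : (tr4 F g).1 *ᵥ L u = L (g.1 *ᵥ u) := by rw [tr4_mulVec, hL, hL, idx_symm_comp]
        exact (e ▸ this : L (g.1 *ᵥ u) ∈ W)) with hb | hb
    · left
      rw [Submodule.eq_bot_iff] at hb ⊢
      intro x hx
      have := hb (L.symm x) (by simpa using hx)
      simpa using congrArg L this
    · right
      rw [Submodule.eq_top_iff']
      intro x
      have := (Submodule.eq_top_iff'.1 hb) (L.symm x)
      simpa using this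
  · obtain ⟨c, hc⟩ := h.2 (M.submatrix idx idx) (by
      rintro _ ⟨g, hg, rfl⟩
      have e := congrArg (fun A : Matrix (Fin 4) (Fin 4) F => A.submatrix idx idx)
        (hM _ ⟨_, ⟨g, hg, rfl⟩, rfl⟩)
      simp only [MulEquiv.coe_toMonoidHom, tr4_val, ← Matrix.submatrix_mul_equiv _ _ _ idx _,
        Matrix.submatrix_submatrix, Equiv.symm_comp_self, Matrix.submatrix_id_id] at e
      exact e)
    refine ⟨c, ?_⟩
    have := congrArg (fun A : Matrix S4 S4 F => A.submatrix idx.symm idx.symm) hc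
    simpa [Matrix.submatrix_submatrix, Matrix.submatrix_smul] using this

theorem realisable_of_map {P : Subgroup (GL S4 F)} {F₀ : Subfield F}
    (h : Cfsg.Geo.RealisableOver F₀ (Cfsg.Geo.matrixSet (P.map (tr4 F).toMonoidHom))) :
    Cfsg.Geo.RealisableOver F₀ (Cfsg.Geo.matrixSet P) := by
  obtain ⟨B, hB⟩ := h
  refine ⟨(tr4 F).symm B, ?_⟩
  rintro _ ⟨g, hg, rfl⟩ i j
  have e : tr4 F ((tr4 F).symm B * g * ((tr4 F).symm B)⁻¹) = B * tr4 F g * B⁻¹ := by
    rw [map_mul, map_mul, map_inv, MulEquiv.apply_symm_apply]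
  have := hB _ ⟨_, ⟨g, hg, rfl⟩, rfl⟩ (idx i) (idx j)
  rw [← Units.val_mul, ← Units.val_mul] at this ⊢
  change (B * tr4 F g * B⁻¹).1 (idx i) (idx j) ∈ F₀ at this
  rw [← e, tr4_val] at this
  simpa using this

/-- The maximal subgroups of residual type are normalisers of Suzuki groups. -/
theorem residual_socle [Fintype F] (heven : ¬ Odd (Fintype.card F)) (h4 : 4 ≤ Fintype.card F)
    (H : Subgroup (GL S4 F)) (hH : Cfsg.Geo.IsMaximalIn (Cfsg.spGL 2 F) H)
    (hS : Cfsg.Geo.InSymplecticResidualClass H) :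
    ∃ (P : Subgroup (GL S4 F)) (m : ℕ), Cfsg.Geo.IsResidualCore H P ∧ 1 ≤ m ∧
      Fintype.card F = 2 ^ (2 * m + 1) ∧
      Nonempty ((P ⧸ (Cfsg.Geo.scalars S4 F).subgroupOf P) ≃* Cfsg.Lie.Sz F (2 ^ (m + 1))) := by
  classical
  haveI : CharP F 2 := by
    refine ringChar.eq_iff.1 ?_
    by_contra h
    exact heven (Nat.odd_iff.2 (FiniteField.odd_card_of_char_ne_two h))
  obtain ⟨P, hP, hQ, -⟩ := hS
  have hle : P ≤ Cfsg.spGL 2 F := hP.le.trans hH.1.le
  have hbot : (Cfsg.Geo.scalars S4 F).subgroupOf P = ⊥ := by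
    rw [Subgroup.eq_bot_iff_forall]
    intro g hg
    obtain ⟨c, hc⟩ : ∃ c : Fˣ, g.1.1 = (c : F) • (1 : Matrix S4 S4 F) := (Cfsg.Geo.mem_scalars_iff _).1 hg
    have h1 := hle g.2 (Pi.single (Sum.inl 0) 1) (Pi.single (Sum.inr 0) 1)
    change Cfsg.sympForm 2 F (g.1.1 *ᵥ _) (g.1.1 *ᵥ _) = _ at h1
    rw [hc] at h1
    simp [Cfsg.sympForm, Matrix.J, Matrix.fromBlocks, dotProduct, Matrix.mulVec, Fintype.sum_sum_type,
      Fin.sum_univ_two, Matrix.one_apply, CharTwo.neg_eq] at h1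
    have hc1 : (c : F) = 1 := by
      have : ((c : F) - 1) * ((c : F) - 1) = 0 := by
        linear_combination h1 + (1 - (c : F)) * (CharTwo.two_eq_zero : (2 : F) = 0)
      exact sub_eq_zero.1 (mul_self_eq_zero.1 this)
    exact Subtype.ext (Units.ext (by rw [hc, hc1, one_smul]; rfl))
  let eP : P ≃* P.map (tr4 F).toMonoidHom := P.equivMapOfInjective _ (tr4 F).injective
  let eZ : (P ⧸ (Cfsg.Geo.scalars S4 F).subgroupOf P) ≃* P :=
    (QuotientGroup.quotientMulEquivOfEq hbot).trans QuotientGroup.quotientBot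
  have hsimple : IsSimpleGroup (P.map (tr4 F).toMonoidHom) := by
    haveI := hP.simple
    haveI : Nontrivial (P.map (tr4 F).toMonoidHom) := (eZ.trans eP).symm.toEquiv.nontrivial
    exact IsSimpleGroup.isSimpleGroup_of_surjective (eZ.trans eP).toMonoidHom (eZ.trans eP).surjective
  have hcore : Core (P.map (tr4 F).toMonoidHom) :=
    { le := by rw [← map_spGL]; exact Subgroup.map_mono hle
      simple := hsimple
      nonabelian := fun h => hP.nonabelian ⟨⟨fun a b => (eZ.trans eP).injective (by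
        rw [map_mul, map_mul]; exact h.is_comm.comm _ _)⟩⟩
      absIrr := absIrr_map hP.absIrred
      noSub := fun F₀ h0 h => hP.no_subfield F₀ h0 (realisable_of_map h)
      proper := fun h => by
        rw [← map_spGL] at h
        have := Subgroup.map_injective (tr4 F).injective h
        exact not_le_of_gt hH.1 (this ▸ hP.le) }
  have noQ : ¬ ∃ Q : (Fin 4 → F) → F, (∀ (k : F) (v : Fin 4 → F), Q (k • v) = k ^ 2 * Q v) ∧
      (∀ u v, QuadraticMap.polar Q u v = altForm4 u v) ∧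
      ∀ g ∈ P.map (tr4 F).toMonoidHom, ∀ v, Q (g.1 *ᵥ v) = Q v := by
    rintro ⟨Q, hsm, hpol, hfix⟩
    have hp : ∀ u v : S4 → F, QuadraticMap.polar (fun w => Q (w ∘ idx.symm)) u v =
        altForm4 (u ∘ idx.symm) (v ∘ idx.symm) := fun u v => hpol _ _
    have hnd : ∀ v : S4 → F, v ≠ 0 → ∃ x, altForm4 (x ∘ idx.symm) (v ∘ idx.symm) ≠ 0 := by
      intro v hv
      obtain ⟨w, hw⟩ := exists_f_ne (v := v ∘ idx.symm) (fun e => hv (by
        funext i; simpa using congrFun e (idx i)))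
      exact ⟨w ∘ idx, by rwa [idx_comp]⟩
    refine hQ ⟨fun w => Q (w ∘ idx.symm), ⟨fun c v => hsm c _, ⟨fun x y v => ?_, fun c x v => ?_,
      fun v x y => ?_, fun c v x => ?_⟩, fun v hv => ⟨?_, ?_⟩⟩, ?_⟩
    · rw [hp, hp, hp]; exact f_add_left _ _ _
    · rw [hp, hp]; exact f_smul_left _ _ _
    · rw [hp, hp, hp]; exact f_add_right _ _ _
    · rw [hp, hp]; exact f_smul_right _ _ _
    · obtain ⟨x, hx⟩ := hnd v hv
      exact ⟨x, by rwa [hp]⟩
    · obtain ⟨x, hx⟩ := hnd v hv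
      exact ⟨x, by rwa [hp, f_comm]⟩
    · rintro _ ⟨g, hg, rfl⟩ v
      have := hfix _ ⟨g, hg, rfl⟩ (v ∘ idx.symm)
      rw [MulEquiv.coe_toMonoidHom, tr4_mulVec, idx_symm_comp] at this
      exact this
  haveI := hcore.simple
  have h4' : 4 ≤ Nat.card F := by rwa [Nat.card_eq_fintype_card]
  have hna : ∃ a b : P.map (tr4 F).toMonoidHom, a * b ≠ b * a := by
    by_contra h
    push Not at h
    exact hcore.nonabelian ⟨⟨h⟩⟩
  have hcit := hcore.isCIT h4'
  rcases CfsgLib.CIT.classification hna hcit with ⟨hTI, hl | hs⟩ | ho | h34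
  · exact absurd hl (hcore.not_lin h4' noQ)
  · obtain ⟨m, hm, hF, ⟨e⟩⟩ := hcore.suz_case hcit hTI hs
    exact ⟨P, m, hP, hm, hF, ⟨(eZ.trans eP).trans e⟩⟩
  · exact absurd ho (hcore.not_oddLin h4')
  · exact absurd h34 hcore.not_L34

end CfsgLib.Sp4Even
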