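import Cfsg.Agent.Lib.Sp4Even.Small

/-!
Two transvection vectors that do not commute have a common neighbour.
-/

set_option autoImplicit false

namespace CfsgLib.Sp4Even

open Matrix Cfsg.Lie

variable {F : Type*} [Field F] [CharP F 2] [Fintype F]

local notation "V" => (Fin 4 → F)
local notation "G4" => Matrix.GeneralLinearGroup (Fin 4) F

variable {P : Subgroup (Matrix.GeneralLinearGroup (Fin 4) F)}

/-- Without common neighbour, all neighbours of `a` have the same product with `d`. -/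
theorem nb_value (hP : Base P) (hU : Uniq P) {a d b : V} (ha : a ∈ Dv P) (hd : d ∈ Dv P) (hc : altForm4 d a ≠ 0)
    (hno : ∀ h ∈ Dv P, altForm4 a h = 0 → altForm4 d h ≠ 0) (hb : Nb P a b) :
    altForm4 d b = altForm4 d a := by
  by_contra hne
  obtain ⟨h, hh, hha, -, hdh⟩ := exists_kill hP hU ha hb hd hc (Ne.symm hne)
  exact hno h hh (by rw [f_comm]; exact hha) hdh

/-- Every transvection vector has two neighbours with non-zero product. -/
theorem exists_two_nb (hP : Base P) (hU : Uniq P) {a : V} (ha : a ∈ Dv P) :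
    ∃ b b', Nb P a b ∧ Nb P a b' ∧ altForm4 b b' ≠ 0 := by
  by_contra h
  push Not at h
  have hall : ∀ x ∈ Dv P, ∀ y z, Nb P x y → Nb P x z → altForm4 y z = 0 := by
    intro x hx y z hy hz
    obtain ⟨g, hg, rfl⟩ := exists_conj hP ha hx
    have hgi : (g⁻¹ : G4) ∈ P := P.inv_mem hg
    have back : ∀ t, Nb P (g.1 *ᵥ a) t → Nb P a ((g⁻¹).1 *ᵥ t) := fun t ht => by
      refine ⟨Dv.map hP ht.1 hgi, ?_, fun e => ht.2.2 ?_⟩
      · rw [← f_map (hP.le hg), Matrix.mulVec_mulVec (M := g.1), ← Units.val_mul, mul_inv_cancel, Units.val_one,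
          Matrix.one_mulVec]
        exact ht.2.1
      · rw [← e, Matrix.mulVec_mulVec, ← Units.val_mul, mul_inv_cancel, Units.val_one, Matrix.one_mulVec]
    have := h _ _ (back y hy) (back z hz)
    rwa [f_map (hP.le hgi)] at this
  obtain ⟨b, hb⟩ := exists_nb hP ha
  have hne : a + b ≠ 0 := fun e => hb.2.2 (CharTwo.add_eq_zero.1 e).symm
  refine hne (hP.eq_zero_of_perp ha fun d hd => ?_)
  rw [f_add_left, f_comm a, f_comm b]
  by_cases hc : altForm4 d a = 0
  · rw [hc, zero_add]
    by_cases he : d = a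
    · subst he; exact hb.2.1
    exact hall a ha d b ⟨hd, by rw [f_comm]; exact hc, he⟩ hb
  · by_cases hno : ∀ h ∈ Dv P, altForm4 a h = 0 → altForm4 d h ≠ 0
    · rw [nb_value hP hU ha hd hc hno hb, CharTwo.add_self_eq_zero]
    · push Not at hno
      obtain ⟨h, hh, hah, hdh⟩ := hno
      refine absurd ?_ hc
      rw [f_comm]
      exact hall h hh a d ⟨ha, by rw [f_comm]; exact hah, fun e => hc (by rw [e]; exact hdh)⟩
        ⟨hd, by rw [f_comm]; exact hdh, fun e => hc (by rw [e, f_comm]; exact hah)⟩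

theorem common_nb (hP : Base P) (hU : Uniq P) {a d : V} (ha : a ∈ Dv P) (hd : d ∈ Dv P) (hc : altForm4 a d ≠ 0) :
    ∃ b, Nb P a b ∧ Nb P d b := by
  have hc' : altForm4 d a ≠ 0 := by rwa [f_comm]
  by_contra h
  push Not at h
  have hno : ∀ x ∈ Dv P, altForm4 a x = 0 → altForm4 d x ≠ 0 := by
    intro x hx hax hdx
    exact h x ⟨hx, hax, fun e => hc' (by rw [← e]; exact hdx)⟩ ⟨hx, hdx, fun e => hc (by rw [← e]; exact hax)⟩
  obtain ⟨b, b', hb, hb', hbb⟩ := exists_two_nb hP hU ha
  have hnew : Nb P a (b' + altForm4 b' b • b) := by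
    refine ⟨Dv.refl hP hb.1 hb'.1, by rw [f_add_right, f_smul_right, hb.2.1, hb'.2.1]; simp, fun e => hbb ?_⟩
    have := congrArg (fun t => altForm4 b t) e
    simpa [f_add_right, f_smul_right, f_comm b a, hb.2.1] using this
  have := nb_value hP hU ha hd hc' hno hnew
  rw [f_add_right, f_smul_right, nb_value hP hU ha hd hc' hno hb, nb_value hP hU ha hd hc' hno hb', add_eq_left] at this
  exact mul_ne_zero (by rwa [f_comm]) hc' this

end CfsgLib.Sp4Even
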