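import Mathlib

/-!
An involution moving every coset of a subgroup of index twice an odd number gives an index two kernel.
-/

set_option autoImplicit false

namespace CfsgLib.Sp4Even

/-- A non-abelian simple group has no such involution. -/
theorem false_of_fpf {G : Type*} [Group G] [Finite G] [IsSimpleGroup G] (hna : ¬ IsMulCommutative G) {t : G}
    (ht : t * t = 1) (M : Subgroup G) {n : ℕ} (hn : Odd n) (hM : M.index = 2 * n)
    (hfree : ∀ g : G, g⁻¹ * t * g ∉ M) : False := by
  classical
  haveI : Fintype (G ⧸ M) := Fintype.ofFinite _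
  let ψ : G →* ℤˣ := Equiv.Perm.sign.comp (MulAction.toPermHom G (G ⧸ M))
  set σ := MulAction.toPermHom G (G ⧸ M) t with hσ
  have hfix : ∀ q, σ q ≠ q := by
    intro q
    obtain ⟨g, rfl⟩ := QuotientGroup.mk_surjective q
    intro e
    refine hfree g ?_
    have e' : ((t * g : G) : G ⧸ M) = (g : G ⧸ M) := e
    have := QuotientGroup.eq.1 e'.symm
    rwa [← mul_assoc] at this
  have hcard : Fintype.card (G ⧸ M) = 2 * n := by rw [← Nat.card_eq_fintype_card]; exact hM
  have hne : σ ≠ 1 := fun e => by
    have : Nonempty (G ⧸ M) := ⟨(1 : G)⟩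
    obtain ⟨q⟩ := this
    exact hfix q (by rw [e]; rfl)
  have hord : orderOf σ = 2 := orderOf_eq_prime (by rw [hσ, ← map_pow, sq, ht, map_one]) hne
  obtain ⟨m, hm⟩ := Equiv.Perm.cycleType_prime_order (σ := σ) (by rw [hord]; exact Nat.prime_two)
  rw [hord] at hm
  have hsupp : σ.support = Finset.univ := Finset.eq_univ_iff_forall.2 fun q => Equiv.Perm.mem_support.2 (hfix q)
  have hsum := σ.sum_cycleType
  rw [hm, hsupp, Finset.card_univ, hcard, Multiset.sum_replicate, smul_eq_mul] at hsum
  have hψ : ψ t = -1 := by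
    show Equiv.Perm.sign σ = -1
    rw [Equiv.Perm.sign_of_cycleType, hm, Multiset.sum_replicate, Multiset.card_replicate, smul_eq_mul]
    have hmn : m + 1 = n := by omega
    rw [hmn, pow_add, mul_comm n 2, pow_mul, neg_one_sq, one_pow, one_mul, hn.neg_one_pow]
  rcases Subgroup.Normal.eq_bot_or_eq_top (inferInstance : ψ.ker.Normal) with h | h
  · refine hna ⟨⟨fun a b => ?_⟩⟩
    refine (MonoidHom.ker_eq_bot_iff ψ).1 h ?_
    rw [map_mul, map_mul, mul_comm]
  · have : t ∈ ψ.ker := by rw [h]; exact Subgroup.mem_top _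
    rw [MonoidHom.mem_ker, hψ] at this
    exact absurd this (by decide)

end CfsgLib.Sp4Even
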