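import Cfsg.Agent.Lib.Sp4Even.Basic
import Cfsg.Agent.Lib.MaxSub.ResThree.Tv.Pair

/-!
Two transvection vectors with non-zero product together with a proper multiple of one of them give a subfield.
-/

set_option autoImplicit false
set_option maxHeartbeats 800000

namespace CfsgLib.Sp4Even

open Matrix Cfsg.Lie CfsgLib.Dickson

variable {F : Type*} [Field F] [CharP F 2]

local notation "V" => (Fin 4 → F)
local notation "G4" => Matrix.GeneralLinearGroup (Fin 4) F

/-- Some translate of `x` along `a` is a transvection vector. -/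
def InD (P : Subgroup G4) (a x : V) : Prop := ∃ t : F, x + t • a ∈ Dv P

variable {P : Subgroup (Matrix.GeneralLinearGroup (Fin 4) F)}

theorem InD.refl (hP : Base P) {a x y : V} (hx : InD P a x) (hy : InD P a y) (hax : altForm4 a x = 0)
    (hay : altForm4 a y = 0) : InD P a (y + altForm4 y x • x) := by
  obtain ⟨s, hs⟩ := hx
  obtain ⟨t, ht⟩ := hy
  have h := Dv.refl hP hs ht
  have e : altForm4 (y + t • a) (x + s • a) = altForm4 y x := by
    simp [f_add_left, f_add_right, f_smul_left, f_smul_right, hax, hay, f_comm y a]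
  rw [e] at h
  refine ⟨t + altForm4 y x * s, ?_⟩
  convert h using 1
  module

variable [Fintype F]

theorem plane_field_gen (hP : Base P) {a u v : V} (hau : altForm4 a u = 0) (hav : altForm4 a v = 0)
    (hc : altForm4 u v ≠ 0) (hu : InD P a u) (hv : InD P a v)
    {t0 : F} (ht0 : t0 ≠ 0) (ht1 : t0 ≠ altForm4 u v)
    (hmove : ∀ r s : F, InD P a ((r + t0 * s) • u + s • v) ↔ InD P a (r • u + s • v)) :
    ∃ K : Subfield F, 2 < Nat.card K ∧ altForm4 u v ∈ K ∧
      (∀ m : F, InD P a (m • u) → m ∈ K) ∧ (∀ m : F, InD P a (m • v) → m ∈ K) ∧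
      (∀ r s : F, r ∈ K → s ∈ K → (r ≠ 0 ∨ s ≠ 0) → InD P a (r • u + s • v)) := by
  classical
  haveI : Fact (Nat.Prime 2) := ⟨Nat.prime_two⟩
  set c := altForm4 u v with hcdef
  let S : Set (Fin 2 → F) := {x | InD P a (x 0 • u + x 1 • v)}
  let G : Subgroup (Matrix.SpecialLinearGroup (Fin 2) F) :=
    { carrier := {g | ∀ x, g.1 *ᵥ x ∈ S ↔ x ∈ S}
      one_mem' := fun x => by simp
      mul_mem' := fun {g h} hg hh x => by
        rw [Matrix.SpecialLinearGroup.coe_mul, ← Matrix.mulVec_mulVec, hg, hh]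
      inv_mem' := fun {g} hg x => by
        have := hg ((g⁻¹).1 *ᵥ x)
        rw [Matrix.mulVec_mulVec, ← Matrix.SpecialLinearGroup.coe_mul, mul_inv_cancel,
          Matrix.SpecialLinearGroup.coe_one, Matrix.one_mulVec] at this
        exact this.symm }
  have h2 : (2 : F) = 0 := CharTwo.two_eq_zero
  have hperp : ∀ p q : F, altForm4 a (p • u + q • v) = 0 := fun p q => by
    simp [f_add_right, f_smul_right, hau, hav]
  have hS : ∀ x : Fin 2 → F, x ∈ S ↔ InD P a (x 0 • u + x 1 • v) := fun x => Iff.rfl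
  have huv : altForm4 v u = c := f_comm v u
  have hup : ∀ m : F, InD P a (m • u) → up (c * m ^ 2) ∈ G := by
    intro m hm
    have step : ∀ x, x ∈ S → (up (c * m ^ 2)).1 *ᵥ x ∈ S := by
      intro x hx
      have h := InD.refl hP hm ((hS x).1 hx) (by simp [f_smul_right, hau]) (hperp _ _)
      rw [hS]
      have e : ((up (c * m ^ 2)).1 *ᵥ x) 0 = x 0 + c * m ^ 2 * x 1 ∧ ((up (c * m ^ 2)).1 *ᵥ x) 1 = x 1 := by
        constructor <;> simp [Matrix.mulVec, dotProduct, Fin.sum_univ_two]
      rw [e.1, e.2]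
      have e' : altForm4 (x 0 • u + x 1 • v) (m • u) = m * (x 1 * c) := by
        simp [f_add_left, f_smul_left, f_smul_right, huv]
      rw [e'] at h
      convert h using 1
      module
    intro x
    refine ⟨fun hx => ?_, step x⟩
    have := step _ hx
    rwa [Matrix.mulVec_mulVec, ← Matrix.SpecialLinearGroup.coe_mul, up_mul, CharTwo.add_self_eq_zero, up_zero,
      Matrix.SpecialLinearGroup.coe_one, Matrix.one_mulVec] at this
  have hlo : ∀ m : F, InD P a (m • v) → lo (c * m ^ 2) ∈ G := by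
    intro m hm
    have step : ∀ x, x ∈ S → (lo (c * m ^ 2)).1 *ᵥ x ∈ S := by
      intro x hx
      have h := InD.refl hP hm ((hS x).1 hx) (by simp [f_smul_right, hav]) (hperp _ _)
      rw [hS]
      have e : ((lo (c * m ^ 2)).1 *ᵥ x) 0 = x 0 ∧ ((lo (c * m ^ 2)).1 *ᵥ x) 1 = c * m ^ 2 * x 0 + x 1 := by
        constructor <;> simp [Matrix.mulVec, dotProduct, Fin.sum_univ_two]
      rw [e.1, e.2]
      have e' : altForm4 (x 0 • u + x 1 • v) (m • v) = m * (x 0 * c) := by
        simp [f_add_left, f_smul_left, f_smul_right, hcdef]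
      rw [e'] at h
      convert h using 1
      module
    intro x
    refine ⟨fun hx => ?_, step x⟩
    have := step _ hx
    rwa [Matrix.mulVec_mulVec, ← Matrix.SpecialLinearGroup.coe_mul, lo_mul, CharTwo.add_self_eq_zero,
      show lo (0 : F) = 1 from ext_entries (by simp) (by simp) (by simp) (by simp),
      Matrix.SpecialLinearGroup.coe_one, Matrix.one_mulVec] at this
  have hbG : up c ∈ G := by simpa using hup 1 (by simpa using hu)
  have hcG : lo c ∈ G := by simpa using hlo 1 (by simpa using hv)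
  have hsq : ∀ x y : F, x ^ 2 = y ^ 2 → x = y := fun x y e => frobenius_inj F 2 (by simpa [frobenius_def] using e)
  have h3 : 3 ≤ Nat.card (param G) := by
    have htG : up t0 ∈ G := fun x => by
      have e : ((up t0).1 *ᵥ x) 0 = x 0 + t0 * x 1 ∧ ((up t0).1 *ᵥ x) 1 = x 1 := by
        constructor <;> simp [Matrix.mulVec, dotProduct, Fin.sum_univ_two]
      rw [hS, hS, e.1, e.2]
      exact hmove _ _
    let e : Fin 3 → param G := ![⟨0, (param G).zero_mem⟩, ⟨c, hbG⟩, ⟨t0, htG⟩]
    have he : Function.Injective e := by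
      intro i j h
      have hv' : (e i : F) = (e j : F) := congrArg Subtype.val h
      fin_cases i <;> fin_cases j <;> first
        | rfl
        | exact absurd hv' ht1
        | exact absurd hv'.symm ht1
        | exact absurd hv' hc
        | exact absurd hv'.symm hc
        | exact absurd hv' ht0
        | exact absurd hv'.symm ht0
    simpa using Nat.card_le_card_of_injective e he
  obtain ⟨K, hK, hKu, hKl⟩ | ⟨h, -⟩ := CfsgLib.ResThree.Tv.pair_field 2 G hc hbG hc hcG h3
  swap
  · exact absurd h (by norm_num)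
  have hcc : c ∈ K := by
    refine (fun h => ?_ : c ^ 2 ∈ K → c ∈ K) (sq c ▸ (hKl c).1 hcG)
    -- squaring is onto on a finite field
    obtain ⟨⟨r, hr⟩, hr'⟩ := (Finite.injective_iff_surjective (f := fun r : K => r ^ 2)).1
      (fun x y e => Subtype.ext (hsq _ _ (congrArg Subtype.val e))) ⟨c ^ 2, h⟩
    rw [← hsq r c (congrArg Subtype.val hr')]
    exact hr
  have hroot : ∀ x : F, x ^ 2 ∈ K → x ∈ K := by
    intro x h
    obtain ⟨⟨r, hr⟩, hr'⟩ := (Finite.injective_iff_surjective (f := fun r : K => r ^ 2)).1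
      (fun x y e => Subtype.ext (hsq _ _ (congrArg Subtype.val e))) ⟨x ^ 2, h⟩
    rw [← hsq r x (congrArg Subtype.val hr')]
    exact hr
  have hupK : ∀ t ∈ K, up t ∈ G := fun t ht => (hKu t).2 (K.div_mem ht hcc)
  have hloK : ∀ t ∈ K, lo t ∈ G := fun t ht => (hKl t).2 (K.mul_mem ht hcc)
  have h10 : (![1, 0] : Fin 2 → F) ∈ S := by rw [hS]; simpa using hu
  have h01 : (![0, 1] : Fin 2 → F) ∈ S := by rw [hS]; simpa using hv
  have happ : ∀ (g : Matrix.SpecialLinearGroup (Fin 2) F), g ∈ G → ∀ x ∈ S, g.1 *ᵥ x ∈ S := fun g hg x hx =>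
    (hg x).2 hx
  -- every non-zero vector over the subfield
  have hall : ∀ r s : F, r ∈ K → s ∈ K → s ≠ 0 → (![r, s] : Fin 2 → F) ∈ S := by
    intro r s hr hs hs0
    have h := happ _ (hupK ((r - 1) / s) (K.div_mem (K.sub_mem hr K.one_mem) hs)) _ (happ _ (hloK s hs) _ h10)
    convert h using 1
    ext i
    fin_cases i <;> simp [Matrix.mulVec, dotProduct, Fin.sum_univ_two, hs0]
  have hall' : ∀ r s : F, r ∈ K → s ∈ K → (r ≠ 0 ∨ s ≠ 0) → InD P a (r • u + s • v) := by
    intro r s hr hs h
    by_cases hs0 : s = 0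
    · have hr0 : r ≠ 0 := h.resolve_right (fun e => e hs0)
      have h' := happ _ (hloK r⁻¹ (K.inv_mem hr)) _ (hall r 1 hr K.one_mem one_ne_zero)
      have e : r⁻¹ * r + 1 = 0 := by rw [inv_mul_cancel₀ hr0, CharTwo.add_self_eq_zero]
      have e0 : (lo r⁻¹).1 *ᵥ (![r, 1] : Fin 2 → F) = ![r, 0] := by
        ext i
        fin_cases i <;> simp [Matrix.mulVec, dotProduct, Fin.sum_univ_two, e]
      rw [e0] at h'
      simpa [hS, hs0] using h'
    · simpa [hS] using hall r s hr hs hs0
  refine ⟨K, by rw [hK]; omega, hcc, fun m hm => hroot m ?_, fun m hm => hroot m ?_, hall'⟩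
  · have := (hKu _).1 (hup m hm)
    rwa [mul_comm, mul_div_assoc, div_self hc, mul_one] at this
  · have h1 := (hKl _).1 (hlo m hm)
    have h2' := K.div_mem h1 (K.mul_mem hcc hcc)
    convert h2' using 1
    field_simp

theorem plane_field (hP : Base P) {a u v : V} (hau : altForm4 a u = 0) (hav : altForm4 a v = 0)
    (hc : altForm4 u v ≠ 0) (hu : InD P a u) (hv : InD P a v)
    {l : F} (hl0 : l ≠ 0) (hl1 : l ≠ 1) (hl : InD P a (l • u)) :
    ∃ K : Subfield F, 2 < Nat.card K ∧ altForm4 u v ∈ K ∧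
      (∀ m : F, InD P a (m • u) → m ∈ K) ∧ (∀ m : F, InD P a (m • v) → m ∈ K) ∧
      (∀ r s : F, r ∈ K → s ∈ K → (r ≠ 0 ∨ s ≠ 0) → InD P a (r • u + s • v)) := by
  refine plane_field_gen hP hau hav hc hu hv (t0 := altForm4 u v * l ^ 2) (mul_ne_zero hc (pow_ne_zero _ hl0))
    (fun e => hl1 ?_) ?_
  · have : (l - 1) * (l - 1) = 0 := by
      have h2 : (2 : F) = 0 := CharTwo.two_eq_zero
      have e' : l ^ 2 = 1 := mul_left_cancel₀ hc (by rw [mul_one]; exact e)
      linear_combination e' + (1 - l) * h2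
    exact sub_eq_zero.1 (mul_self_eq_zero.1 this)
  · have step : ∀ r s : F, InD P a (r • u + s • v) → InD P a ((r + altForm4 u v * l ^ 2 * s) • u + s • v) := by
      intro r s h
      have h' := InD.refl hP hl h (by simp [f_smul_right, hau]) (by simp [f_add_right, f_smul_right, hau, hav])
      convert h' using 1
      simp [f_add_left, f_smul_left, f_smul_right, f_comm v u]
      module
    intro r s
    refine ⟨fun h => ?_, step r s⟩
    have := step _ s h
    rwa [add_assoc, CharTwo.add_self_eq_zero, add_zero] at this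

end CfsgLib.Sp4Even
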