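import Cfsg.Agent.Lib.Sp4Even.Plane

/-!
Rationality and connectedness of the transvection vectors.
-/

set_option autoImplicit false

namespace CfsgLib.Sp4Even

open Matrix Cfsg.Lie CfsgLib.Suzuki

variable {F : Type*} [Field F] [CharP F 2]

local notation "V" => (Fin 4 → F)
local notation "J4" => (CfsgLib.Suzuki.J : Matrix (Fin 4) (Fin 4) F)
local notation "M4" => Matrix (Fin 4) (Fin 4) F
local notation "G4" => Matrix.GeneralLinearGroup (Fin 4) F

variable {P : Subgroup (Matrix.GeneralLinearGroup (Fin 4) F)}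

/-- Generation by the conjugates of one transvection. -/
theorem Base.induction_conj (hP : Base P) {v : V} (hv : v ∈ Dv P) {p : G4 → Prop} (h1 : p 1)
    (hmul : ∀ a b, p a → p b → p (a * b)) (ht : ∀ g ∈ P, p (tv (g.1 *ᵥ v))) {g : G4} (hg : g ∈ P) : p g := by
  let D' : Set V := {u | ∃ k ∈ P, u = k.1 *ᵥ v}
  let C : Subgroup G4 := Subgroup.closure {x | ∃ u ∈ D', x = tv u}
  have hC : C ≤ P := by
    rw [Subgroup.closure_le]
    rintro _ ⟨u, ⟨k, hk, rfl⟩, rfl⟩
    exact (Dv.map hP hv hk).2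
  have hn : ∀ k ∈ P, ∀ x ∈ C, k * x * k⁻¹ ∈ C := by
    intro k hk x hx
    induction hx using Subgroup.closure_induction with
    | mem x hx =>
      obtain ⟨u, ⟨l, hl, rfl⟩, rfl⟩ := hx
      rw [tv_conj (hP.le hk)]
      exact Subgroup.subset_closure ⟨_, ⟨k * l, P.mul_mem hk hl, by rw [Units.val_mul, Matrix.mulVec_mulVec]⟩, rfl⟩
    | one => simp
    | mul x y _ _ hx hy =>
      have := C.mul_mem hx hy
      rwa [show k * x * k⁻¹ * (k * y * k⁻¹) = k * (x * y) * k⁻¹ by group] at this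
    | inv x _ hx =>
      have := C.inv_mem hx
      rwa [show (k * x * k⁻¹)⁻¹ = k * x⁻¹ * k⁻¹ by group] at this
  haveI : (C.subgroupOf P).Normal := ⟨fun x hx k => hn k k.2 x hx⟩
  haveI := hP.simple
  have hCP : C.subgroupOf P = ⊤ := by
    rcases Subgroup.Normal.eq_bot_or_eq_top (inferInstance : (C.subgroupOf P).Normal) with h | h
    · refine absurd ?_ (tv_ne_one hv.1)
      have hx : (⟨tv v, hv.2⟩ : P) ∈ C.subgroupOf P :=
        Subgroup.subset_closure ⟨v, ⟨1, P.one_mem, by simp⟩, rfl⟩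
      rw [h] at hx
      exact congrArg Subtype.val (Subgroup.mem_bot.1 hx)
    · exact h
  have hgC : (⟨g, hg⟩ : P) ∈ C.subgroupOf P := by rw [hCP]; exact Subgroup.mem_top _
  suffices h : ∀ x ∈ C, p x ∧ p x⁻¹ from (h g hgC).1
  intro x hx
  induction hx using Subgroup.closure_induction with
  | mem x hx =>
    obtain ⟨u, ⟨k, hk, rfl⟩, rfl⟩ := hx
    exact ⟨ht k hk, by rw [tv_inv]; exact ht k hk⟩
  | one => exact ⟨h1, by simpa using h1⟩
  | mul a b _ _ ha hb => exact ⟨hmul _ _ ha.1 hb.1, by rw [_root_.mul_inv_rev]; exact hmul _ _ hb.2 ha.2⟩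
  | inv a _ ha => exact ⟨ha.2, by simpa using ha.1⟩

theorem Base.not_central (hP : Base P) {x : G4} (hx : x ∈ P) (h : ∀ g ∈ P, g * x = x * g) : x = 1 := by
  haveI := hP.simple
  have hc : (⟨x, hx⟩ : P) ∈ Subgroup.center P := Subgroup.mem_center_iff.2 fun g => Subtype.ext (h g g.2)
  rcases Subgroup.Normal.eq_bot_or_eq_top (inferInstance : (Subgroup.center P).Normal) with e | e
  · rw [e] at hc
    exact congrArg Subtype.val (Subgroup.mem_bot.1 hc)
  · exact absurd ⟨⟨fun a b => (Subgroup.mem_center_iff.1 (e ▸ Subgroup.mem_top a : a ∈ Subgroup.center P) b).symm⟩⟩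
      hP.nonabelian

/-- The graph of non-orthogonality on the transvection vectors is connected. -/
theorem Base.connected (hP : Base P) {p : V → Prop} {x₀ : V} (hx₀ : x₀ ∈ Dv P) (h₀ : p x₀)
    (hstep : ∀ x ∈ Dv P, ∀ y ∈ Dv P, p x → altForm4 x y ≠ 0 → p y) {y : V} (hy : y ∈ Dv P) : p y := by
  by_contra hpy
  have hperp : ∀ x ∈ Dv P, p x → ∀ z ∈ Dv P, ¬ p z → altForm4 x z = 0 := fun x hx hpx z hz hpz => by
    by_contra h
    exact hpz (hstep x hx z hz hpx h)
  have hC : ∀ g ∈ P, ∀ x ∈ Dv P, p x → p (g.1 *ᵥ x) := by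
    intro g hg
    refine (hP.induction hx₀ (p := fun g => g ∈ P ∧ ∀ x ∈ Dv P, p x → p (g.1 *ᵥ x)) ⟨P.one_mem, by simp⟩ ?_ ?_ hg).2
    · rintro a b ⟨haP, ha⟩ ⟨hbP, hb⟩
      refine ⟨P.mul_mem haP hbP, fun x hx hpx => ?_⟩
      rw [Units.val_mul, ← Matrix.mulVec_mulVec]
      exact ha _ (Dv.map hP hx hbP) (hb x hx hpx)
    · intro u hu
      refine ⟨hu.2, fun x hx hpx => ?_⟩
      rw [tv_apply]
      by_cases hc : altForm4 x u = 0
      · simpa [hc] using hpx
      refine hstep x hx _ (Dv.refl hP hu hx) hpx ?_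
      rw [f_add_right, f_self, f_smul_right, zero_add]
      exact mul_ne_zero hc hc
  refine tv_ne_one hy.1 (hP.not_central hy.2 fun g hg => ?_)
  refine hP.induction_conj hx₀ (p := fun g => g * tv y = tv y * g) (by simp) ?_ ?_ hg
  · intro a b ha hb
    rw [mul_assoc, hb, ← mul_assoc, ha, mul_assoc]
  · intro k hk
    exact tv_commute (hperp _ (Dv.map hP hx₀ hk) (hC k hk x₀ hx₀ h₀) y hy hpy)

theorem Base.exists_nonperp (hP : Base P) {x : V} (hx : x ∈ Dv P) : ∃ y ∈ Dv P, altForm4 x y ≠ 0 := by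
  by_contra h
  push Not at h
  exact hx.1 (hP.eq_zero_of_perp hx h)

theorem Base.span_top (hP : Base P) {v : V} (hv : v ∈ Dv P) : Submodule.span F (Dv P) = ⊤ := by
  by_contra h
  obtain ⟨φ, hφ0, hφ⟩ := Submodule.exists_le_ker_of_lt_top _ (lt_top_iff_ne_top.2 h)
  let w : V := fun i => φ (Pi.single i.rev 1)
  have hw : ∀ x : V, altForm4 w x = φ x := fun x => by
    have e : x = ∑ i, x i • (Pi.single i 1 : V) := pi_eq_sum_univ' x
    conv_rhs => rw [e]
    simp [altForm4, w, Fin.sum_univ_four, Fin.rev]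
    ring
  have := hP.eq_zero_of_perp hv (w := w) fun u hu => by
    rw [hw]; exact LinearMap.mem_ker.1 (hφ (Submodule.subset_span hu))
  exact hφ0 (LinearMap.ext fun x => by rw [← hw, this]; simp)

/-- If all products of transvection vectors lie in a subfield, it is the whole field. -/
theorem Base.eq_top_of_products (hP : Base P) {v : V} (hv : v ∈ Dv P) {K : Subfield F}
    (h : ∀ x ∈ Dv P, ∀ y ∈ Dv P, altForm4 x y ∈ K) : K = ⊤ := by
  by_contra hK
  obtain ⟨g, hg, n, hgtr⟩ := hP.coeffs K hK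
  refine hgtr ?_
  classical
  obtain ⟨s, hs, htop, hli⟩ := exists_linearIndependent F (Dv P)
  rw [hP.span_top hv] at htop
  let b : Module.Basis s F V := Module.Basis.mk hli (by rw [Subtype.range_coe, htop])
  have : Finite s := LinearIndependent.finite hli
  have : Fintype s := Fintype.ofFinite s
  have hcard : Fintype.card s = 4 := by
    rw [← Module.finrank_eq_card_basis b, Module.finrank_fintype_fun_eq_card, Fintype.card_fin]
  let e : Fin 4 ≃ s := (Fintype.equivFinOfCardEq hcard).symm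
  let B : M4 := Matrix.of fun i j => (e j : V) i
  have hB : IsUnit B := by
    rw [← Matrix.linearIndependent_cols_iff_isUnit]
    exact hli.comp e e.injective
  have hBd : IsUnit B.det := (Matrix.isUnit_iff_isUnit_det B).1 hB
  have hent : ∀ (A : M4) i j, (Bᵀ * J4 * A * B) i j = altForm4 (e i : V) (A *ᵥ (e j : V)) := fun A i j => by
    rw [altForm4_eq, Matrix.mul_assoc, Matrix.mul_assoc]
    simp only [Matrix.mul_apply, dotProduct, Matrix.mulVec, Matrix.transpose_apply, B, Matrix.of_apply]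
  have hN : ∀ i j, (Bᵀ * J4 * (1 : M4) * B) i j ∈ K := fun i j => by
    rw [hent, Matrix.one_mulVec]; exact h _ (hs (e i).2) _ (hs (e j).2)
  have hH : ∀ i j, (Bᵀ * J4 * g.1 * B) i j ∈ K := fun i j => by
    rw [hent]; exact h _ (hs (e i).2) _ (Dv.map hP (hs (e j).2) hg)
  let R' : Matrix (Fin 4) (Fin 4) K := Matrix.of fun i j => ⟨(Bᵀ * J4 * (1 : M4) * B) i j, hN i j⟩
  have hmapR : Bᵀ * J4 * (1 : M4) * B = R'.map K.subtype := rfl
  have hJd : IsUnit (J4).det := IsUnit.of_mul_eq_one _ (by rw [← Matrix.det_mul, J_sq, Matrix.det_one])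
  have hRd : IsUnit (Bᵀ * J4 * (1 : M4) * B).det := by
    rw [Matrix.mul_one, Matrix.det_mul, Matrix.det_mul, Matrix.det_transpose]
    exact (hBd.mul hJd).mul hBd
  have hdet : R'.det ≠ 0 := by
    intro h0
    refine hRd.ne_zero ?_
    rw [hmapR, ← RingHom.mapMatrix_apply, ← RingHom.map_det, h0, map_zero]
  have hinv : (Bᵀ * J4 * (1 : M4) * B)⁻¹ = R'⁻¹.map K.subtype := by
    refine Matrix.inv_eq_right_inv ?_
    rw [hmapR, ← Matrix.map_mul, Matrix.mul_nonsing_inv _ (Ne.isUnit hdet), Matrix.map_one _ (map_zero _) (map_one _)]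
  let H' : Matrix (Fin 4) (Fin 4) K := Matrix.of fun i j => ⟨(Bᵀ * J4 * g.1 * B) i j, hH i j⟩
  have hconj : (Bᵀ * J4 * (1 : M4) * B)⁻¹ * (Bᵀ * J4 * g.1 * B) = B⁻¹ * g.1 * B := by
    have hBT : IsUnit Bᵀ.det := by rwa [Matrix.det_transpose]
    rw [Matrix.mul_one, Matrix.mul_inv_rev, Matrix.mul_inv_rev, Matrix.inv_eq_right_inv (J_sq (F := F))]
    simp only [mul_assoc]
    rw [← mul_assoc Bᵀ⁻¹, Matrix.nonsing_inv_mul _ hBT, one_mul, ← mul_assoc J4 J4, J_sq, one_mul]
  have hch : g.1.charpoly = (R'⁻¹ * H').charpoly.map K.subtype := by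
    rw [← Matrix.charpoly_map, Matrix.map_mul, ← hinv, show H'.map K.subtype = Bᵀ * J4 * g.1 * B from rfl, hconj]
    exact (Matrix.charpoly_units_conj' hB.unit g.1).symm.trans (by rw [IsUnit.unit_spec])
  rw [hch, Polynomial.coeff_map]
  exact SetLike.coe_mem _

end CfsgLib.Sp4Even
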