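import Cfsg.Agent.Lib.Sp4Even.Rational
import Cfsg.Agent.Lib.ZStar.Main

/-!
Transvection vectors no two of which are proportional: commuting pairs and the class.
-/

set_option autoImplicit false

namespace CfsgLib.Sp4Even

open Matrix Cfsg.Lie

variable {F : Type*} [Field F] [CharP F 2] [Fintype F]

local notation "V" => (Fin 4 → F)
local notation "G4" => Matrix.GeneralLinearGroup (Fin 4) F

variable {P : Subgroup (Matrix.GeneralLinearGroup (Fin 4) F)}

/-- No two transvection vectors are proportional. -/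
def Uniq (P : Subgroup G4) : Prop := ∀ x ∈ Dv P, ∀ m : F, m • x ∈ Dv P → m = 1

/-- `b` is a transvection vector orthogonal to, and different from, `a`. -/
def Nb (P : Subgroup G4) (a b : V) : Prop := b ∈ Dv P ∧ altForm4 a b = 0 ∧ b ≠ a

theorem Nb.symm {a b : V} (ha : a ∈ Dv P) (h : Nb P a b) : Nb P b a :=
  ⟨ha, by rw [f_comm]; exact h.2.1, h.2.2.symm⟩

/-- Neighbours are independent. -/
theorem Nb.not_smul (hU : Uniq P) {a b : V} (ha : a ∈ Dv P) (h : Nb P a b) (m : F) : b ≠ m • a := fun e =>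
  h.2.2 (by rw [e, hU a ha m (e ▸ h.1), one_smul])

theorem Nb.indep (hU : Uniq P) {a b : V} (ha : a ∈ Dv P) (h : Nb P a b) {r s : F} (e : r • a + s • b = 0) :
    r = 0 ∧ s = 0 := by
  by_cases hs : s = 0
  · subst hs
    exact ⟨by simpa [ha.1] using e, rfl⟩
  · refine absurd ?_ (h.not_smul hU ha (r / s))
    have : s • b = r • a := (CharTwo.add_eq_zero.1 e).symm
    rw [div_eq_inv_mul, mul_smul, ← this, inv_smul_smul₀ hs]

theorem not_dvd_of_isolated (hP : Base P) {v : V} (hv : v ∈ Dv P) :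
    ∃ g ∈ P, altForm4 v (g.1 *ᵥ v) = 0 ∧ g.1 *ᵥ v ≠ v := by
  by_contra h
  push Not at h
  haveI := hP.simple
  set t : P := ⟨tv v, hv.2⟩
  have ht : orderOf t = 2 := orderOf_eq_prime (by rw [sq]; exact Subtype.ext (tv_sq v))
    (fun e => tv_ne_one hv.1 (congrArg Subtype.val e))
  have hiso : Cfsg.IsIsolated t := by
    intro g hc
    have e : ((g * t * g⁻¹ : P) : G4) = tv (g.1.1 *ᵥ v) := by rw [← tv_conj (hP.le g.2)]; rfl
    have hc' : Commute (tv v) (tv (g.1.1 *ᵥ v)) := by
      have := congrArg Subtype.val hc.eq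
      show tv v * tv (g.1.1 *ᵥ v) = tv (g.1.1 *ᵥ v) * tv v
      rw [← e]
      exact this
    have h0 : altForm4 v (g.1.1 *ᵥ v) = 0 := by
      have h1 := tv_conj (tv_mem v) (g.1.1 *ᵥ v)
      rw [hc'.eq, mul_inv_cancel_right] at h1
      have h2 := tv_injective h1
      rw [tv_apply, left_eq_add, f_comm] at h2
      exact (smul_eq_zero.1 h2).resolve_right hv.1
    exact Subtype.ext (e.trans (by rw [h g.1 g.2 h0]))
  have hz := CfsgLib.ZStar.inZStar ht hiso
  rcases Subgroup.Normal.eq_bot_or_eq_top (inferInstance : (Cfsg.pPrimeCore 2 P).Normal) with hb | hb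
  · refine tv_ne_one hv.1 (hP.not_central hv.2 fun g hg => ?_)
    have hcm := hz ⟨g, hg⟩
    rw [hb, Subgroup.mem_bot, mul_inv_eq_one, mul_inv_eq_iff_eq_mul] at hcm
    exact congrArg Subtype.val hcm
  · refine (CfsgLib.not_dvd_card_pPrimeCore Nat.prime_two : ¬ 2 ∣ Nat.card (Cfsg.pPrimeCore 2 P)) ?_
    rw [hb, Nat.card_congr Subgroup.topEquiv.toEquiv, ← ht]
    exact orderOf_dvd_natCard t

theorem exists_nb (hP : Base P) {a : V} (ha : a ∈ Dv P) : ∃ b, Nb P a b := by
  obtain ⟨g, hg, h0, hne⟩ := not_dvd_of_isolated hP ha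
  exact ⟨_, Dv.map hP ha hg, h0, hne⟩

/-- A symplectic map fixing a hyperbolic pair and both members of an orthogonal one is trivial. -/
theorem eq_one_of_fix {g : G4} (hg : g ∈ Sp4 F) {x y : V} (hc : altForm4 x y ≠ 0)
    (hx : g.1 *ᵥ x = x) (hy : g.1 *ᵥ y = y) (hperp : ∀ z : V, altForm4 z x = 0 → altForm4 z y = 0 → g.1 *ᵥ z = z) :
    g = 1 := by
  refine gl_ext fun w => ?_
  set c := altForm4 x y with hcdef
  set p := (altForm4 w y / c) • x + (altForm4 w x / c) • y
  have hz : g.1 *ᵥ (w + p) = w + p := by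
    refine hperp _ ?_ ?_ <;>
      simp [p, f_add_left, f_smul_left, f_comm y x, ← hcdef, div_mul_cancel₀ _ hc, CharTwo.add_self_eq_zero]
  have hp : g.1 *ᵥ p = p := by simp [p, Matrix.mulVec_add, Matrix.mulVec_smul, hx, hy]
  rw [Units.val_one, Matrix.one_mulVec]
  rw [Matrix.mulVec_add, hp, add_left_inj] at hz
  exact hz

/-- The product of two non-commuting transvections has odd order. -/
theorem odd_orderOf (x y : V) (hc : altForm4 x y ≠ 0) : Odd (orderOf (tv x * tv y)) := by
  rcases Nat.even_or_odd (orderOf (tv x * tv y)) with ⟨k, hk⟩ | h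
  swap
  · exact h
  exfalso
  have hxy : ∀ w : V, altForm4 w x = 0 → altForm4 w y = 0 → (tv x * tv y).1 *ᵥ w = w := fun w hx hy => by
    rw [Units.val_mul, ← Matrix.mulVec_mulVec, tv_apply y, hy, zero_smul, add_zero, tv_apply, hx, zero_smul, add_zero]
  set g := tv x * tv y with hg
  have hgm : g ∈ Sp4 F := (Sp4 F).mul_mem (tv_mem x) (tv_mem y)
  have hz2 : g ^ k * g ^ k = 1 := by rw [← pow_add, ← hk, pow_orderOf_eq_one]
  have hk0 : 0 < k := by have := orderOf_pos g; omega
  have hzm : g ^ k ∈ Sp4 F := (Sp4 F).pow_mem hgm k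
  have key : ∀ u : V, tv u * g * tv u = g⁻¹ → (g ^ k).1 *ᵥ u = u := by
    intro u hu
    refine tv_injective ?_
    have h1 : tv u * g ^ k * tv u = g ^ k := by
      have h := conj_pow (i := k) (a := tv u) (b := g)
      rw [tv_inv] at h
      rw [← h, hu, inv_pow, inv_eq_of_mul_eq_one_right hz2]
    rw [← tv_conj hzm, mul_inv_eq_iff_eq_mul]
    calc g ^ k * tv u = (tv u * g ^ k * tv u) * tv u := by rw [h1]
      _ = tv u * g ^ k := by rw [mul_assoc (tv u * g ^ k), tv_sq, mul_one]
  have hfx := key x (by rw [hg, _root_.mul_inv_rev, tv_inv, tv_inv, ← mul_assoc (tv x) (tv x), tv_sq, one_mul])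
  have hfy := key y (by rw [hg, _root_.mul_inv_rev, tv_inv, tv_inv, mul_assoc (tv y), mul_assoc (tv x), tv_sq, mul_one])
  have h1 : g ^ k = 1 := eq_one_of_fix hzm hc hfx hfy fun w hwx hwy => by
    induction k with
    | zero => simp
    | succ n ih =>
      clear ih
      have : ∀ m : ℕ, (g ^ m).1 *ᵥ w = w := by
        intro m
        induction m with
        | zero => simp
        | succ m ih => rw [pow_succ, Units.val_mul, ← Matrix.mulVec_mulVec, hxy w hwx hwy, ih]
      exact this _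
  have := Nat.le_of_dvd hk0 (orderOf_dvd_of_pow_eq_one h1)
  omega

/-- All transvection vectors are conjugate. -/
theorem exists_conj (hP : Base P) {a b : V} (ha : a ∈ Dv P) (hb : b ∈ Dv P) : ∃ g ∈ P, g.1 *ᵥ a = b := by
  refine hP.connected (p := fun b => ∃ g ∈ P, g.1 *ᵥ a = b) ha ⟨1, P.one_mem, by simp⟩ ?_ hb
  rintro x hx y hy ⟨g, hg, rfl⟩ hc
  set x := g.1 *ᵥ a
  obtain ⟨m, hm⟩ := odd_orderOf x y hc
  set r := tv x * tv y
  refine ⟨r ^ m * g, P.mul_mem (P.pow_mem (P.mul_mem hx.2 hy.2) m) hg, ?_⟩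
  rw [Units.val_mul, ← Matrix.mulVec_mulVec]
  refine tv_injective ?_
  rw [← tv_conj ((Sp4 F).pow_mem ((Sp4 F).mul_mem (tv_mem x) (tv_mem y)) m)]
  -- `tv x` conjugated by a power of `tv x * tv y`
  have hinv : tv x * r * tv x = r⁻¹ := by
    simp only [r, _root_.mul_inv_rev, tv_inv, ← mul_assoc, tv_sq, one_mul]
  have h : tv x * (r ^ m)⁻¹ = r ^ m * tv x := by
    have h := conj_pow (i := m) (a := tv x) (b := r)
    rw [tv_inv, hinv, inv_pow] at h
    rw [h, ← mul_assoc, ← mul_assoc, tv_sq, one_mul]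
  rw [mul_assoc, h, ← mul_assoc, ← pow_add, ← two_mul]
  have h2 : r ^ (2 * m) * r = 1 := by rw [← pow_succ, ← hm, pow_orderOf_eq_one]
  rw [eq_inv_of_mul_eq_one_left h2]
  simp only [r, _root_.mul_inv_rev, tv_inv, mul_assoc, tv_sq, mul_one]

/-- A vector orthogonal to two hyperbolic pairs that are orthogonal to each other vanishes. -/
theorem eq_zero_of_perp_four {x y e k w : V} (hc : altForm4 x y ≠ 0) (hek : altForm4 e k ≠ 0)
    (hex : altForm4 e x = 0) (hey : altForm4 e y = 0) (hkx : altForm4 k x = 0) (hky : altForm4 k y = 0)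
    (h1 : altForm4 w x = 0) (h2 : altForm4 w y = 0) (h3 : altForm4 w e = 0) (h4 : altForm4 w k = 0) : w = 0 := by
  have hind : LinearIndependent F ![x, y, e, k] := by
    rw [Fintype.linearIndependent_iff]
    intro g hg
    simp [Fin.sum_univ_four] at hg
    have g1 := congrArg (fun t => altForm4 t y) hg
    have g2 := congrArg (fun t => altForm4 t x) hg
    have g3 := congrArg (fun t => altForm4 t k) hg
    have g4 := congrArg (fun t => altForm4 t e) hg
    simp [f_add_left, f_smul_left, f_comm y x, f_comm x e, f_comm y e, f_comm x k, f_comm y k, f_comm k e, hex, hey,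
      hkx, hky, hc, hek] at g1 g2 g3 g4
    intro i
    fin_cases i <;> assumption
  have htop := hind.span_eq_top_of_card_eq_finrank (by simp)
  by_contra hw
  obtain ⟨z, hz⟩ := exists_f_ne hw
  have hmem : z ∈ Submodule.span F (Set.range ![x, y, e, k]) := by rw [htop]; exact Submodule.mem_top
  obtain ⟨g, hg⟩ := (Submodule.mem_span_range_iff_exists_fun F).1 hmem
  refine hz ?_
  rw [← hg, f_comm]
  simp [Fin.sum_univ_four, f_add_right, f_smul_right, h1, h2, h3, h4]

/-- In the plane orthogonal to a hyperbolic pair, a vector orthogonal to `e` is a multiple of `e`. -/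
theorem eq_smul_of_perp {x y e w : V} (hc : altForm4 x y ≠ 0) (hex : altForm4 e x = 0) (hey : altForm4 e y = 0)
    (he : e ≠ 0) (h1 : altForm4 w x = 0) (h2 : altForm4 w y = 0) (h3 : altForm4 w e = 0) : ∃ l : F, w = l • e := by
  obtain ⟨t, ht⟩ := exists_f_ne he
  set c := altForm4 x y with hcdef
  set k := t + ((altForm4 t y / c) • x + (altForm4 t x / c) • y) with hk
  have hkx : altForm4 k x = 0 ∧ altForm4 k y = 0 := by
    constructor <;>
      simp [hk, f_add_left, f_smul_left, f_comm y x, ← hcdef, div_mul_cancel₀ _ hc, CharTwo.add_self_eq_zero]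
  have hek : altForm4 e k = altForm4 t e := by
    simp [hk, f_add_right, f_smul_right, hex, hey, f_comm e t]
  refine ⟨altForm4 w k / altForm4 e k, CharTwo.add_eq_zero.1 (eq_zero_of_perp_four hc (hek ▸ ht) hex hey hkx.1 hkx.2
    ?_ ?_ ?_ ?_)⟩ <;>
    simp [f_add_left, f_smul_left, hex, hey, h1, h2, h3, hek, ht, CharTwo.add_self_eq_zero]

/-- For an orthogonal pair, a transvection vector meeting both in different non-zero values has a common
neighbour with both. -/
theorem exists_kill (hP : Base P) (hU : Uniq P) {u w d : V} (hu : u ∈ Dv P) (hw : Nb P u w) (hd : d ∈ Dv P)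
    (h1 : altForm4 d u ≠ 0) (h3 : altForm4 d u ≠ altForm4 d w) :
    ∃ h ∈ Dv P, altForm4 h u = 0 ∧ altForm4 h w = 0 ∧ altForm4 d h = 0 := by
  have h2 : (2 : F) = 0 := CharTwo.two_eq_zero
  set s := tv u * tv w with hs
  have hsP : s ∈ P := P.mul_mem hu.2 hw.1.2
  have hsS : s ∈ Sp4 F := hP.le hsP
  have hsx : ∀ x : V, s.1 *ᵥ x = x + (altForm4 x u • u + altForm4 x w • w) := fun x => by
    rw [hs, Units.val_mul, ← Matrix.mulVec_mulVec, tv_apply, tv_apply, f_add_left, f_smul_left, f_comm w u, hw.2.1,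
      mul_zero, add_zero]
    abel
  set d' := s.1 *ᵥ d with hd'
  have hd'D : d' ∈ Dv P := Dv.map hP hd hsP
  have hdd : altForm4 d d' ≠ 0 := by
    rw [hd', hsx]
    simp only [f_add_right, f_self, f_smul_right, zero_add]
    intro e
    have e2 : (altForm4 d u + altForm4 d w) * (altForm4 d u + altForm4 d w) = 0 := by
      linear_combination e + (altForm4 d u * altForm4 d w) * h2
    exact h3 (CharTwo.add_eq_zero.1 (mul_self_eq_zero.1 e2))
  have hss : s * s = 1 := by
    rw [hs, mul_assoc, ← mul_assoc (tv w), ← (tv_commute hw.2.1).eq, mul_assoc (tv u) (tv w), tv_sq, mul_one, tv_sq]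
  have hsinv : s⁻¹ = s := inv_eq_of_mul_eq_one_right hss
  clear_value s
  set r := s * tv d with hr
  have hr2 : r ^ 2 = tv d' * tv d := by
    rw [sq, hr, hd', ← tv_conj hsS, hsinv]
    simp only [mul_assoc]
  obtain ⟨m, hm⟩ := odd_orderOf d' d (by rwa [f_comm])
  rw [← hr2] at hm
  clear_value r
  set k := 2 * m + 1
  have hk : r ^ (2 * k) = 1 := by rw [pow_mul, ← hm, pow_orderOf_eq_one]
  set z := r ^ k with hz
  have hzz : z * z = 1 := by rw [hz, ← pow_add, ← two_mul, hk]
  have hzinv : z⁻¹ = z := inv_eq_of_mul_eq_one_right hzz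
  have hrP : r ∈ P := hr ▸ P.mul_mem hsP hd.2
  have hzP : z ∈ P := P.pow_mem hrP k
  have hzS : z ∈ Sp4 F := hP.le hzP
  have hsrs : s * r * s = r⁻¹ := by
    rw [hr, _root_.mul_inv_rev, tv_inv, hsinv, ← mul_assoc, hss, one_mul]
  have hdrd : tv d * r * tv d = r⁻¹ := by
    rw [hr, _root_.mul_inv_rev, tv_inv, hsinv, mul_assoc (tv d), mul_assoc s, tv_sq, mul_one]
  have hcom : ∀ x : G4, x * x = 1 → x * r * x = r⁻¹ → x * z = z * x := by
    intro x hxx hx
    have h : x * z * x = z := by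
      have h := conj_pow (i := k) (a := x) (b := r)
      rw [inv_eq_of_mul_eq_one_right hxx, hx, inv_pow, ← hz, hzinv] at h
      exact h.symm
    calc x * z = x * z * x * x := by rw [mul_assoc (x * z), hxx, mul_one]
      _ = z * x := by rw [h]
  have hzs := hcom s hss hsrs
  have hzd : z.1 *ᵥ d = d := tv_injective (by
    rw [← tv_conj hzS, ← hcom (tv d) (tv_sq d) hdrd, mul_inv_cancel_right])
  have hzd' : z.1 *ᵥ d' = d' := by
    rw [hd', Matrix.mulVec_mulVec, ← Units.val_mul, ← hzs, Units.val_mul, ← Matrix.mulVec_mulVec, hzd]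
  -- `z` is not trivial
  have hz1 : z ≠ 1 := by
    intro e
    have h1 : tv d * (r ^ m)⁻¹ = r ^ m * tv d := by
      have h := conj_pow (i := m) (a := tv d) (b := r)
      rw [tv_inv, hdrd, inv_pow] at h
      rw [h, ← mul_assoc, ← mul_assoc, tv_sq, one_mul]
    have hq : r ^ (2 * m) = r⁻¹ := eq_inv_of_mul_eq_one_left (by rw [← pow_succ]; exact e)
    have hconj : tv ((tv d).1 *ᵥ ((r ^ m).1 *ᵥ d)) = s := by
      rw [← tv_conj (tv_mem d), ← tv_conj (hP.le (P.pow_mem hrP m)), mul_assoc (r ^ m), h1, ← mul_assoc (r ^ m),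
        ← pow_add, ← two_mul, hq, hr, _root_.mul_inv_rev, tv_inv, hsinv, ← mul_assoc, ← mul_assoc, tv_sq, one_mul,
        mul_assoc, tv_sq, mul_one]
    generalize (tv d).1 *ᵥ ((r ^ m).1 *ᵥ d) = x at hconj
    have hy : ∀ y : V, altForm4 y u • u + altForm4 y w • w = altForm4 y x • x := fun y => by
      have := congrArg (fun g : G4 => g.1 *ᵥ y) hconj
      simp only [hsx, tv_apply, add_right_inj] at this
      exact this.symm
    obtain ⟨y, hy0⟩ := exists_f_ne hu.1
    have hyx : altForm4 y x ≠ 0 := fun e0 => hy0 (hw.indep hU hu (by rw [hy y, e0, zero_smul])).1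
    set α := altForm4 y u / altForm4 y x
    set β := altForm4 y w / altForm4 y x
    have hx' : x = α • u + β • w := by
      have h := congrArg (fun t : V => (altForm4 y x)⁻¹ • t) (hy y)
      simp only [inv_smul_smul₀ hyx, smul_add, smul_smul] at h
      rw [← h]
      simp [α, β, div_eq_inv_mul]
    have hall : ∀ t : V, altForm4 t (β • u + α • w) = 0 := fun t => by
      have h := hy t
      have e' : (altForm4 t u + altForm4 t x * α) • u + (altForm4 t w + altForm4 t x * β) • w = 0 := by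
        rw [hx'] at h ⊢
        calc _ = (altForm4 t u • u + altForm4 t w • w) + altForm4 t (α • u + β • w) • (α • u + β • w) := by module
          _ = 0 := by rw [h, CharTwo.add_self_eq_zero]
      obtain ⟨e1, e2⟩ := hw.indep hU hu e'
      rw [f_add_right, f_smul_right, f_smul_right]
      linear_combination β * e1 + α * e2 - (α * β * altForm4 t x) * h2
    have h0 : β • u + α • w = 0 := by
      by_contra hne
      obtain ⟨t, ht⟩ := exists_f_ne hne
      exact ht (hall t)
    exact div_ne_zero hy0 hyx (hw.indep hU hu h0).2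
  obtain ⟨y, hy⟩ : ∃ y : V, z.1 *ᵥ y + y ≠ 0 := by
    by_contra h
    push Not at h
    exact hz1 (gl_ext fun y => by rw [Units.val_one, Matrix.one_mulVec]; exact CharTwo.add_eq_zero.1 (h y))
  set e := z.1 *ᵥ y + y with he
  have hself : ∀ x t : V, altForm4 (z.1 *ᵥ x + x) t = altForm4 x (z.1 *ᵥ t + t) := fun x t => by
    have : altForm4 (z.1 *ᵥ x) t = altForm4 x (z.1 *ᵥ t) := by
      conv_lhs => rw [← f_map hzS, Matrix.mulVec_mulVec, ← Units.val_mul, hzz, Units.val_one, Matrix.one_mulVec]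
    rw [f_add_left, f_add_right, this]
  have hNd : ∀ x : V, altForm4 (z.1 *ᵥ x + x) d = 0 ∧ altForm4 (z.1 *ᵥ x + x) d' = 0 := fun x => by
    constructor <;> rw [hself] <;> simp [hzd, hzd', CharTwo.add_self_eq_zero]
  have hNe : ∀ x : V, altForm4 (z.1 *ᵥ x + x) e = 0 := fun x => by
    rw [hself, he, Matrix.mulVec_add, Matrix.mulVec_mulVec, ← Units.val_mul, hzz, Units.val_one, Matrix.one_mulVec,
      add_comm (z.1 *ᵥ y) y, CharTwo.add_self_eq_zero, f_zero_right]
  obtain ⟨t0, ht0⟩ := exists_f_ne hy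
  have hprop : ∀ x : V, ∃ l : F, z.1 *ᵥ x + x = l • e := fun x =>
    eq_smul_of_perp hdd (hNd y).1 (hNd y).2 hy (hNd x).1 (hNd x).2 (hNe x)
  have hey : altForm4 e y ≠ 0 := by
    obtain ⟨l, hl⟩ := hprop t0
    intro e0
    apply ht0
    have := hself t0 y
    rw [hl, f_smul_left, e0, mul_zero] at this
    exact this.symm
  obtain ⟨ν, hν⟩ := (Finite.injective_iff_surjective.1 (frobenius_inj F 2)) (altForm4 e y)⁻¹
  rw [frobenius_def] at hν
  have hν0 : ν ≠ 0 := fun e0 => inv_ne_zero hey (by rw [← hν, e0, zero_pow two_ne_zero])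
  have hztv : z = tv (ν • e) := gl_ext fun x => by
    obtain ⟨l, hl⟩ := hprop x
    have := hself x y
    rw [hl, f_smul_left, ← he] at this
    have hl' : l = altForm4 x e * (altForm4 e y)⁻¹ := by rw [← this, mul_inv_cancel_right₀ hey]
    rw [tv_apply, f_smul_right, smul_smul, ← CharTwo.add_eq_zero.1 (show z.1 *ᵥ x + (x + l • e) = 0 by
      rw [← add_assoc, hl, CharTwo.add_self_eq_zero]) |>.symm, hl', ← hν]
    congr 2
    ring
  have hhD : ν • e ∈ Dv P := ⟨smul_ne_zero hν0 hy, hztv ▸ hzP⟩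
  refine ⟨ν • e, hhD, ?_⟩
  have hsh : s.1 *ᵥ (ν • e) = ν • e := tv_injective (by
    rw [← tv_conj hsS, ← hztv, hzs, mul_inv_cancel_right])
  rw [hsx, add_eq_left] at hsh
  obtain ⟨e1, e2⟩ := hw.indep hU hu hsh
  exact ⟨e1, e2, by rw [f_comm, f_smul_left, he, (hNd y).1, mul_zero]⟩

end CfsgLib.Sp4Even
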