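import Cfsg.Agent.Lib.Sp4Even.Basic

/-!
The exceptional endomorphism `g ↦ g*` of the symplectic group in characteristic two.
-/

set_option autoImplicit false
set_option maxHeartbeats 1600000

namespace CfsgLib.Sp4Even

open Matrix Cfsg.Lie CfsgLib.Suzuki

variable {F : Type*} [Field F] [CharP F 2]

local notation "V" => (Fin 4 → F)
local notation "M4" => Matrix (Fin 4) (Fin 4) F
local notation "J4" => (CfsgLib.Suzuki.J : Matrix (Fin 4) (Fin 4) F)
local notation "G4" => Matrix.GeneralLinearGroup (Fin 4) F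

theorem det_eq_one {g : G4} (hg : g ∈ Sp4 F) : g.1.det = 1 := by
  have h := det_eq_one_of_sq hg
  have h' : (g.1.det - 1) * (g.1.det - 1) = 0 := by
    linear_combination h + (1 - g.1.det) * (CharTwo.two_eq_zero : (2 : F) = 0)
  exact sub_eq_zero.1 (mul_self_eq_zero.1 h')

theorem star4_symp {g : G4} (hg : g ∈ Sp4 F) : (star4 g.1)ᵀ * J4 * star4 g.1 = J4 := by
  have h2 : (2 : F) = 0 := CharTwo.two_eq_zero
  have key : ∀ i j k l : Fin 4, g.1 0 i * g.1 3 j + g.1 1 i * g.1 2 j + g.1 2 i * g.1 1 j + g.1 3 i * g.1 0 j = 0 →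
      g.1 0 k * g.1 3 l + g.1 1 k * g.1 2 l + g.1 2 k * g.1 1 l + g.1 3 k * g.1 0 l = 0 →
      (g.1 0 i * g.1 1 j - g.1 1 i * g.1 0 j) * (g.1 2 k * g.1 3 l - g.1 3 k * g.1 2 l) +
      (g.1 0 i * g.1 2 j - g.1 2 i * g.1 0 j) * (g.1 1 k * g.1 3 l - g.1 3 k * g.1 1 l) +
      (g.1 1 i * g.1 3 j - g.1 3 i * g.1 1 j) * (g.1 0 k * g.1 2 l - g.1 2 k * g.1 0 l) +
      (g.1 2 i * g.1 3 j - g.1 3 i * g.1 2 j) * (g.1 0 k * g.1 1 l - g.1 1 k * g.1 0 l) =
        (g.1.submatrix id ![i, j, k, l]).det := by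
    intro i j k l hc hd
    simp [Matrix.det_succ_row_zero, Fin.sum_univ_succ, Fin.succAbove]
    linear_combination (norm := (ring_nf <;> simp [h2]))
      (g.1 1 k * g.1 2 l + g.1 2 k * g.1 1 l) * hc + (g.1 1 i * g.1 2 j + g.1 2 i * g.1 1 j) * hd
  have hdet := det_eq_one hg
  ext r r'
  have hk := key (pairOf r).1 (pairOf r).2 (pairOf r').1 (pairOf r').2
    (by rw [col_rel hg, J_pairOf]) (by rw [col_rel hg, J_pairOf])
  have hlhs : ((star4 g.1)ᵀ * J4 * star4 g.1) r r' =
      (g.1.submatrix id ![(pairOf r).1, (pairOf r).2, (pairOf r').1, (pairOf r').2]).det := by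
    rw [← hk]
    simp [Matrix.mul_apply, Fin.sum_univ_four, CfsgLib.Suzuki.J, star4, pairOf]
    ring
  rw [hlhs]
  fin_cases r <;> fin_cases r' <;>
    simp [Matrix.det_succ_row_zero, Fin.sum_univ_succ, Fin.succAbove, CfsgLib.Suzuki.J, pairOf] at hdet ⊢ <;>
    first
      | linear_combination hdet
      | linear_combination (norm := (ring_nf <;> simp [h2])) hdet
      | linear_combination (norm := (ring_nf <;> simp [h2])) (0 : F) * hdet

theorem star4_star4 {g : G4} (hg : g ∈ Sp4 F) : star4 (star4 g.1) = g.1.map (fun x => x ^ 2) := by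
  have h2 : (2 : F) = 0 := CharTwo.two_eq_zero
  have hadj : g.1.adjugate = J4 * g.1ᵀ * J4 := by
    rw [← inv_eq hg]
    calc g.1.adjugate = g.1.adjugate * (g.1 * (g⁻¹).1) := by
          rw [← Units.val_mul, mul_inv_cancel, Units.val_one, Matrix.mul_one]
      _ = (g⁻¹).1 := by rw [← Matrix.mul_assoc, Matrix.adjugate_mul, det_eq_one hg, one_smul, Matrix.one_mul]
  ext a b
  have h := congrFun (congrFun hadj b.rev) a.rev
  fin_cases a <;> fin_cases b <;>
    simp [star4, pairOf, Matrix.adjugate_fin_succ_eq_det_submatrix, Matrix.det_fin_three, Fin.succAbove, Fin.rev,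
      Matrix.mul_apply, Fin.sum_univ_four, CfsgLib.Suzuki.J] at h ⊢
  · linear_combination (norm := (ring_nf <;> simp [h2])) g.1 0 0 * h
  · linear_combination (norm := (ring_nf <;> simp [h2])) g.1 0 1 * h
  · linear_combination (norm := (ring_nf <;> simp [h2])) g.1 0 2 * h
  · linear_combination (norm := (ring_nf <;> simp [h2])) g.1 0 3 * h
  · linear_combination (norm := (ring_nf <;> simp [h2])) g.1 1 0 * h
  · linear_combination (norm := (ring_nf <;> simp [h2])) g.1 1 1 * h
  · linear_combination (norm := (ring_nf <;> simp [h2])) g.1 1 2 * h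
  · linear_combination (norm := (ring_nf <;> simp [h2])) g.1 1 3 * h
  · linear_combination (norm := (ring_nf <;> simp [h2])) g.1 2 0 * h
  · linear_combination (norm := (ring_nf <;> simp [h2])) g.1 2 1 * h
  · linear_combination (norm := (ring_nf <;> simp [h2])) g.1 2 2 * h
  · linear_combination (norm := (ring_nf <;> simp [h2])) g.1 2 3 * h
  · linear_combination (norm := (ring_nf <;> simp [h2])) g.1 3 0 * h
  · linear_combination (norm := (ring_nf <;> simp [h2])) g.1 3 1 * h
  · linear_combination (norm := (ring_nf <;> simp [h2])) g.1 3 2 * h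
  · linear_combination (norm := (ring_nf <;> simp [h2])) g.1 3 3 * h

/-- The endomorphism `g ↦ g*`. -/
def starHom : Sp4 F →* G4 where
  toFun g := ⟨star4 g.1.1, star4 (g.1⁻¹).1,
    by rw [← star4_mul g.2 ((Sp4 F).inv_mem g.2), mul_inv_cancel, Units.val_one, star4_one],
    by rw [← star4_mul ((Sp4 F).inv_mem g.2) g.2, inv_mul_cancel, Units.val_one, star4_one]⟩
  map_one' := Units.ext star4_one
  map_mul' g h := Units.ext (star4_mul g.2 h.2)

theorem starHom_val (g : Sp4 F) : (starHom g).1 = star4 g.1.1 := rfl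

theorem starHom_mem (g : Sp4 F) : starHom g ∈ Sp4 F := (mem_Sp4_iff _).2 (star4_symp g.2)

theorem starHom_injective : Function.Injective (starHom : Sp4 F → G4) := by
  intro g h e
  have hv : star4 g.1.1 = star4 h.1.1 := congrArg Units.val e
  have := (star4_star4 g.2).symm.trans ((congrArg star4 hv).trans (star4_star4 h.2))
  refine Subtype.ext (Units.ext (Matrix.ext fun i j => ?_))
  exact frobenius_inj F 2 (by simpa [frobenius_def] using congrFun (congrFun this i) j)

/-- The trace of `g*` is the coefficient of the square in the characteristic polynomial. -/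
theorem star4_trace {g : G4} (hg : g ∈ Sp4 F) : (star4 g.1).trace = g.1.charpoly.coeff 2 := by
  have h2 : (2 : F) = 0 := CharTwo.two_eq_zero
  rw [charpoly_four]
  have r03 := col_rel hg 0 3
  have r12 := row_rel hg 1 2
  simp [CfsgLib.Suzuki.J] at r03 r12
  rw [Polynomial.coeff_add, Polynomial.coeff_sub, Polynomial.coeff_add, Polynomial.coeff_sub]
  simp only [Polynomial.coeff_C_mul, Polynomial.coeff_X_pow, Polynomial.coeff_C, Polynomial.coeff_X]
  simp [e2, Matrix.trace, Matrix.diag_apply, Fin.sum_univ_four, star4, pairOf]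
  linear_combination (norm := (ring_nf <;> simp [h2])) r03 + r12

/-- The symplectic group is transitive on non-zero vectors. -/
theorem exists_map_vec {u v : V} (hu : u ≠ 0) (hv : v ≠ 0) [Finite F] :
    ∃ h ∈ Sp4 F, h.1 *ᵥ u = v := by
  have step : ∀ u v : V, altForm4 u v ≠ 0 → ∃ h ∈ Sp4 F, h.1 *ᵥ u = v := by
    intro u v hc
    obtain ⟨μ, hμ⟩ := (Finite.injective_iff_surjective.1 (frobenius_inj F 2)) (altForm4 u v)⁻¹
    rw [frobenius_def] at hμ
    refine ⟨tv (μ • (u + v)), tv_mem _, ?_⟩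
    rw [tv_apply, f_smul_right, smul_smul, f_add_right, f_self, zero_add, mul_right_comm, ← _root_.sq, hμ,
      inv_mul_cancel₀ hc, one_smul, ← add_assoc, CharTwo.add_self_eq_zero, zero_add]
  obtain ⟨w1, hw1⟩ := exists_f_ne hu
  obtain ⟨w2, hw2⟩ := exists_f_ne hv
  obtain ⟨w, hwu, hwv⟩ : ∃ w : V, altForm4 w u ≠ 0 ∧ altForm4 w v ≠ 0 := by
    by_cases h1 : altForm4 w1 v = 0
    · by_cases h2 : altForm4 w2 u = 0
      · exact ⟨w1 + w2, by rwa [f_add_left, h2, add_zero], by rwa [f_add_left, h1, zero_add]⟩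
      · exact ⟨w2, h2, hw2⟩
    · exact ⟨w1, hw1, h1⟩
  obtain ⟨h1, h1m, e1⟩ := step u w (by rwa [f_comm])
  obtain ⟨h2, h2m, e2⟩ := step w v hwv
  exact ⟨h2 * h1, (Sp4 F).mul_mem h2m h1m, by rw [Units.val_mul, ← Matrix.mulVec_mulVec, e1, e2]⟩

theorem star4_stab {g : M4} (h : ∀ k : Fin 4, k ≠ 0 → g k 0 = 0) {x : V} (hx : x 2 = 0 ∧ x 3 = 0) :
    (star4 g *ᵥ x) 2 = 0 ∧ (star4 g *ᵥ x) 3 = 0 := by
  constructor <;>
    simp [Matrix.mulVec, dotProduct, Fin.sum_univ_four, star4, pairOf, hx.1, hx.2, h 1 (by decide), h 2 (by decide),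
      h 3 (by decide)]

end CfsgLib.Sp4Even
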