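import Cfsg.Agent.Lib.Suzuki.Partition
import Mathlib.FieldTheory.Finite.Basic

/-!
In a Suzuki group over `q` elements every element `z` of order not dividing four is conjugate to `z ^ q`.
-/

set_option autoImplicit false

namespace CfsgLib.Sp4Even

open CfsgLib.Suzuki Matrix Polynomial
open scoped Pointwise

variable {F : Type*} [Field F] [Fintype F] {m : ℕ} (hF : Fintype.card F = 2 ^ (2 * m + 1))
include hF

theorem fpf_isConj_pow (hm : 1 ≤ m) {x : ↥(Cfsg.Sz F m)} (hx1 : x ≠ 1) (hx : FPF x)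
    (hN : Nat.card (Subgroup.normalizer
      (Subgroup.centralizer ({x} : Set ↥(Cfsg.Sz F m)) : Set ↥(Cfsg.Sz F m))) =
        4 * Nat.card (Subgroup.centralizer ({x} : Set ↥(Cfsg.Sz F m)))) :
    IsConj x (x ^ Fintype.card F) := by
  classical
  haveI : Fact (Irreducible x.1.1.charpoly) := ⟨charpoly_irreducible hF hm hx1 hx⟩
  set μ := x.1.1.charpoly with hμ
  set A := Subgroup.centralizer ({x} : Set ↥(Cfsg.Sz F m)) with hA
  set N := Subgroup.normalizer (A : Set ↥(Cfsg.Sz F m)) with hNdef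
  let Y := {y : ↥(Cfsg.Sz F m) // y ∈ A ∧ ∃ g, g * x * g⁻¹ = y}
  have hxA : x ∈ A := by rw [hA, Subgroup.mem_centralizer_singleton_iff]
  let f : N ⧸ A.subgroupOf N → Y := fun c =>
    ⟨(c.out : ↥(Cfsg.Sz F m)) * x * (c.out : ↥(Cfsg.Sz F m))⁻¹,
      (Subgroup.mem_normalizer_iff.mp c.out.2 x).mp hxA, _, rfl⟩
  have hf : Function.Injective f := by
    intro a b h
    have h' : (a.out : ↥(Cfsg.Sz F m)) * x * (a.out : ↥(Cfsg.Sz F m))⁻¹ =
        (b.out : ↥(Cfsg.Sz F m)) * x * (b.out : ↥(Cfsg.Sz F m))⁻¹ := congrArg Subtype.val h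
    rw [← QuotientGroup.out_eq' a, ← QuotientGroup.out_eq' b, QuotientGroup.eq, Subgroup.mem_subgroupOf]
    show _ ∈ Subgroup.centralizer ({x} : Set ↥(Cfsg.Sz F m))
    rw [Subgroup.mem_centralizer_singleton_iff]
    push_cast
    calc (a.out : ↥(Cfsg.Sz F m))⁻¹ * b.out * x =
          (a.out : ↥(Cfsg.Sz F m))⁻¹ * (b.out * x * (b.out : ↥(Cfsg.Sz F m))⁻¹) * b.out := by group
      _ = _ := by rw [← h']; group
  have hY : 4 ≤ Nat.card Y := by
    refine le_trans ?_ (Nat.card_le_card_of_injective f hf)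
    have h := Subgroup.card_mul_index (A.subgroupOf N)
    rw [Nat.card_congr (Subgroup.subgroupOfEquivOfLe Subgroup.le_normalizer).toEquiv, hN,
      mul_comm 4, Subgroup.index_eq_card] at h
    exact (Nat.eq_of_mul_eq_mul_left Nat.card_pos h).ge
  choose P hP using fun y : Y => exists_poly hF hm hx1 hx y.2.1
  set R := (μ.map (AdjoinRoot.of μ)).roots.toFinset with hR
  have hmem : ∀ Q : F[X], AdjoinRoot.mk μ Q ∈ R ↔ aeval (AdjoinRoot.mk μ Q) μ = 0 := fun Q => by
    rw [hR, Multiset.mem_toFinset, mem_roots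
      ((Polynomial.map_ne_zero_iff (AdjoinRoot.of μ).injective).mpr (Matrix.charpoly_monic _).ne_zero),
      IsRoot.def, Polynomial.eval_map]
    rfl
  have hroot : ∀ y, AdjoinRoot.mk μ (P y) ∈ R := by
    intro y
    obtain ⟨g, hg⟩ := y.2.2
    have hch : y.1.1.1.charpoly = μ := by
      rw [← hg, hμ, mat_mul, Matrix.charpoly_mul_comm, ← mat_mul, inv_mul_cancel_left]
    have h0 : aeval x.1.1 (μ.comp (P y)) = 0 := by
      rw [aeval_comp, ← hP y, ← hch, Matrix.aeval_self_charpoly]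
    rw [aeval_eq_zero_iff hF hm hx1 hx, ← hμ, ← AdjoinRoot.mk_eq_zero, ← AdjoinRoot.aeval_eq,
      aeval_comp, AdjoinRoot.aeval_eq] at h0
    rw [hmem]
    exact h0
  let Φ : Y → R := fun y => ⟨AdjoinRoot.mk μ (P y), hroot y⟩
  have hΦ : Function.Injective Φ := by
    intro a b h
    have h' := congrArg Subtype.val h
    change AdjoinRoot.mk μ (P a) = AdjoinRoot.mk μ (P b) at h'
    rw [AdjoinRoot.mk_eq_mk, hμ, ← aeval_eq_zero_iff hF hm hx1 hx, map_sub, sub_eq_zero] at h'
    exact Subtype.ext (mat_injective ((hP a).trans (h'.trans (hP b).symm)))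
  have hR4 : R.card ≤ 4 := by
    refine (Multiset.toFinset_card_le _).trans ((Polynomial.card_roots' _).trans ?_)
    rw [Polynomial.natDegree_map, hμ, Matrix.charpoly_natDegree_eq_dim, Fintype.card_fin]
  have hsurj : Function.Surjective Φ := by
    refine (hΦ.bijective_of_nat_card_le ?_).2
    rw [Nat.card_eq_fintype_card, Fintype.card_coe]
    exact hR4.trans hY
  have hq : AdjoinRoot.mk μ (X ^ Fintype.card F) ∈ R := by
    rw [hmem, map_pow, AdjoinRoot.mk_X, ← Polynomial.expand_aeval, FiniteField.expand_card, map_pow,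
      AdjoinRoot.aeval_eq, AdjoinRoot.mk_self, zero_pow Fintype.card_ne_zero]
  obtain ⟨y, hy⟩ := hsurj ⟨_, hq⟩
  have h' := congrArg Subtype.val hy
  change AdjoinRoot.mk μ (P y) = AdjoinRoot.mk μ (X ^ Fintype.card F) at h'
  rw [AdjoinRoot.mk_eq_mk, hμ, ← aeval_eq_zero_iff hF hm hx1 hx, map_sub, sub_eq_zero, map_pow, aeval_X] at h'
  obtain ⟨g, hg⟩ := y.2.2
  refine isConj_iff.2 ⟨g, hg.trans (mat_injective ((hP y).trans (h'.trans ?_)))⟩
  exact (mat_pow x _).symm

theorem pow_four_or_isConj (hm : 1 ≤ m) (z : ↥(Cfsg.Sz F m)) :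
    z ^ 4 = 1 ∨ IsConj z (z ^ Fintype.card F) := by
  by_cases hz : z = 1
  · left; rw [hz, one_pow]
  obtain ⟨Ap, Am, cp, hAp, np, up, cm, hAm, nm, um, hall⟩ := exists_singer hF hm
  by_cases hf : FPF z
  · right
    have main : ∀ (A : Subgroup ↥(Cfsg.Sz F m)), IsCyclic A → 1 < Nat.card A →
        (∀ u ∈ A, u ≠ 1 → FPF u ∧ Subgroup.centralizer ({u} : Set ↥(Cfsg.Sz F m)) = A) →
        Nat.card (Subgroup.normalizer (A : Set ↥(Cfsg.Sz F m))) = 4 * Nat.card A → z ∈ conjSet A →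
        IsConj z (z ^ Fintype.card F) := by
      rintro A hc hA1 hu hn ⟨-, k, hk⟩
      obtain ⟨a, ha⟩ := hc.exists_generator
      have ha1 : (a : ↥(Cfsg.Sz F m)) ≠ 1 := fun e => by
        have : A = ⊥ := by
          rw [Subgroup.eq_bot_iff_forall]
          intro y hy
          obtain ⟨j, hj⟩ := Subgroup.mem_zpowers_iff.1 (ha ⟨y, hy⟩)
          have := congrArg Subtype.val hj
          simpa [e] using this.symm
        rw [this, Subgroup.card_bot] at hA1
        exact lt_irrefl _ hA1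
      obtain ⟨haf, hac⟩ := hu _ a.2 ha1
      obtain ⟨g, hg⟩ := isConj_iff.1 (fpf_isConj_pow hF hm ha1 haf (by rw [hac]; exact hn))
      obtain ⟨j, hj⟩ := Subgroup.mem_zpowers_iff.1 (ha ⟨_, hk⟩)
      have hz' : z = k * (a : ↥(Cfsg.Sz F m)) ^ j * k⁻¹ := by
        have := congrArg Subtype.val hj
        push_cast at this
        rw [this]; group
      refine isConj_iff.2 ⟨k * g * k⁻¹, ?_⟩
      rw [hz', conj_pow, ← zpow_natCast ((a : ↥(Cfsg.Sz F m)) ^ j), ← _root_.zpow_mul, mul_comm j, _root_.zpow_mul, zpow_natCast,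
        ← hg, conj_zpow]
      group
    obtain ⟨-, hsq, hs4, hq8, -⟩ := arith hF hm _ _ rfl rfl
    rcases hall z hz hf with h | h
    · exact main Ap cp (by rw [hAp]; omega) up (by rw [np, hAp]) h
    · exact main Am cm (by rw [hAm]; omega) um (by rw [nm, hAm]) h
  · simp only [FPF, not_forall, not_not] at hf
    obtain ⟨p, hp, hzp⟩ := hf
    rcases classify_point hF hm hz hp hzp with h | h
    · left
      obtain ⟨-, k, a, b, hab⟩ := h
      have h4 : (k⁻¹ * z * k) ^ 4 = 1 := by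
        have e4 : ∀ u : ↥(Cfsg.Sz F m), u ^ 4 = (u * u) * (u * u) := fun u => by simp only [pow_succ, pow_zero, one_mul, mul_assoc]
        rw [hab, e4, uS_sq, uS_sq, th_zero, zero_mul, uS_zero]
      have e := conj_pow (i := 4) (a := k⁻¹) (b := z)
      rw [inv_inv, h4] at e
      calc z ^ 4 = k * (k⁻¹ * z ^ 4 * k) * k⁻¹ := by group
        _ = 1 := by rw [← e, mul_one, mul_inv_cancel]
    · right
      obtain ⟨-, k, hk⟩ := h
      have h1 := orderOf_dvd_natCard (⟨_, hk⟩ : T hF)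
      rw [card_T] at h1
      have e' : (k⁻¹ * z * k) ^ (2 ^ (2 * m + 1) - 1) = 1 :=
        congrArg Subtype.val (orderOf_dvd_iff_pow_eq_one.1 h1)
      have hq : 1 ≤ 2 ^ (2 * m + 1) := Nat.one_le_two_pow
      generalize hn : 2 ^ (2 * m + 1) - 1 = n at e'
      have e := conj_pow (i := n) (a := k⁻¹) (b := z)
      rw [inv_inv, e'] at e
      have hzn : z ^ n = 1 :=
        calc z ^ n = k * (k⁻¹ * z ^ n * k) * k⁻¹ := by group
          _ = 1 := by rw [← e, mul_one, mul_inv_cancel]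
      rw [show Fintype.card F = n + 1 by rw [hF]; omega, pow_succ, hzn, one_mul]

end CfsgLib.Sp4Even
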