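import Cfsg.Agent.Lib.Sp4Even.Neighbours
import Cfsg.Agent.Lib.Sp4Even.Big
import Cfsg.Agent.Lib.Sp4Even.OddPerm

/-!
The case in which no two neighbours of a transvection vector have proportional images.
-/

set_option autoImplicit false

namespace CfsgLib.Sp4Even

open Matrix Cfsg.Lie

variable {F : Type*} [Field F] [CharP F 2] [Fintype F]

local notation "V" => (Fin 4 → F)
local notation "G4" => Matrix.GeneralLinearGroup (Fin 4) F

variable {P : Subgroup (Matrix.GeneralLinearGroup (Fin 4) F)}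

/-- Images modulo a transvection vector carry one scalar each. -/
def ImgU (P : Subgroup G4) : Prop :=
  ∀ a ∈ Dv P, ∀ b, Nb P a b → ∀ α β : F, Nb P a (α • a + β • b) → β = 1

/-- A vector orthogonal to an orthogonal pair lies in its span. -/
theorem mem_span_of_perp {a b x : V} (ha : a ≠ 0) (hb : ∀ m : F, b ≠ m • a) (hab : altForm4 a b = 0)
    (h1 : altForm4 x a = 0) (h2 : altForm4 x b = 0) : ∃ α β : F, x = α • a + β • b := by
  obtain ⟨t, ht⟩ := exists_f_ne ha
  obtain ⟨t', ht', ht'b⟩ : ∃ t' : V, altForm4 t' a = 0 ∧ altForm4 t' b ≠ 0 := by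
    by_contra h
    push Not at h
    obtain ⟨s, hs⟩ : ∃ s : V, altForm4 s (b + (altForm4 t b / altForm4 t a) • a) ≠ 0 :=
      exists_f_ne fun e => hb _ (CharTwo.add_eq_zero.1 e)
    have := h (s + (altForm4 s a / altForm4 t a) • t)
      (by rw [f_add_left, f_smul_left, div_mul_cancel₀ _ ht, CharTwo.add_self_eq_zero])
    rw [f_add_left, f_smul_left] at this
    refine hs ?_
    rw [f_add_right, f_smul_right, ← this]
    ring
  set u := t + (altForm4 t b / altForm4 t' b) • t' with hu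
  have hua : altForm4 u a = altForm4 t a := by rw [hu, f_add_left, f_smul_left, ht', mul_zero, add_zero]
  have hub : altForm4 u b = 0 := by
    rw [hu, f_add_left, f_smul_left, div_mul_cancel₀ _ ht'b, CharTwo.add_self_eq_zero]
  set k := t' + (altForm4 t' u / altForm4 t a) • a with hk
  have hka : altForm4 k a = 0 := by rw [hk, f_add_left, f_smul_left, ht']; simp
  have hkb : altForm4 k b = altForm4 t' b := by rw [hk, f_add_left, f_smul_left, hab, mul_zero, add_zero]
  have hku : altForm4 k u = 0 := by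
    rw [hk, f_add_left, f_smul_left, f_comm a u, hua, div_mul_cancel₀ _ ht, CharTwo.add_self_eq_zero]
  refine ⟨altForm4 x u / altForm4 t a, altForm4 x k / altForm4 t' b, CharTwo.add_eq_zero.1
    (eq_zero_of_perp_four (x := a) (y := u) (e := b) (k := k) ?_ ?_ ?_ ?_ hka hku ?_ ?_ ?_ ?_)⟩
  · rw [f_comm, hua]; exact ht
  · rw [f_comm, hkb]; exact ht'b
  · rw [f_comm]; exact hab
  · rw [f_comm]; exact hub
  all_goals
    simp [f_add_left, f_smul_left, h1, h2, f_comm a u, f_comm b u, f_comm b k, f_comm a k, f_comm b a, hab, hua, hub,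
      hka, hkb, div_mul_cancel₀ _ ht, div_mul_cancel₀ _ ht'b, CharTwo.add_self_eq_zero]

/-- Vectors orthogonal to `a`, in terms of two neighbours. -/
theorem perp_coords (hU : Uniq P) {a b b' x : V} (ha : a ∈ Dv P) (hb : Nb P a b) (hb' : Nb P a b')
    (he : altForm4 b b' ≠ 0) (hx : altForm4 x a = 0) : ∃ t r s : F, x = t • a + r • b + s • b' := by
  obtain ⟨α, β, h⟩ := mem_span_of_perp (x := x + (altForm4 x b / altForm4 b b') • b') ha.1 (hb.not_smul hU ha) hb.2.1
    (by simp [f_add_left, f_smul_left, hx, f_comm b' a, hb'.2.1])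
    (by rw [f_add_left, f_smul_left, f_comm b' b, div_mul_cancel₀ _ he, CharTwo.add_self_eq_zero])
  refine ⟨α, β, altForm4 x b / altForm4 b b', ?_⟩
  rw [← h, add_assoc, CharTwo.add_self_eq_zero, add_zero]

theorem line_members (hU : Uniq P) (hI : ImgU P) {a b x : V} (ha : a ∈ Dv P) (hb : Nb P a b) (hx : x ∈ Dv P)
    (hxa : altForm4 x a = 0) (hxb : altForm4 x b = 0) : x = a ∨ x = b ∨ x = a + b := by
  by_cases e1 : x = a
  · exact Or.inl e1
  by_cases e2 : x = b
  · exact Or.inr (Or.inl e2)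
  obtain ⟨α, β, rfl⟩ := mem_span_of_perp ha.1 (hb.not_smul hU ha) hb.2.1 hxa hxb
  have hβ := hI a ha b hb α β ⟨hx, by rw [f_comm]; exact hxa, e1⟩
  have hα := hI b hb.1 a (hb.symm ha) β α ⟨by rw [add_comm]; exact hx, by rw [add_comm, f_comm]; exact hxb,
    by rw [add_comm]; exact e2⟩
  exact Or.inr (Or.inr (by rw [hα, hβ, one_smul, one_smul]))

/-- A third vector on one line forces products one and thirds on the adjacent lines. -/
theorem third_step (hP : Base P) (hI : ImgU P) {a b d : V} (ha : a ∈ Dv P) (hd : d ∈ Dv P) (hba : Nb P a b)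
    (hbd : Nb P d b) (hc : altForm4 d a ≠ 0) (ht : a + b ∈ Dv P) : altForm4 d a = 1 ∧ d + b ∈ Dv P := by
  set c := altForm4 d a with hcdef
  have hy0 : d + c • a ∈ Dv P := Dv.refl hP ha hd
  have hy1 : d + c • (a + b) ∈ Dv P := by
    have := Dv.refl hP ht hd
    rwa [f_add_right, hbd.2.1, add_zero, ← hcdef] at this
  have hb0 : altForm4 (d + c • a) b = 0 := by simp [f_add_left, f_smul_left, hbd.2.1, hba.2.1]
  have hbne : b ≠ d + c • a := fun e => hc (by
    have h := congrArg (fun t => altForm4 t a) e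
    simp [f_add_left, f_smul_left, f_comm b a, hba.2.1, ← hcdef] at h
    exact h.symm ▸ rfl)
  have hnb : Nb P (d + c • a) b := ⟨hba.1, hb0, hbne⟩
  have e1 : (1 : F) • (d + c • a) + c • b = d + c • (a + b) := by module
  have hc1 : c = 1 := hI _ hy0 b hnb 1 c (by
    rw [e1]
    refine ⟨hy1, ?_, fun e => ?_⟩
    · rw [← e1, f_add_right, f_smul_right, f_smul_right, hb0, f_self]; simp
    · rw [← e1, one_smul, add_eq_left] at e
      exact smul_ne_zero hc hba.1.1 e)
  refine ⟨hc1, ?_⟩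
  have h := Dv.refl hP hy1 ha
  rw [hc1, one_smul, f_add_right, f_add_right, f_self, f_comm a d, hba.2.1, ← hcdef, hc1] at h
  simp only [add_zero, one_smul] at h
  convert h using 1
  rw [show a + (d + (a + b)) = d + b + (a + a) by abel, CharTwo.add_self_eq_zero, add_zero]

theorem thirds_all (hP : Base P) (hU : Uniq P) (hI : ImgU P) {a0 b0 : V} (ha0 : a0 ∈ Dv P) (hb0 : Nb P a0 b0)
    (h0 : a0 + b0 ∈ Dv P) {x y : V} (hx : x ∈ Dv P) (hxy : Nb P x y) : x + y ∈ Dv P := by
  -- one third at `x` gives all thirds at `x`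
  have hstar : ∀ x ∈ Dv P, ∀ z, Nb P x z → x + z ∈ Dv P → ∀ y, Nb P x y → x + y ∈ Dv P := by
    intro x hx z hz hxz y hy
    by_cases hzy : altForm4 z y = 0
    · rcases line_members hU hI hx hz hy.1 (by rw [f_comm]; exact hy.2.1) (by rw [f_comm]; exact hzy) with e | e | e
      · exact absurd e hy.2.2
      · rw [e]; exact hxz
      · rw [e, ← add_assoc, CharTwo.add_self_eq_zero, zero_add]; exact hz.1
    · rw [add_comm]
      exact (third_step hP hI hz.1 hy.1 (hz.symm hx) (hy.symm hx) (by rw [f_comm]; exact hzy)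
        (by rw [add_comm]; exact hxz)).2
  have hnb : ∀ x ∈ Dv P, (∀ y, Nb P x y → x + y ∈ Dv P) → ∀ y, Nb P x y → ∀ z, Nb P y z → y + z ∈ Dv P :=
    fun x hx h y hy z hz => hstar y hy.1 x (hy.symm hx) (by rw [add_comm]; exact h y hy) z hz
  have hA := hstar a0 ha0 b0 hb0 h0
  by_cases hxa : x = a0
  · rw [hxa] at hxy ⊢; exact hA y hxy
  by_cases hc : altForm4 a0 x = 0
  · exact hnb a0 ha0 hA x ⟨hx, hc, hxa⟩ y hxy
  · obtain ⟨b, hb, hbx⟩ := common_nb hP hU ha0 hx hc
    exact hnb b hb.1 (hnb a0 ha0 hA b hb) x (hbx.symm hx) y hxy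

theorem false_of_thirds (hP : Base P) (hU : Uniq P) (hI : ImgU P) (h4 : 4 ≤ Fintype.card F) {a0 b0 : V}
    (ha0 : a0 ∈ Dv P) (hb0 : Nb P a0 b0) (h0 : a0 + b0 ∈ Dv P) : False := by
  haveI : Fact (Nat.Prime 2) := ⟨Nat.prime_two⟩
  let K : Subfield F := (ZMod.castHom (dvd_refl 2) F).fieldRange
  have hK : K = ⊤ := hP.eq_top_of_products ha0 fun x hx y hy => by
    by_cases hc : altForm4 x y = 0
    · rw [hc]; exact K.zero_mem
    obtain ⟨b, hxb, hyb⟩ := common_nb hP hU hx hy hc
    rw [(third_step hP hI hy hx hyb hxb hc (thirds_all hP hU hI ha0 hb0 h0 hy hyb)).1]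
    exact K.one_mem
  have hsurj : Function.Surjective (ZMod.castHom (dvd_refl 2) F) := fun x => by
    have : x ∈ K := hK ▸ Subfield.mem_top x
    exact RingHom.mem_fieldRange.1 this
  have := Fintype.card_le_of_surjective _ hsurj
  rw [ZMod.card] at this
  omega

/-- Elements fixing both members of a line without a third vector. -/
theorem fix_line (hP : Base P) (hU : Uniq P) (hI : ImgU P) (hno : ∀ x ∈ Dv P, ∀ y, Nb P x y → x + y ∉ Dv P)
    {a b : V} (ha : a ∈ Dv P) (hb : Nb P a b) {g : G4} (hg : g ∈ P) (hga : g.1 *ᵥ a = a) (hgb : g.1 *ᵥ b = b) :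
    g = 1 ∨ g = tv a ∨ g = tv b ∨ g = tv a * tv b := by
  obtain ⟨b1, b2, hb1, hb2, h12⟩ := exists_two_nb hP hU ha
  obtain ⟨b', hb', hbb'⟩ : ∃ b', Nb P a b' ∧ altForm4 b b' ≠ 0 := by
    by_contra h
    push Not at h
    refine h12 ?_
    obtain ⟨α, β, e⟩ := mem_span_of_perp ha.1 (hb.not_smul hU ha) hb.2.1 (by rw [f_comm]; exact hb1.2.1)
      (by rw [f_comm]; exact h b1 hb1)
    rw [e, f_add_left, f_smul_left, f_smul_left, hb2.2.1, h b2 hb2]; simp
  set e := altForm4 b b' with hedef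
  have hnb : Nb P a (g.1 *ᵥ b') := by
    refine ⟨Dv.map hP hb'.1 hg, by rw [← hga, f_map (hP.le hg)]; exact hb'.2.1, fun h => hb'.2.2 ?_⟩
    have := congrArg (fun t => (g⁻¹).1 *ᵥ t) (h.trans hga.symm)
    simpa [Matrix.mulVec_mulVec] using this
  obtain ⟨α, μ, ν, hco⟩ := perp_coords hU ha hb hb' hbb' (x := g.1 *ᵥ b') (by rw [f_comm]; exact hnb.2.1)
  have hν : ν = 1 := by
    have := congrArg (fun t => altForm4 b t) hco
    simp [f_add_right, f_smul_right, f_comm b a, hb.2.1, ← hedef] at this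
    conv_lhs at this => rw [← hgb, f_map (hP.le hg), ← hedef]
    exact mul_right_cancel₀ hbb' (by rw [one_mul]; exact this.symm)
  subst hν
  have hμ : μ = 0 ∨ μ = e := by
    by_contra h
    push Not at h
    have hmove : ∀ r s : F, InD P a ((r + μ * s) • b + s • b') ↔ InD P a (r • b + s • b') := by
      intro r s
      have key : ∀ t : F, g.1 *ᵥ (r • b + s • b' + t • a) = (r + μ * s) • b + s • b' + (α * s + t) • a := fun t => by
        simp only [Matrix.mulVec_add, Matrix.mulVec_smul, hga, hgb, hco]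
        module
      constructor
      · rintro ⟨t, ht⟩
        refine ⟨t + α * s, ?_⟩
        have := Dv.map hP ht (P.inv_mem hg)
        convert this using 1
        have k := key (t + α * s)
        rw [show α * s + (t + α * s) = t by linear_combination (α * s) * (CharTwo.two_eq_zero : (2 : F) = 0)] at k
        rw [← k, Matrix.mulVec_mulVec, ← Units.val_mul, inv_mul_cancel, Units.val_one, Matrix.one_mulVec]
      · rintro ⟨t, ht⟩
        exact ⟨α * s + t, by rw [← key]; exact Dv.map hP ht hg⟩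
    obtain ⟨K, hK, -, -, -, hall⟩ := plane_field_gen hP hb.2.1 hb'.2.1 hbb'
      ⟨0, by simpa using hb.1⟩ ⟨0, by simpa using hb'.1⟩ h.1 h.2 hmove
    obtain ⟨l, hl, hl0, hl1⟩ := exists_scalar hK
    obtain ⟨t, ht⟩ := hall l 0 hl K.zero_mem (Or.inl hl0)
    simp only [zero_smul, add_zero] at ht
    rw [add_comm] at ht
    refine hl1 (hI a ha b hb t l ⟨ht, by simp [f_add_right, f_smul_right, hb.2.1], fun e' => hl0 ?_⟩)
    exact (hb.indep hU ha (r := t + 1) (s := l) (by
      rw [add_smul, one_smul, add_right_comm, e', CharTwo.add_self_eq_zero])).2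
  -- reduce to an element fixing `b'` up to `a`
  obtain ⟨h, hh, hhb, hg'⟩ : ∃ h : G4, (h = 1 ∨ h = tv b) ∧ h.1 *ᵥ b = b ∧
      (h * g).1 *ᵥ b' = α • a + (1 : F) • b' := by
    rcases hμ with rfl | rfl
    · exact ⟨1, Or.inl rfl, by simp, by simp [hco]⟩
    · refine ⟨tv b, Or.inr rfl, by simp [tv_apply], ?_⟩
      rw [Units.val_mul, ← Matrix.mulVec_mulVec, hco, tv_apply]
      simp [f_add_left, f_smul_left, hb.2.1, f_comm b' b, ← hedef]
      rw [show α • a + e • b + b' + e • b = α • a + b' + (e • b + e • b) by abel, CharTwo.add_self_eq_zero, add_zero]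
  have hhP : h ∈ P := by rcases hh with rfl | rfl; exacts [P.one_mem, hb.1.2]
  have hha : h.1 *ᵥ a = a := by rcases hh with rfl | rfl <;> simp [tv_apply, hb.2.1]
  have hgga : (h * g).1 *ᵥ a = a := by rw [Units.val_mul, ← Matrix.mulVec_mulVec, hga, hha]
  have hggb : (h * g).1 *ᵥ b = b := by rw [Units.val_mul, ← Matrix.mulVec_mulVec, hgb, hhb]
  have hgP : h * g ∈ P := P.mul_mem hhP hg
  set g' := h * g with hg'def
  have hgS := hP.le hgP
  have hα : α = 0 := by
    by_contra hα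
    have hD : g'.1 *ᵥ b' ∈ Dv P := Dv.map hP hb'.1 hgP
    rw [hg', one_smul] at hD
    rcases line_members hU hI ha hb' hD (by simp [f_add_left, f_smul_left, f_comm b' a, hb'.2.1])
      (by simp [f_add_left, f_smul_left, hb'.2.1]) with e' | e' | e'
    · have := congrArg (fun t => altForm4 b t) e'
      simp [f_add_right, f_smul_right, f_comm b a, hb.2.1, hbb', ← hedef] at this
    · rw [add_eq_right] at e'
      exact smul_ne_zero hα ha.1 e'
    · rw [e'] at hD; exact hno a ha b' hb' hD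
  rw [hα, zero_smul, zero_add, one_smul] at hg'
  obtain ⟨d, hd, hda⟩ := hP.exists_nonperp ha
  set w := g'.1 *ᵥ d + d with hw
  have hwperp : ∀ t : V, g'.1 *ᵥ t = t → altForm4 w t = 0 := fun t ht => by
    rw [hw, f_add_left]
    conv_lhs => arg 1; rw [← ht, f_map hgS]
    exact CharTwo.add_self_eq_zero _
  obtain ⟨τ, r, s, hwc⟩ := perp_coords hU ha hb hb' hbb' (hwperp a hgga)
  have hr : r = 0 ∧ s = 0 := by
    have e1 := hwperp b hggb
    have e2 := hwperp b' hg'
    simp [hwc, f_add_left, f_smul_left, hb.2.1, hb'.2.1, f_comm b' b, ← hedef, hbb'] at e1 e2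
    exact ⟨e2, e1⟩
  rw [hr.1, hr.2, zero_smul, zero_smul, add_zero, add_zero] at hwc
  obtain ⟨l, hl⟩ : ∃ l : F, g' = tv (l • a) := by
    obtain ⟨l, hl⟩ := (Finite.injective_iff_surjective.1 (frobenius_inj F 2)) (τ / altForm4 a d)
    rw [frobenius_def] at hl
    refine ⟨l, ?_⟩
    set h' := tv (l • a) * g' with hh'
    have hfix : ∀ t : V, g'.1 *ᵥ t = t → altForm4 t a = 0 → h'.1 *ᵥ t = t := fun t ht hta => by
      rw [hh', Units.val_mul, ← Matrix.mulVec_mulVec, ht, tv_apply, f_smul_right, hta]; simp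
    have hd' : h'.1 *ᵥ d = d := by
      have : g'.1 *ᵥ d = d + τ • a := by rw [← hwc, hw, ← add_assoc, add_comm d, add_assoc, CharTwo.add_self_eq_zero, add_zero]
      rw [hh', Units.val_mul, ← Matrix.mulVec_mulVec, this, tv_apply, f_smul_right, smul_smul, f_add_left, f_smul_left,
        f_self, mul_zero, add_zero, f_comm d a, mul_right_comm, ← sq, hl, div_mul_cancel₀ _ hda, add_assoc,
        CharTwo.add_self_eq_zero, add_zero]
    have hh'1 : h' = 1 := by
      have hS : h' ∈ Sp4 F := (Sp4 F).mul_mem (tv_mem _) hgS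
      refine eq_one_of_fix hS hbb' (hfix b hggb (by rw [f_comm]; exact hb.2.1))
        (hfix b' hg' (by rw [f_comm]; exact hb'.2.1)) fun z _ _ => ?_
      have hperp : ∀ t : V, h'.1 *ᵥ t = t → altForm4 (h'.1 *ᵥ z + z) t = 0 := fun t ht => by
        rw [f_add_left]
        conv_lhs => arg 1; rw [← ht, f_map hS]
        exact CharTwo.add_self_eq_zero _
      have hpa := hperp a (hfix a hgga (f_self a))
      set k := d + ((altForm4 d b' / e) • b + (altForm4 d b / e) • b') with hk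
      have hpk : altForm4 (h'.1 *ᵥ z + z) k = 0 := hperp k (by
        rw [hk, Matrix.mulVec_add, Matrix.mulVec_add, Matrix.mulVec_smul, Matrix.mulVec_smul, hd',
          hfix b hggb (by rw [f_comm]; exact hb.2.1), hfix b' hg' (by rw [f_comm]; exact hb'.2.1)])
      refine CharTwo.add_eq_zero.1 (eq_zero_of_perp_four (e := a) (k := k) hbb' ?_ hb.2.1 hb'.2.1 ?_ ?_
        (hperp b (hfix b hggb (by rw [f_comm]; exact hb.2.1)))
        (hperp b' (hfix b' hg' (by rw [f_comm]; exact hb'.2.1))) hpa hpk)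
      · simp [hk, f_add_right, f_smul_right, hb.2.1, hb'.2.1, hda]
      all_goals
        simp [hk, f_add_left, f_smul_left, f_comm b' b, ← hedef, div_mul_cancel₀ _ hbb', CharTwo.add_self_eq_zero]
    rw [hh'] at hh'1
    have := eq_inv_of_mul_eq_one_right hh'1
    rwa [tv_inv] at this
  have hg1 : g' = 1 ∨ g' = tv a := by
    by_cases hl0 : l = 0
    · exact Or.inl (by rw [hl, hl0, zero_smul, tv_zero])
    · have hD : l • a ∈ Dv P := ⟨smul_ne_zero hl0 ha.1, hl ▸ hgP⟩
      exact Or.inr (by rw [hl, hU a ha l hD, one_smul])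
  have hgg : g = h⁻¹ * g' := by rw [hg'def, inv_mul_cancel_left]
  rcases hh with rfl | rfl <;> rcases hg1 with e' | e' <;> rw [hgg, e']
  · left; simp
  · right; left; simp
  · right; right; left; rw [mul_one, tv_inv]
  · right; right; right; rw [tv_inv, (tv_commute hb.2.1).eq]

theorem exists_four {G : Type*} [Group G] {s g : G} (hs : s * s = 1) (hg : g * g = 1 ∨ g * g = s) (hc : g * s = s * g) :
    ∃ M : Subgroup G, ∀ x, x ∈ M ↔ x = 1 ∨ x = s ∨ x = g ∨ x = s * g := by
  have e1 : s * (s * g) = g := by rw [← mul_assoc, hs, one_mul]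
  have e2 : g * (s * g) = s * (g * g) := by rw [← mul_assoc, hc, mul_assoc]
  have e3 : s * g * s = g := by rw [mul_assoc, hc, e1]
  have e4 : s * g * g = s * (g * g) := mul_assoc _ _ _
  have e5 : s * g * (s * g) = g * g := by rw [← mul_assoc, e3]
  have hmul : ∀ x y : G, (x = 1 ∨ x = s ∨ x = g ∨ x = s * g) → (y = 1 ∨ y = s ∨ y = g ∨ y = s * g) →
      x * y = 1 ∨ x * y = s ∨ x * y = g ∨ x * y = s * g := by
    intro x y hx hy
    rcases hg with hg | hg <;> rcases hx with rfl | rfl | rfl | rfl <;> rcases hy with rfl | rfl | rfl | rfl <;>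
      simp only [one_mul, mul_one, true_or, or_true, hs, hc, e1, e2, e3, e4, e5, hg]
  refine ⟨{ carrier := {x | x = 1 ∨ x = s ∨ x = g ∨ x = s * g}
            one_mem' := Or.inl rfl
            mul_mem' := fun {x y} hx hy => hmul x y hx hy
            inv_mem' := fun {x} hx => ?_ }, fun x => Iff.rfl⟩
  rcases hx with rfl | rfl | rfl | rfl
  · exact Or.inl inv_one
  · exact Or.inr (Or.inl (inv_eq_of_mul_eq_one_right hs))
  · rcases hg with hg | hg
    · exact Or.inr (Or.inr (Or.inl (inv_eq_of_mul_eq_one_right hg)))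
    · exact Or.inr (Or.inr (Or.inr (inv_eq_of_mul_eq_one_right (by rw [e2, hg, hs]))))
  · rcases hg with hg | hg
    · exact Or.inr (Or.inr (Or.inr (inv_eq_of_mul_eq_one_right (by rw [e5, hg]))))
    · exact Or.inr (Or.inr (Or.inl (inv_eq_of_mul_eq_one_right (by rw [e4, hg, hs]))))

theorem no_thirds (hP : Base P) (hU : Uniq P) (hI : ImgU P) (hno : ∀ x ∈ Dv P, ∀ y, Nb P x y → x + y ∉ Dv P)
    {a : V} (ha : a ∈ Dv P) : False := by
  haveI := hP.simple
  haveI : Fact (Nat.Prime 2) := ⟨Nat.prime_two⟩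
  obtain ⟨b, hb⟩ := exists_nb hP ha
  set ta : P := ⟨tv a, ha.2⟩ with hta
  set tb : P := ⟨tv b, hb.1.2⟩ with htb
  have hta2 : ta * ta = 1 := Subtype.ext (tv_sq a)
  have htb2 : tb * tb = 1 := Subtype.ext (tv_sq b)
  have hab : Commute ta tb := Subtype.ext (tv_commute hb.2.1).eq
  let W : Subgroup P := Subgroup.closure {ta, tb}
  have hW : ∀ x ∈ W, x = 1 ∨ x = ta ∨ x = tb ∨ x = ta * tb := by
    intro x hx
    induction hx using Subgroup.closure_induction with
    | mem x hx => rcases hx with rfl | rfl <;> tauto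
    | one => exact Or.inl rfl
    | mul x y _ _ hx hy =>
      have e1 : ta * (ta * tb) = tb := by rw [← mul_assoc, hta2, one_mul]
      have e2 : tb * ta = ta * tb := hab.eq.symm
      have e3 : tb * (ta * tb) = ta := by rw [← mul_assoc, e2, mul_assoc, htb2, mul_one]
      have e4 : ta * tb * ta = tb := by rw [mul_assoc, e2, e1]
      have e5 : ta * tb * tb = ta := by rw [mul_assoc, htb2, mul_one]
      have e6 : ta * tb * (ta * tb) = 1 := by rw [← mul_assoc, e4, htb2]
      rcases hx with rfl | rfl | rfl | rfl <;> rcases hy with rfl | rfl | rfl | rfl <;>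
        simp [hta2, htb2, e1, e2, e3, e4, e5, e6]
    | inv x _ hx =>
      rcases hx with rfl | rfl | rfl | rfl
      · simp
      · right; left; exact inv_eq_of_mul_eq_one_right hta2
      · right; right; left; exact inv_eq_of_mul_eq_one_right htb2
      · right; right; right
        rw [_root_.mul_inv_rev, inv_eq_of_mul_eq_one_right hta2, inv_eq_of_mul_eq_one_right htb2, hab.eq]
  have hW2 : IsPGroup 2 W := fun x => ⟨1, by
    rw [pow_one, sq]
    refine Subtype.ext ?_
    rcases hW x.1 x.2 with e | e | e | e <;> rw [Subgroup.coe_mul, e, Subgroup.coe_one]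
    · simp
    · exact hta2
    · exact htb2
    · rw [mul_assoc, ← mul_assoc tb, ← hab.eq, mul_assoc ta tb, htb2, mul_one, hta2]⟩
  obtain ⟨S, hS⟩ := hW2.exists_le_sylow
  have htaS : ta ∈ (S : Subgroup P) := hS (Subgroup.subset_closure (Set.mem_insert _ _))
  have htbS : tb ∈ (S : Subgroup P) := hS (Subgroup.subset_closure (Set.mem_insert_of_mem _ rfl))
  have hab' : a ≠ b := fun e => hb.2.2 e.symm
  have horth : ∀ x : V, ∀ hx : x ∈ Dv P, (⟨tv x, hx.2⟩ : P) ∈ (S : Subgroup P) → ∀ u ∈ Dv P,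
      ∀ hu : tv u ∈ P, (⟨tv u, hu⟩ : P) ∈ (S : Subgroup P) → altForm4 x u = 0 := by
    intro x hx hxS u hu hu2 huS
    by_contra hne
    obtain ⟨k, hk⟩ := S.2 ⟨_, mul_mem hxS huS⟩
    have hk' : (tv x * tv u) ^ 2 ^ k = 1 := by
      have := congrArg (fun z : (S : Subgroup P) => ((z : P) : G4)) hk
      simpa using this
    obtain ⟨m, hm⟩ := odd_orderOf x u hne
    have h1 : orderOf (tv x * tv u) = 1 := by
      refine Nat.eq_one_of_dvd_coprimes (Nat.Coprime.pow_left k ?_) (orderOf_dvd_of_pow_eq_one hk') dvd_rfl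
      rw [hm, Nat.coprime_two_left]; exact ⟨m, rfl⟩
    rw [orderOf_eq_one_iff] at h1
    have h2 := eq_inv_of_mul_eq_one_left h1
    rw [tv_inv] at h2
    exact hne (by rw [tv_injective h2, f_self])
  have hDS : ∀ x ∈ Dv P, ∀ hxP : tv x ∈ P, (⟨tv x, hxP⟩ : P) ∈ (S : Subgroup P) → x = a ∨ x = b := by
    intro x hx hxP hxS
    rcases line_members hU hI ha hb hx (horth x hx hxS a ha ha.2 htaS) (horth x hx hxS b hb.1 hb.1.2 htbS) with
      e | e | e
    · exact Or.inl e
    · exact Or.inr e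
    · exact absurd (e ▸ hx) (hno a ha b hb)
  have hact : ∀ g : P, g ∈ (S : Subgroup P) → (g.1.1 *ᵥ a = a ∧ g.1.1 *ᵥ b = b) ∨ (g.1.1 *ᵥ a = b ∧ g.1.1 *ᵥ b = a) := by
    intro g hg
    have hinj : g.1.1 *ᵥ a ≠ g.1.1 *ᵥ b := fun e => hab' (by
      have := congrArg (fun t => (g.1⁻¹).1 *ᵥ t) e
      simpa [Matrix.mulVec_mulVec] using this)
    have hmem : ∀ u ∈ Dv P, ∀ hu : tv u ∈ P, (⟨tv u, hu⟩ : P) ∈ (S : Subgroup P) →
        g.1.1 *ᵥ u = a ∨ g.1.1 *ᵥ u = b := fun u hu hu2 huS => by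
      have h := Dv.map hP hu g.2
      refine hDS _ h h.2 ?_
      have e : (⟨tv (g.1.1 *ᵥ u), h.2⟩ : P) = g * ⟨tv u, hu2⟩ * g⁻¹ := Subtype.ext (tv_conj (hP.le g.2) u).symm
      rw [e]
      exact mul_mem (mul_mem hg huS) (inv_mem hg)
    rcases hmem a ha ha.2 htaS with e1 | e1 <;> rcases hmem b hb.1 hb.1.2 htbS with e2 | e2
    · exact absurd (e1.trans e2.symm) hinj
    · exact Or.inl ⟨e1, e2⟩
    · exact Or.inr ⟨e1, e2⟩
    · exact absurd (e1.trans e2.symm) hinj
  have hfix : ∀ g : P, g.1.1 *ᵥ a = a → g.1.1 *ᵥ b = b → g = 1 ∨ g = ta ∨ g = tb ∨ g = ta * tb := fun g h1 h2 => by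
    rcases fix_line hP hU hI hno ha hb g.2 h1 h2 with e | e | e | e
    · exact Or.inl (Subtype.ext e)
    · exact Or.inr (Or.inl (Subtype.ext e))
    · exact Or.inr (Or.inr (Or.inl (Subtype.ext e)))
    · exact Or.inr (Or.inr (Or.inr (Subtype.ext e)))
  set s := ta * tb with hs
  have hs2 : s * s = 1 := by rw [hs, mul_assoc, ← mul_assoc tb, ← hab.eq, mul_assoc ta tb, htb2, mul_one, hta2]
  have hsS : s ∈ (S : Subgroup P) := mul_mem htaS htbS
  have hne_ab : ta ≠ tb := fun e => hab' (tv_injective (congrArg Subtype.val e))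
  have hta1 : ta ≠ 1 := fun e => tv_ne_one ha.1 (congrArg Subtype.val e)
  have htb1 : tb ≠ 1 := fun e => tv_ne_one hb.1.1 (congrArg Subtype.val e)
  have htas : ta ≠ s := fun e => htb1 (by simpa [hs] using e)
  have htbs : tb ≠ s := fun e => hta1 (by simpa [hs] using e)
  have hsx : s.1.1 *ᵥ a = a ∧ s.1.1 *ᵥ b = b := by
    constructor <;>
      simp [hs, hta, htb, ← Matrix.mulVec_mulVec, tv_apply, hb.2.1, f_comm b a]
  -- a subgroup of index two of the Sylow subgroup avoiding both transvections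
  obtain ⟨g0, hg0, hg2, hgs, hcover, hnfix⟩ : ∃ g0 : P, g0 ∈ (S : Subgroup P) ∧ (g0 * g0 = 1 ∨ g0 * g0 = s) ∧
      g0 * s = s * g0 ∧
      (∀ x ∈ (S : Subgroup P), ∃ y, (y = 1 ∨ y = g0) ∧ (x * y⁻¹).1.1 *ᵥ a = a ∧ (x * y⁻¹).1.1 *ᵥ b = b) ∧
      (g0 = 1 ∨ g0.1.1 *ᵥ a = b ∧ g0.1.1 *ᵥ b = a) := by
    by_cases hsw : ∃ g0 : P, g0 ∈ (S : Subgroup P) ∧ g0.1.1 *ᵥ a = b ∧ g0.1.1 *ᵥ b = a
    · obtain ⟨g0, hg0, hg0a, hg0b⟩ := hsw
      have hconj : g0 * ta * g0⁻¹ = tb ∧ g0 * tb * g0⁻¹ = ta := by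
        constructor <;> refine Subtype.ext ?_ <;>
          simp only [hta, htb, Subgroup.coe_mul, Subgroup.coe_inv, tv_conj (hP.le g0.2), hg0a, hg0b]
      refine ⟨g0, hg0, ?_, ?_, fun x hx => ?_, Or.inr ⟨hg0a, hg0b⟩⟩
      · have hf : (g0 * g0).1.1 *ᵥ a = a ∧ (g0 * g0).1.1 *ᵥ b = b := by
          constructor <;> rw [Subgroup.coe_mul, Units.val_mul, ← Matrix.mulVec_mulVec]
          · rw [hg0a, hg0b]
          · rw [hg0b, hg0a]
        rcases hfix _ hf.1 hf.2 with e | e | e | e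
        · exact Or.inl e
        · exact absurd (hconj.1.symm.trans (by rw [← e]; group)) hne_ab.symm
        · exact absurd (hconj.2.symm.trans (by rw [← e]; group)) hne_ab
        · exact Or.inr e
      · have : g0 * s * g0⁻¹ = s := by
          rw [hs, show g0 * (ta * tb) * g0⁻¹ = g0 * ta * g0⁻¹ * (g0 * tb * g0⁻¹) by group, hconj.1, hconj.2, hab.eq]
        rwa [mul_inv_eq_iff_eq_mul] at this
      · rcases hact x hx with h | h
        · exact ⟨1, Or.inl rfl, by simpa using h⟩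
        · refine ⟨g0, Or.inr rfl, ?_⟩
          have ea : (g0⁻¹).1.1 *ᵥ a = b := by
            rw [← hg0b, Matrix.mulVec_mulVec, ← Units.val_mul, Subgroup.coe_inv, inv_mul_cancel, Units.val_one,
              Matrix.one_mulVec]
          have eb : (g0⁻¹).1.1 *ᵥ b = a := by
            rw [← hg0a, Matrix.mulVec_mulVec, ← Units.val_mul, Subgroup.coe_inv, inv_mul_cancel, Units.val_one,
              Matrix.one_mulVec]
          constructor <;> rw [Subgroup.coe_mul, Units.val_mul, ← Matrix.mulVec_mulVec]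
          · rw [ea, h.2]
          · rw [eb, h.1]
    · push Not at hsw
      exact ⟨1, one_mem _, Or.inl (mul_one 1), by rw [one_mul, mul_one], fun x hx => ⟨1, Or.inl rfl, by
        simpa using (hact x hx).resolve_right fun h => hsw x hx h.1 h.2⟩, Or.inl rfl⟩
  clear_value s
  obtain ⟨M, hM⟩ := exists_four hs2 hg2 hgs
  have hMS : M ≤ (S : Subgroup P) := fun x hx => by
    rcases (hM x).1 hx with rfl | rfl | rfl | rfl
    exacts [one_mem _, hsS, hg0, mul_mem hsS hg0]
  have hMno : ∀ u : P, u.1.1 *ᵥ a = a → u ≠ 1 → u ≠ s → u ∉ M := by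
    intro u hu hu1 hus hm
    rcases hnfix with rfl | ⟨hg0a, -⟩
    · rcases (hM u).1 hm with rfl | rfl | rfl | rfl
      exacts [hu1 rfl, hus rfl, hu1 rfl, hus (mul_one s)]
    · rcases (hM u).1 hm with e | e | e | e
      · exact hu1 e
      · exact hus e
      · exact hab' (by rw [← hu, e, hg0a])
      · exact hab' (by rw [← hu, e, Subgroup.coe_mul, Units.val_mul, ← Matrix.mulVec_mulVec, hg0a, hsx.2])
  have hMa : ta ∉ M := hMno ta (by simp [hta, tv_apply]) hta1 htas
  have hMb : tb ∉ M := hMno tb (by simp [htb, tv_apply, hb.2.1]) htb1 htbs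
  have hcov : ∀ x ∈ (S : Subgroup P), x ∈ M ∨ x * ta ∈ M := by
    intro x hx
    obtain ⟨y, hy, h1, h2⟩ := hcover x hx
    have hyM : y ∈ M := (hM y).2 (hy.imp_right fun h => Or.inr (Or.inl h))
    have hsM : s ∈ M := (hM s).2 (Or.inr (Or.inl rfl))
    have hyta : y * ta = ta * y ∨ y * ta = tb * y := by
      rcases hy with rfl | rfl
      · exact Or.inl (by rw [one_mul, mul_one])
      · rcases hnfix with rfl | ⟨hg0a, hg0b⟩
        · exact Or.inl (by rw [one_mul, mul_one])
        · refine Or.inr (Subtype.ext ?_)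
          simp only [hta, htb, Subgroup.coe_mul]
          rw [← hg0a, ← tv_conj (hP.le y.2), inv_mul_cancel_right]
    have hxy : x = x * y⁻¹ * y := (inv_mul_cancel_right x y).symm
    rw [hxy]
    rcases hfix _ h1 h2 with e | e | e | e <;> rw [e]
    · exact Or.inl (by rwa [one_mul])
    · right
      rcases hyta with e' | e'
      · rw [mul_assoc, e', ← mul_assoc, hta2, one_mul]; exact hyM
      · rw [mul_assoc, e', ← mul_assoc, ← hs]; exact mul_mem hsM hyM
    · right
      rcases hyta with e' | e'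
      · rw [mul_assoc, e', ← mul_assoc, ← hab.eq, ← hs]; exact mul_mem hsM hyM
      · rw [mul_assoc, e', ← mul_assoc, htb2, one_mul]; exact hyM
    · exact Or.inl (mul_mem hsM hyM)
  have hMidx : M.relIndex (S : Subgroup P) = 2 := by
    refine Subgroup.index_eq_two_iff.2 ⟨⟨ta, htaS⟩, fun x => ?_⟩
    show Xor ((x.1 * ta : P) ∈ M) (x.1 ∈ M)
    rcases hcov x.1 x.2 with hx | hx
    · exact Or.inr ⟨hx, fun hx' => hMa (by simpa using mul_mem (inv_mem hx) hx')⟩
    · exact Or.inl ⟨hx, fun hx' => hMa (by simpa using mul_mem (inv_mem hx') hx)⟩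
  have hidx : M.index = 2 * (S : Subgroup P).index :=
    (Subgroup.relIndex_mul_index hMS).symm.trans (congrArg (· * (S : Subgroup P).index) hMidx)
  have hodd : Odd (S : Subgroup P).index := by
    rw [Nat.odd_iff]
    have := S.not_dvd_index
    omega
  refine false_of_fpf hP.nonabelian hta2 M hodd hidx fun g hg => ?_
  have e : ((g⁻¹ * ta * g : P) : G4) = tv ((g⁻¹).1.1 *ᵥ a) := by
    rw [← tv_conj (hP.le (g⁻¹).2)]; simp [hta]
  have hD := Dv.map hP ha (g⁻¹).2
  have e' : g⁻¹ * ta * g = ⟨tv ((g⁻¹).1.1 *ᵥ a), hD.2⟩ := Subtype.ext e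
  rw [e'] at hg
  generalize (g⁻¹).1.1 *ᵥ a = x at hD hg
  rcases hDS x hD hD.2 (hMS hg) with rfl | rfl
  · exact hMa hg
  · exact hMb hg

theorem false_of_imgU (hP : Base P) (hU : Uniq P) (hI : ImgU P) (h4 : 4 ≤ Fintype.card F) {a : V} (ha : a ∈ Dv P) :
    False := by
  by_cases h : ∃ x ∈ Dv P, ∃ y, Nb P x y ∧ x + y ∈ Dv P
  · obtain ⟨x, hx, y, hy, hxy⟩ := h
    exact false_of_thirds hP hU hI h4 hx hy hxy
  · push Not at h
    exact no_thirds hP hU hI h ha

end CfsgLib.Sp4Even
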